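import Cfsg.Agent.H36.U52.Compare
import Cfsg.Agent.Lib.FieldFour
import Cfsg.Agent.H771.KTools_m3
import Cfsg.Agent.S0780
import Cfsg.Agent.LieClassical.FieldTransfer
import Cfsg.Agent.H906.Cover_m3
import Cfsg.Agent.S2089
import Cfsg.Agent.FastGrp
import Cfsg.Agent.Prune
set_option linter.all false
prune_inst 0x7ffdadfbfbfcb9dfdfff7e7ffededffdf9b9bfffe6dff9cbffe061ffabdffb8ac9c56bad8fea93fe1ef7e23410f87b53fffffeffea6ffc7ffffdfff41ffbffdffdf7b508519c88b40fbc0ff603f07f8e7f3fffffffffffffffffffffffffffbeffbfffffffff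
open scoped Cfsg.Agent.FastGrp

-- part: H36/U52/Tr
section
/-!
# Traces and the determinant of `c`
-/

set_option autoImplicit false
set_option linter.unusedSectionVars false

namespace Cfsg.Agent.H36.U52

open Module

universe u v

variable {K : Type u} {V : Type v} [Field K] [AddCommGroup V] [Module K V] [FiniteDimensional K V]
variable {e : El (Module.End K V)} {i s σ : K}

local notation "Tr" => LinearMap.trace K V

theorem tr_eq_zero (h2 : (2 : K) ≠ 0) {M B B' : Module.End K V} (h : B * B' = 1) (hM : B' * M * B = -M) :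
    Tr M = 0 := by
  have h1 : Tr (B' * M * B) = Tr M := by
    rw [mul_assoc, LinearMap.trace_mul_comm, mul_assoc, h, mul_one]
  rw [hM, map_neg] at h1
  have h3 : (2 : K) * Tr M = 0 := by linear_combination -h1
  exact (mul_eq_zero.1 h3).resolve_left h2

theorem tr_proj (W : Submodule K V) (T : Module.End K V) (h2 : (2 : K) ≠ 0) (h1 : ∀ x, T x ∈ W)
    (h : ∀ x ∈ W, T x = (2 : K) • x) : Tr T = 2 * (finrank K W : K) := by
  have h3 : LinearMap.IsProj W ((2 : K)⁻¹ • T) := by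
    constructor
    · intro x
      rw [LinearMap.smul_apply]
      exact W.smul_mem _ (h1 x)
    · intro x hx
      rw [LinearMap.smul_apply, h x hx, smul_smul, inv_mul_cancel₀ h2, one_smul]
  have h4 := h3.trace
  rw [map_smul, smul_eq_mul] at h4
  rw [← h4, ← mul_assoc, mul_inv_cancel₀ h2, one_mul]

variable (H : Good e i) (hVm : finrank K (Vm e) = 8)
include H

theorem tr_one_sub (hVm : finrank K (Vm e) = 8) : Tr (1 - e.z1) = 16 := by
  rw [tr_proj (Vm e) (1 - e.z1) H.two _ _, hVm]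
  · norm_num
  · intro x
    rw [mem_Vm, LinearMap.sub_apply, Module.End.one_apply, map_sub, H.rel.vz1z1]; abel
  · intro x hx
    rw [LinearMap.sub_apply, Module.End.one_apply, mem_Vm.1 hx]; module

theorem tr_one_add (hVp : finrank K (Vp e) = 3) : Tr (1 + e.z1) = 6 := by
  rw [tr_proj (Vp e) (1 + e.z1) H.two _ _, hVp]
  · norm_num
  · intro x
    rw [mem_Vp, LinearMap.add_apply, Module.End.one_apply, map_add, H.rel.vz1z1]; abel
  · intro x hx
    rw [LinearMap.add_apply, Module.End.one_apply, mem_Vp.1 hx]; module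

theorem b3inv : e.b3 * (e.z1 * e.b3) = 1 ∧ e.a3 * (e.z1 * e.a3) = 1 := by
  have D := H.rel
  constructor
  · ext x
    simp only [Module.End.mul_apply, D.vz1b3, D.vb3b3, D.vz1z1, Module.End.one_apply]
  · ext x
    simp only [Module.End.mul_apply, D.vz1a3, D.va3a3, D.vz1z1, Module.End.one_apply]

theorem tr_a3 : Tr (e.a3 * (1 - e.z1)) = 0 := by
  have D := H.rel
  apply tr_eq_zero H.two (b3inv H).1
  ext x
  simp only [Module.End.mul_apply, LinearMap.sub_apply, LinearMap.neg_apply, Module.End.one_apply, map_sub, D.vz1b3,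
    D.va3b3, D.vz1a3, D.vb3b3, D.vz1z1]
  abel

theorem tr_b3 : Tr (e.b3 * (1 - e.z1)) = 0 := by
  have D := H.rel
  apply tr_eq_zero H.two (b3inv H).2
  ext x
  simp only [Module.End.mul_apply, LinearMap.sub_apply, LinearMap.neg_apply, Module.End.one_apply, map_sub, D.vz1b3,
    D.va3b3, D.vz1a3, D.va3a3, D.vz1z1]
  abel

theorem tr_a3b3 : Tr (e.a3 * e.b3 * (1 - e.z1)) = 0 := by
  have D := H.rel
  apply tr_eq_zero H.two (b3inv H).2
  ext x
  simp only [Module.End.mul_apply, LinearMap.sub_apply, LinearMap.neg_apply, Module.End.one_apply, map_sub, D.vz1b3,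
    D.va3b3, D.vz1a3, D.va3a3, D.vz1z1]
  abel

theorem tr_c (hVm : finrank K (Vm e) = 8) (hs : CS e s) : Tr (e.c * (1 - e.z1)) = -8 * s := by
  have D := H.rel
  have h1 : (2 : K) • (e.c * (1 - e.z1)) =
      -(s • ((1 - e.z1) + e.a3 * (1 - e.z1) + e.b3 * (1 - e.z1) + e.a3 * e.b3 * (1 - e.z1))) := by
    ext x
    have h3 := hs (x - e.z1 x) (by rw [map_sub, D.vz1z1]; abel)
    exact h3
  have h2 := congrArg Tr h1
  rw [map_smul, map_neg, map_smul, map_add, map_add, map_add, tr_a3 H, tr_b3 H, tr_a3b3 H, tr_one_sub H hVm,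
    smul_eq_mul, smul_eq_mul] at h2
  have h3 : (2 : K) * (Tr (e.c * (1 - e.z1)) - -8 * s) = 0 := by linear_combination h2
  exact sub_eq_zero.1 ((mul_eq_zero.1 h3).resolve_left H.two)

theorem cc_eq (hs : CS e s) (x : V) (hx : e.z1 x = -x) :
    (2 : K) • e.c (e.c x) = (s ^ 2) • (e.a3 x + e.b3 x + e.a3 (e.b3 x) - x) := by
  have D := H.rel
  have h1 := hs x hx
  have h3 : e.z1 (e.c x) = -(e.c x) := by rw [D.vz1c, hx, map_neg]
  have h2 := hs (e.c x) h3
  have h4 : (4 : K) • e.c (e.c x) = (s ^ 2) • TT e (TT e x) := by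
    have e1 : (4 : K) • e.c (e.c x) = (2 : K) • ((2 : K) • e.c (e.c x)) := by rw [smul_smul]; norm_num
    have e2 : (2 : K) • TT e (e.c x) = TT e ((2 : K) • e.c x) := by
      simp only [TT, map_smul, smul_add]
    rw [e1, h2, smul_neg, smul_comm, e2, h1]
    have e3 : TT e (-(s • TT e x)) = -(s • TT e (TT e x)) := by
      simp only [TT, map_neg, map_smul, map_add, smul_add]; abel
    rw [e3, smul_neg, neg_neg, smul_smul, pow_two]
  have h5 : TT e (TT e x) = (2 : K) • (e.a3 x + e.b3 x + e.a3 (e.b3 x) - x) := by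
    simp only [TT, map_add, D.vb3b3, D.va3b3, D.va3a3, D.vz1a3, D.vz1b3, hx, map_neg]
    module
  rw [h5] at h4
  have h6 : (2 : K) • ((2 : K) • e.c (e.c x)) = (2 : K) • ((s ^ 2) • (e.a3 x + e.b3 x + e.a3 (e.b3 x) - x)) := by
    rw [smul_comm (2 : K) (s ^ 2), ← h4, smul_smul]; norm_num
  exact smul_right_injective V H.two h6

theorem tr_cc (hVm : finrank K (Vm e) = 8) (hs : CS e s) : Tr (e.c * e.c * (1 - e.z1)) = -8 * s ^ 2 := by
  have D := H.rel
  have h1 : (2 : K) • (e.c * e.c * (1 - e.z1)) =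
      (s ^ 2) • (e.a3 * (1 - e.z1) + e.b3 * (1 - e.z1) + e.a3 * e.b3 * (1 - e.z1) - (1 - e.z1)) := by
    ext x
    exact cc_eq H hs (x - e.z1 x) (by rw [map_sub, D.vz1z1]; abel)
  have h2 := congrArg Tr h1
  rw [map_smul, map_smul, map_sub, map_add, map_add, tr_a3 H, tr_b3 H, tr_a3b3 H, tr_one_sub H hVm,
    smul_eq_mul, smul_eq_mul] at h2
  have h3 : (2 : K) * (Tr (e.c * e.c * (1 - e.z1)) - -8 * s ^ 2) = 0 := by linear_combination h2
  exact sub_eq_zero.1 ((mul_eq_zero.1 h3).resolve_left H.two)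

theorem tr_ze (hVp : finrank K (Vp e) = 3) (P : Plus e σ) : Tr (e.ze * (1 + e.z1)) = 6 * σ := by
  have D := H.rel
  have h1 : e.ze * (1 + e.z1) = σ • (1 + e.z1) := by
    ext x
    exact P.ze (x + e.z1 x) (by rw [map_add, D.vz1z1]; abel)
  rw [h1, map_smul, tr_one_add H hVp, smul_eq_mul, mul_comm]

theorem tr_zeze (hVp : finrank K (Vp e) = 3) (P : Plus e σ) : Tr (e.ze * e.ze * (1 + e.z1)) = 6 * σ ^ 2 := by
  have D := H.rel
  have h1 : e.ze * e.ze * (1 + e.z1) = (σ ^ 2) • (1 + e.z1) := by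
    ext x
    have hx : e.z1 (x + e.z1 x) = x + e.z1 x := by rw [map_add, D.vz1z1]; abel
    have h3 := P.ze (x + e.z1 x) hx
    change e.ze (e.ze (x + e.z1 x)) = σ ^ 2 • (x + e.z1 x)
    rw [h3, map_smul, h3, smul_smul, pow_two]
  rw [h1, map_smul, tr_one_add H hVp, smul_eq_mul, mul_comm]

/-- in dimension 10, `det c = 1` gives `s = 1` -/
theorem s_eq_one (hV0 : V0 e = ⊥) (hn : finrank K V = 10) (hs : CS e s) (hs3 : s ^ 3 = 1)
    (hdet : LinearMap.det e.c = 1) : s = 1 := by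
  have D := H.rel
  have hs0 : s ≠ 0 := by rintro rfl; simp at hs3
  let A : Module.End K V := e.a3 - e.b3
  let Y : Module.End K V := A * (1 - e.z1) + e.h * A * e.h * (1 + e.z1)
  have Ya : ∀ x, Y x = (e.a3 (x - e.z1 x) - e.b3 (x - e.z1 x)) +
    e.h (e.a3 (e.h (x + e.z1 x)) - e.b3 (e.h (x + e.z1 x))) := fun x => rfl
  -- on `z1 = -1`
  have Ym : ∀ x, e.z1 x = -x → Y x = (2 : K) • (e.a3 x - e.b3 x) := by
    intro x hx
    rw [Ya, hx]
    simp only [sub_neg_eq_add, add_neg_cancel, map_zero, sub_self, add_zero, map_add]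
    module
  have Yp : ∀ x, e.z1 x = x → Y x = (2 : K) • e.h (e.a3 (e.h x) - e.b3 (e.h x)) := by
    intro x hx
    rw [Ya, hx]
    simp only [sub_self, map_zero, zero_add, map_add, map_sub]
    module
  have z1A : ∀ x, e.z1 x = -x → e.z1 (e.a3 x - e.b3 x) = -(e.a3 x - e.b3 x) := by
    intro x hx
    rw [map_sub, D.vz1a3, D.vz1b3, hx, map_neg, map_neg]; abel
  have hz2 : ∀ x, e.z1 x = x → e.z2 x = -x := by
    intro x hx
    have h1 : x + e.z2 x ∈ V0 e := mem_V0.2 ⟨by rw [map_add, D.vz1z2, hx], by rw [map_add, D.vz2z2]; abel⟩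
    rw [hV0, Submodule.mem_bot] at h1
    exact (neg_eq_of_add_eq_zero_right h1).symm
  have hhm : ∀ x, e.z1 x = x → e.z1 (e.h x) = -(e.h x) := by
    intro x hx
    rw [show e.z1 (e.h x) = e.h (e.z2 x) from ap D.z1h x, hz2 x hx, map_neg]
  -- on `z1 = -1`: the identity
  have key : ∀ x, e.z1 x = -x → Y (e.c x) = (s ^ 2) • e.c (e.c (Y x)) := by
    intro x hx
    have hcx : e.z1 (e.c x) = -(e.c x) := by rw [D.vz1c, hx, map_neg]
    have h1 := hs x hx
    have h2 := cc_eq H hs (e.a3 x - e.b3 x) (z1A x hx)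
    rw [Ym _ hcx, Ym _ hx, map_smul, map_smul, h2]
    have h3 : (2 : K) • (e.a3 (e.c x) - e.b3 (e.c x)) = e.a3 ((2 : K) • e.c x) - e.b3 ((2 : K) • e.c x) := by
      simp only [map_smul]; module
    rw [h3, h1]
    have hs4 : s ^ 2 * s ^ 2 = s := by linear_combination s * hs3
    rw [smul_smul, hs4]
    simp only [TT, map_add, map_neg, map_smul, map_sub, D.vb3b3, D.va3b3, D.va3a3, D.vz1a3, D.vz1b3, hx]
    module
  have key2 : ∀ x, e.z1 x = x → Y (e.c x) = (s ^ 2) • e.c (e.c (Y x)) := by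
    intro x hx
    have hm := hhm x hx
    have hcx : e.z1 (e.c x) = e.c x := by rw [D.vz1c, hx]
    have ch : ∀ y, e.c (e.h y) = e.h (e.c y) := fun y => ap D.ch y
    have h1 : Y (e.c x) = e.h (Y (e.c (e.h x))) := by
      rw [Yp _ hcx, Ym _ (by rw [D.vz1c, hm, map_neg]), ch, map_smul]
    have h2 : Y x = e.h (Y (e.h x)) := by
      rw [Yp _ hx, Ym _ hm, map_smul]
    rw [h1, key _ hm, map_smul, h2, ch, ch]
  have tot : Y * e.c = (s ^ 2) • (e.c * e.c * Y) := by
    ext x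
    change Y (e.c x) = (s ^ 2) • e.c (e.c (Y x))
    have e1 : (2 : K) • Y (e.c x) = (2 : K) • ((s ^ 2) • e.c (e.c (Y x))) := by
      have k1 := key (x - e.z1 x) (by rw [map_sub, D.vz1z1]; abel)
      have k2 := key2 (x + e.z1 x) (by rw [map_add, D.vz1z1]; abel)
      have e2 : (2 : K) • Y (e.c x) = Y (e.c (x - e.z1 x)) + Y (e.c (x + e.z1 x)) := by
        simp only [map_sub, map_add]; module
      rw [e2, k1, k2]
      simp only [map_sub, map_add]; module
    exact smul_right_injective V H.two e1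
  -- `Y` is injective
  have four : (4 : K) ≠ 0 := by
    have : (4 : K) = 2 * 2 := by norm_num
    rw [this]
    exact mul_ne_zero H.two H.two
  have eight : (8 : K) ≠ 0 := by
    have : (8 : K) = 2 * 4 := by norm_num
    rw [this]
    exact mul_ne_zero H.two four
  have YYm : ∀ x, e.z1 x = -x → Y (Y x) = -((8 : K) • x) := by
    intro x hx
    rw [Ym _ hx, map_smul, Ym _ (z1A x hx)]
    simp only [map_sub, D.vb3b3, D.va3b3, D.va3a3, D.vz1a3, D.vz1b3, hx, map_neg]
    module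
  have YYp : ∀ x, e.z1 x = x → Y (Y x) = -((8 : K) • x) := by
    intro x hx
    have hm := hhm x hx
    have h2 : Y x = e.h (Y (e.h x)) := by
      rw [Yp _ hx, Ym _ hm, map_smul]
    have h3 : e.z1 (Y (e.h x)) = -(Y (e.h x)) := by
      rw [Ym _ hm, map_smul, z1A _ hm, smul_neg]
    -- `e.h (Y (e.h x))` lies in `z1 = 1`
    have h4 : e.z2 (Y (e.h x)) = Y (e.h x) := by
      have hz : e.z2 (e.h x) = e.h x := by
        rw [show e.z2 (e.h x) = e.h (e.z1 x) from ap D.z2h x, hx]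
      rw [Ym _ hm, map_smul, map_sub, show e.z2 (e.a3 (e.h x)) = e.a3 (e.z2 (e.h x)) from ap D.z2a3 _,
        show e.z2 (e.b3 (e.h x)) = e.b3 (e.z2 (e.h x)) from ap D.z2b3 _, hz]
    have h5 : e.z1 (Y x) = Y x := by
      rw [h2, show e.z1 (e.h (Y (e.h x))) = e.h (e.z2 (Y (e.h x))) from ap D.z1h _, h4]
    have h6 : Y (Y x) = e.h (Y (e.h (Y x))) := by
      rw [Yp _ h5, Ym _ (hhm _ h5), map_smul]
    rw [h6, h2, D.vhh, YYm _ hm, map_neg, map_smul, D.vhh]
  have YY : Y * Y = -((8 : K) • (1 : Module.End K V)) := by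
    ext x
    change Y (Y x) = -((8 : K) • x)
    have e1 : (2 : K) • Y (Y x) = (2 : K) • (-((8 : K) • x)) := by
      have e2 : (2 : K) • Y (Y x) = Y (Y (x - e.z1 x)) + Y (Y (x + e.z1 x)) := by
        simp only [map_sub, map_add]; module
      rw [e2, YYm _ (by rw [map_sub, D.vz1z1]; abel), YYp _ (by rw [map_add, D.vz1z1]; abel)]
      module
    exact smul_right_injective V H.two e1
  have dY : LinearMap.det Y ≠ 0 := by
    intro h0
    have h1 := congrArg LinearMap.det YY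
    rw [map_mul, h0, mul_zero, ← neg_smul, LinearMap.det_smul, map_one, mul_one] at h1
    exact pow_ne_zero _ (neg_ne_zero.2 eight) h1.symm
  have h1 := congrArg LinearMap.det tot
  rw [map_mul, hdet, mul_one, LinearMap.det_smul, map_mul, map_mul, hdet, mul_one, one_mul, hn] at h1
  have h2 : (1 - (s ^ 2) ^ 10) * LinearMap.det Y = 0 := by linear_combination h1
  have h3 := (mul_eq_zero.1 h2).resolve_right dY
  have h4 : s ^ 2 = 1 := by
    have : (s ^ 2) ^ 10 = s ^ 2 := by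
      calc (s ^ 2) ^ 10 = (s ^ 3) ^ 6 * s ^ 2 := by ring
        _ = s ^ 2 := by rw [hs3, one_pow, one_mul]
    rw [this] at h3
    linear_combination -h3
  linear_combination hs3 - s * h4

end Cfsg.Agent.H36.U52
end

-- part: H36/U52/Concrete
section
/-!
# The elements and relations in `SU_5(2)`; generation
-/

set_option autoImplicit false
set_option maxRecDepth 100000

namespace Cfsg.Agent.H36.U52

open Matrix Cfsg Cfsg.Agent.Lib.FieldFour Cfsg.Agent.H674.SUTools Cfsg.Agent.LieClassical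
open Cfsg.Agent.ClassicalGeometry.UnitTransv

namespace Mat

def m_z1 : Matrix (Fin 5) (Fin 5) F4 :=
  !![F4.o, F4.i, F4.o, F4.o, F4.o; F4.i, F4.o, F4.o, F4.o, F4.o; F4.o, F4.o, F4.i, F4.o, F4.o; F4.o, F4.o, F4.o, F4.i, F4.o; F4.o, F4.o, F4.o, F4.o, F4.i]

def m_z2 : Matrix (Fin 5) (Fin 5) F4 :=
  !![F4.i, F4.o, F4.o, F4.o, F4.o; F4.o, F4.i, F4.o, F4.o, F4.o; F4.o, F4.o, F4.o, F4.i, F4.o; F4.o, F4.o, F4.i, F4.o, F4.o; F4.o, F4.o, F4.o, F4.o, F4.i]

def m_z3 : Matrix (Fin 5) (Fin 5) F4 :=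
  !![F4.o, F4.i, F4.i, F4.i, F4.o; F4.i, F4.o, F4.i, F4.i, F4.o; F4.i, F4.i, F4.o, F4.i, F4.o; F4.i, F4.i, F4.i, F4.o, F4.o; F4.o, F4.o, F4.o, F4.o, F4.i]

def m_z4 : Matrix (Fin 5) (Fin 5) F4 :=
  !![F4.o, F4.i, F4.v, F4.v, F4.o; F4.i, F4.o, F4.v, F4.v, F4.o; F4.w, F4.w, F4.o, F4.i, F4.o; F4.w, F4.w, F4.i, F4.o, F4.o; F4.o, F4.o, F4.o, F4.o, F4.i]

def m_z5 : Matrix (Fin 5) (Fin 5) F4 :=
  !![F4.o, F4.i, F4.w, F4.w, F4.o; F4.i, F4.o, F4.w, F4.w, F4.o; F4.v, F4.v, F4.o, F4.i, F4.o; F4.v, F4.v, F4.i, F4.o, F4.o; F4.o, F4.o, F4.o, F4.o, F4.i]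

def m_a1 : Matrix (Fin 5) (Fin 5) F4 :=
  !![F4.o, F4.i, F4.i, F4.i, F4.o; F4.i, F4.o, F4.i, F4.i, F4.o; F4.i, F4.i, F4.i, F4.o, F4.o; F4.i, F4.i, F4.o, F4.i, F4.o; F4.o, F4.o, F4.o, F4.o, F4.i]

def m_a2 : Matrix (Fin 5) (Fin 5) F4 :=
  !![F4.o, F4.i, F4.v, F4.v, F4.o; F4.i, F4.o, F4.v, F4.v, F4.o; F4.w, F4.w, F4.i, F4.o, F4.o; F4.w, F4.w, F4.o, F4.i, F4.o; F4.o, F4.o, F4.o, F4.o, F4.i]

def m_a3 : Matrix (Fin 5) (Fin 5) F4 :=
  !![F4.v, F4.w, F4.o, F4.o, F4.i; F4.w, F4.v, F4.o, F4.o, F4.i; F4.o, F4.o, F4.i, F4.o, F4.o; F4.o, F4.o, F4.o, F4.i, F4.o; F4.i, F4.i, F4.o, F4.o, F4.i]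

def m_b1 : Matrix (Fin 5) (Fin 5) F4 :=
  !![F4.i, F4.o, F4.w, F4.i, F4.o; F4.o, F4.i, F4.w, F4.i, F4.o; F4.v, F4.v, F4.i, F4.o, F4.o; F4.i, F4.i, F4.o, F4.i, F4.o; F4.o, F4.o, F4.o, F4.o, F4.i]

def m_b2 : Matrix (Fin 5) (Fin 5) F4 :=
  !![F4.i, F4.o, F4.v, F4.w, F4.o; F4.o, F4.i, F4.v, F4.w, F4.o; F4.w, F4.w, F4.i, F4.o, F4.o; F4.v, F4.v, F4.o, F4.i, F4.o; F4.o, F4.o, F4.o, F4.o, F4.i]

def m_b3 : Matrix (Fin 5) (Fin 5) F4 :=
  !![F4.v, F4.w, F4.o, F4.o, F4.v; F4.w, F4.v, F4.o, F4.o, F4.v; F4.o, F4.o, F4.i, F4.o, F4.o; F4.o, F4.o, F4.o, F4.i, F4.o; F4.w, F4.w, F4.o, F4.o, F4.i]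

def m_h : Matrix (Fin 5) (Fin 5) F4 :=
  !![F4.o, F4.o, F4.i, F4.o, F4.o; F4.o, F4.o, F4.o, F4.i, F4.o; F4.i, F4.o, F4.o, F4.o, F4.o; F4.o, F4.i, F4.o, F4.o, F4.o; F4.o, F4.o, F4.o, F4.o, F4.i]

def m_c : Matrix (Fin 5) (Fin 5) F4 :=
  !![F4.w, F4.o, F4.o, F4.o, F4.o; F4.o, F4.w, F4.o, F4.o, F4.o; F4.o, F4.o, F4.w, F4.o, F4.o; F4.o, F4.o, F4.o, F4.w, F4.o; F4.o, F4.o, F4.o, F4.o, F4.v]

def m_r1 : Matrix (Fin 5) (Fin 5) F4 :=
  !![F4.i, F4.o, F4.o, F4.o, F4.o; F4.o, F4.i, F4.o, F4.o, F4.o; F4.o, F4.o, F4.v, F4.w, F4.i; F4.o, F4.o, F4.w, F4.v, F4.i; F4.o, F4.o, F4.i, F4.i, F4.i]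

def m_r2 : Matrix (Fin 5) (Fin 5) F4 :=
  !![F4.i, F4.o, F4.o, F4.o, F4.o; F4.o, F4.i, F4.o, F4.o, F4.o; F4.o, F4.o, F4.v, F4.w, F4.v; F4.o, F4.o, F4.w, F4.v, F4.v; F4.o, F4.o, F4.w, F4.w, F4.i]

def m_d1 : Matrix (Fin 5) (Fin 5) F4 :=
  !![F4.i, F4.o, F4.v, F4.v, F4.o; F4.o, F4.i, F4.i, F4.i, F4.o; F4.w, F4.i, F4.i, F4.o, F4.o; F4.w, F4.i, F4.o, F4.i, F4.o; F4.o, F4.o, F4.o, F4.o, F4.i]

def m_d2 : Matrix (Fin 5) (Fin 5) F4 :=
  !![F4.i, F4.o, F4.w, F4.w, F4.o; F4.o, F4.i, F4.v, F4.v, F4.o; F4.v, F4.w, F4.i, F4.o, F4.o; F4.v, F4.w, F4.o, F4.i, F4.o; F4.o, F4.o, F4.o, F4.o, F4.i]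

def m_y1 : Matrix (Fin 5) (Fin 5) F4 :=
  !![F4.i, F4.o, F4.o, F4.o, F4.o; F4.o, F4.i, F4.o, F4.o, F4.o; F4.o, F4.o, F4.w, F4.o, F4.o; F4.o, F4.o, F4.o, F4.v, F4.o; F4.o, F4.o, F4.o, F4.o, F4.i]

def m_y2 : Matrix (Fin 5) (Fin 5) F4 :=
  !![F4.i, F4.o, F4.o, F4.o, F4.o; F4.o, F4.i, F4.o, F4.o, F4.o; F4.o, F4.o, F4.o, F4.o, F4.i; F4.o, F4.o, F4.i, F4.o, F4.o; F4.o, F4.o, F4.o, F4.i, F4.o]

def m_t : Matrix (Fin 5) (Fin 5) F4 :=
  !![F4.w, F4.o, F4.o, F4.o, F4.o; F4.o, F4.w, F4.o, F4.o, F4.o; F4.o, F4.o, F4.v, F4.o, F4.o; F4.o, F4.o, F4.o, F4.v, F4.o; F4.o, F4.o, F4.o, F4.o, F4.i]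

def m_ze : Matrix (Fin 5) (Fin 5) F4 :=
  !![F4.i, F4.o, F4.o, F4.o, F4.o; F4.o, F4.i, F4.o, F4.o, F4.o; F4.o, F4.o, F4.w, F4.o, F4.o; F4.o, F4.o, F4.o, F4.w, F4.o; F4.o, F4.o, F4.o, F4.o, F4.w]

end Mat

open Mat

/-- the matrices -/
def matEl : El (Matrix (Fin 5) (Fin 5) F4) :=
  ⟨m_z1, m_z2, m_z3, m_z4, m_z5, m_a1, m_a2, m_a3, m_b1, m_b2, m_b3, m_h, m_c, m_r1, m_r2, m_d1, m_d2, m_y1, m_y2, m_t, m_ze⟩

private def rw5 (M : Matrix (Fin 5) (Fin 5) F4) (i : Fin 5) (a b c d e : F4) : F4 :=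
  F4.add (F4.add (F4.add (F4.add (F4.mul (M i 0) a) (F4.mul (M i 1) b)) (F4.mul (M i 2) c)) (F4.mul (M i 3) d)) (F4.mul (M i 4) e)

private def mm (A B : Matrix (Fin 5) (Fin 5) F4) : Matrix (Fin 5) (Fin 5) F4 :=
  fun i j => rw5 A i (B 0 j) (B 1 j) (B 2 j) (B 3 j) (B 4 j)

private theorem mul5 (A B : Matrix (Fin 5) (Fin 5) F4) : A * B = mm A B :=
  Matrix.ext fun i j => Fin.sum_univ_five fun k => A i k * B k j

private def a5 (p : Fin 5 → Bool) : Bool := p 0 && (p 1 && (p 2 && (p 3 && p 4)))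

private theorem a5_all {p : Fin 5 → Bool} (h : a5 p = true) (x : Fin 5) : p x = true := by
  simp only [a5, Bool.and_eq_true] at h
  fin_cases x
  exacts [h.1, h.2.1, h.2.2.1, h.2.2.2.1, h.2.2.2.2]

private theorem eq5 {A B : Matrix (Fin 5) (Fin 5) F4} (h : (a5 fun i => a5 fun j => decide (A i j = B i j)) = true) : A = B :=
  Matrix.ext fun i j => of_decide_eq_true (a5_all (a5_all h i) j)

theorem rel_mat : Rel matEl := by
  constructor <;> simp only [mul5] <;> exact eq5 (by decide +kernel)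

theorem hF4 : Fintype.card F4 = 2 ^ 2 := rfl

private def d3 (a b c d e f g h i : F4) : F4 := F4.add (F4.mul a (F4.add (F4.mul e i) (F4.mul f h)))
  (F4.add (F4.mul b (F4.add (F4.mul d i) (F4.mul f g))) (F4.mul c (F4.add (F4.mul d h) (F4.mul e g))))

private theorem det3 (A : Matrix (Fin 3) (Fin 3) F4) :
    A.det = d3 (A 0 0) (A 0 1) (A 0 2) (A 1 0) (A 1 1) (A 1 2) (A 2 0) (A 2 1) (A 2 2) := by
  have k : ∀ x y : F4, x - y = x + y := fun x y => sub_eq_add_neg x y
  rw [Matrix.det_fin_three]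
  change _ = A 0 0 * (A 1 1 * A 2 2 + A 1 2 * A 2 1) + (A 0 1 * (A 1 0 * A 2 2 + A 1 2 * A 2 0) +
    A 0 2 * (A 1 0 * A 2 1 + A 1 1 * A 2 0))
  rw [k, k, k]
  ring

private theorem det_succ {n : ℕ} (A : Matrix (Fin (n + 1)) (Fin (n + 1)) F4) :
    A.det = ∑ j, F4.mul (A 0 j) (A.submatrix Fin.succ j.succAbove).det := by
  rw [Matrix.det_succ_row_zero]
  refine Finset.sum_congr rfl fun j _ => ?_
  rw [show (-1 : F4) = 1 from rfl, one_pow, one_mul]
  rfl

private def d5 (A : Matrix (Fin 5) (Fin 5) F4) : F4 :=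
  ∑ j : Fin 5, F4.mul (A 0 j) (∑ k : Fin 4, F4.mul (A 1 (j.succAbove k))
    (d3 (A 2 (j.succAbove (k.succAbove 0))) (A 2 (j.succAbove (k.succAbove 1))) (A 2 (j.succAbove (k.succAbove 2)))
      (A 3 (j.succAbove (k.succAbove 0))) (A 3 (j.succAbove (k.succAbove 1))) (A 3 (j.succAbove (k.succAbove 2)))
      (A 4 (j.succAbove (k.succAbove 0))) (A 4 (j.succAbove (k.succAbove 1))) (A 4 (j.succAbove (k.succAbove 2)))))

private theorem det5 {A : Matrix (Fin 5) (Fin 5) F4} (h : d5 A = 1) : A.det = 1 := by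
  rw [← h, det_succ]
  refine Finset.sum_congr rfl fun j _ => congrArg _ ?_
  rw [det_succ]
  refine Finset.sum_congr rfl fun k _ => ?_
  rw [det3]
  rfl

private theorem un5 {M : Matrix (Fin 5) (Fin 5) F4} (h : Mᵀ * M.map (fun x => x ^ 2) = 1) :
    Mᵀ * M.map (GUOrder.frob hF4) = 1 := h

private theorem h_z1 : m_z1.det = 1 ∧ m_z1ᵀ * m_z1.map (GUOrder.frob hF4) = 1 :=
  ⟨det5 (by decide +kernel), un5 (by decide +kernel)⟩
/-- the element of `SU_5(2)` -/
def s_z1 : SU 5 F4 2 := mkSU hF4 m_z1 h_z1.1 h_z1.2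
private theorem h_z2 : m_z2.det = 1 ∧ m_z2ᵀ * m_z2.map (GUOrder.frob hF4) = 1 :=
  ⟨det5 (by decide +kernel), un5 (by decide +kernel)⟩
/-- the element of `SU_5(2)` -/
def s_z2 : SU 5 F4 2 := mkSU hF4 m_z2 h_z2.1 h_z2.2
private theorem h_z3 : m_z3.det = 1 ∧ m_z3ᵀ * m_z3.map (GUOrder.frob hF4) = 1 :=
  ⟨det5 (by decide +kernel), un5 (by decide +kernel)⟩
/-- the element of `SU_5(2)` -/
def s_z3 : SU 5 F4 2 := mkSU hF4 m_z3 h_z3.1 h_z3.2
private theorem h_z4 : m_z4.det = 1 ∧ m_z4ᵀ * m_z4.map (GUOrder.frob hF4) = 1 :=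
  ⟨det5 (by decide +kernel), un5 (by decide +kernel)⟩
/-- the element of `SU_5(2)` -/
def s_z4 : SU 5 F4 2 := mkSU hF4 m_z4 h_z4.1 h_z4.2
private theorem h_z5 : m_z5.det = 1 ∧ m_z5ᵀ * m_z5.map (GUOrder.frob hF4) = 1 :=
  ⟨det5 (by decide +kernel), un5 (by decide +kernel)⟩
/-- the element of `SU_5(2)` -/
def s_z5 : SU 5 F4 2 := mkSU hF4 m_z5 h_z5.1 h_z5.2
private theorem h_a1 : m_a1.det = 1 ∧ m_a1ᵀ * m_a1.map (GUOrder.frob hF4) = 1 :=
  ⟨det5 (by decide +kernel), un5 (by decide +kernel)⟩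
/-- the element of `SU_5(2)` -/
def s_a1 : SU 5 F4 2 := mkSU hF4 m_a1 h_a1.1 h_a1.2
private theorem h_a2 : m_a2.det = 1 ∧ m_a2ᵀ * m_a2.map (GUOrder.frob hF4) = 1 :=
  ⟨det5 (by decide +kernel), un5 (by decide +kernel)⟩
/-- the element of `SU_5(2)` -/
def s_a2 : SU 5 F4 2 := mkSU hF4 m_a2 h_a2.1 h_a2.2
private theorem h_a3 : m_a3.det = 1 ∧ m_a3ᵀ * m_a3.map (GUOrder.frob hF4) = 1 :=
  ⟨det5 (by decide +kernel), un5 (by decide +kernel)⟩
/-- the element of `SU_5(2)` -/
def s_a3 : SU 5 F4 2 := mkSU hF4 m_a3 h_a3.1 h_a3.2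
private theorem h_b1 : m_b1.det = 1 ∧ m_b1ᵀ * m_b1.map (GUOrder.frob hF4) = 1 :=
  ⟨det5 (by decide +kernel), un5 (by decide +kernel)⟩
/-- the element of `SU_5(2)` -/
def s_b1 : SU 5 F4 2 := mkSU hF4 m_b1 h_b1.1 h_b1.2
private theorem h_b2 : m_b2.det = 1 ∧ m_b2ᵀ * m_b2.map (GUOrder.frob hF4) = 1 :=
  ⟨det5 (by decide +kernel), un5 (by decide +kernel)⟩
/-- the element of `SU_5(2)` -/
def s_b2 : SU 5 F4 2 := mkSU hF4 m_b2 h_b2.1 h_b2.2
private theorem h_b3 : m_b3.det = 1 ∧ m_b3ᵀ * m_b3.map (GUOrder.frob hF4) = 1 :=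
  ⟨det5 (by decide +kernel), un5 (by decide +kernel)⟩
/-- the element of `SU_5(2)` -/
def s_b3 : SU 5 F4 2 := mkSU hF4 m_b3 h_b3.1 h_b3.2
private theorem h_h : m_h.det = 1 ∧ m_hᵀ * m_h.map (GUOrder.frob hF4) = 1 :=
  ⟨det5 (by decide +kernel), un5 (by decide +kernel)⟩
/-- the element of `SU_5(2)` -/
def s_h : SU 5 F4 2 := mkSU hF4 m_h h_h.1 h_h.2
private theorem h_c : m_c.det = 1 ∧ m_cᵀ * m_c.map (GUOrder.frob hF4) = 1 :=
  ⟨det5 (by decide +kernel), un5 (by decide +kernel)⟩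
/-- the element of `SU_5(2)` -/
def s_c : SU 5 F4 2 := mkSU hF4 m_c h_c.1 h_c.2
private theorem h_r1 : m_r1.det = 1 ∧ m_r1ᵀ * m_r1.map (GUOrder.frob hF4) = 1 :=
  ⟨det5 (by decide +kernel), un5 (by decide +kernel)⟩
/-- the element of `SU_5(2)` -/
def s_r1 : SU 5 F4 2 := mkSU hF4 m_r1 h_r1.1 h_r1.2
private theorem h_r2 : m_r2.det = 1 ∧ m_r2ᵀ * m_r2.map (GUOrder.frob hF4) = 1 :=
  ⟨det5 (by decide +kernel), un5 (by decide +kernel)⟩
/-- the element of `SU_5(2)` -/
def s_r2 : SU 5 F4 2 := mkSU hF4 m_r2 h_r2.1 h_r2.2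
private theorem h_d1 : m_d1.det = 1 ∧ m_d1ᵀ * m_d1.map (GUOrder.frob hF4) = 1 :=
  ⟨det5 (by decide +kernel), un5 (by decide +kernel)⟩
/-- the element of `SU_5(2)` -/
def s_d1 : SU 5 F4 2 := mkSU hF4 m_d1 h_d1.1 h_d1.2
private theorem h_d2 : m_d2.det = 1 ∧ m_d2ᵀ * m_d2.map (GUOrder.frob hF4) = 1 :=
  ⟨det5 (by decide +kernel), un5 (by decide +kernel)⟩
/-- the element of `SU_5(2)` -/
def s_d2 : SU 5 F4 2 := mkSU hF4 m_d2 h_d2.1 h_d2.2
private theorem h_y1 : m_y1.det = 1 ∧ m_y1ᵀ * m_y1.map (GUOrder.frob hF4) = 1 :=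
  ⟨det5 (by decide +kernel), un5 (by decide +kernel)⟩
/-- the element of `SU_5(2)` -/
def s_y1 : SU 5 F4 2 := mkSU hF4 m_y1 h_y1.1 h_y1.2
private theorem h_y2 : m_y2.det = 1 ∧ m_y2ᵀ * m_y2.map (GUOrder.frob hF4) = 1 :=
  ⟨det5 (by decide +kernel), un5 (by decide +kernel)⟩
/-- the element of `SU_5(2)` -/
def s_y2 : SU 5 F4 2 := mkSU hF4 m_y2 h_y2.1 h_y2.2
private theorem h_t : m_t.det = 1 ∧ m_tᵀ * m_t.map (GUOrder.frob hF4) = 1 :=
  ⟨det5 (by decide +kernel), un5 (by decide +kernel)⟩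
/-- the element of `SU_5(2)` -/
def s_t : SU 5 F4 2 := mkSU hF4 m_t h_t.1 h_t.2
private theorem h_ze : m_ze.det = 1 ∧ m_zeᵀ * m_ze.map (GUOrder.frob hF4) = 1 :=
  ⟨det5 (by decide +kernel), un5 (by decide +kernel)⟩
/-- the element of `SU_5(2)` -/
def s_ze : SU 5 F4 2 := mkSU hF4 m_ze h_ze.1 h_ze.2

/-- the elements of `SU_5(2)` -/
def suEl : El (SU 5 F4 2) :=
  ⟨s_z1, s_z2, s_z3, s_z4, s_z5, s_a1, s_a2, s_a3, s_b1, s_b2, s_b3, s_h, s_c, s_r1, s_r2, s_d1, s_d2, s_y1, s_y2, s_t, s_ze⟩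

theorem Rel.of_injective {G H : Type*} [Monoid G] [Monoid H] {E : El G} {f : G →* H} (hf : Function.Injective f)
    (D : Rel (E.map f)) : Rel E := by
  have k : ∀ {x y : G}, f x = f y → x = y := fun h => hf h
  obtain ⟨⟩ := D
  simp only [El.map, ← map_mul, ← f.map_one] at *
  constructor <;> exact k ‹_›

theorem rel_su : Rel suEl := Rel.of_injective (f := cm) cm_injective rel_mat

/-! ### generation -/

/-- code of a scalar -/
def code : F4 → ℕ
  | .o => 0
  | .i => 1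
  | .w => 2
  | .v => 3

/-- the distance of a vector to the first point -/
def depth (x : Fin 5 → F4) : ℕ :=
  (1044229518128217752483524158539380761364051148926907599088021702521574061306190219789534216266052325678926463146311627663930591179490582545806324683652823937063624015029633621611028630654409976411336652461863933355408361067135602882844466999931309947863057131581090423787888001790495261600600840967159457661061719702849959813042426948233596585551868095909394951627572481639953412307731207688084673357378796458143728942969566498293596838147453789393585444708379448366752857551845646350643347340239136360323535570950163317463692277938662654194453137102058114581550542693573390075840662507259535586855101326667453890028264354440771505096694346106035257428117280846502604331071328803047477990518443561629172365246676694199331960430102854248086501480237472214497240334207793654652785005516530057892502235447256543408246058201102509541813864266176793497332620284729654779755516296633660234226024317418409871108409559421474595498359767536996463045449523859060483019942221245845969713152313539918129632948558267037106171536361650110484906570892020378049494153589788986733606444581219708195352281801745584582958824598282568768757818569965044575340552895110020097956465155454486487465915274174590683974660892376154834314373859720686928464445424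 >>> (4 * (code (x 0) + 4 * (code (x 1) + 4 * (code (x 2) + 4 * (code (x 3) + 4 * code (x 4))))))) &&& 15

/-- the norm -/
def nrm (x : Fin 5 → F4) : F4 :=
  x 0 * x 0 ^ 2 + x 1 * x 1 ^ 2 + x 2 * x 2 ^ 2 + x 3 * x 3 ^ 2 + x 4 * x 4 ^ 2

/-- the generators -/
def gm : Fin 7 → Matrix (Fin 5) (Fin 5) F4 := ![m_b1, m_b2, m_h, m_a3, m_c, m_y1, m_y2]

/-- the generators -/
def gs : Fin 7 → SU 5 F4 2 := ![s_b1, s_b2, s_h, s_a3, s_c, s_y1, s_y2]

theorem cm_gs (j : Fin 7) : cm (gs j) = gm j := by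
  fin_cases j <;> rfl

/-- the first vector -/
def e1 (l : F4) : Fin 5 → F4 := ![l, l, F4.o, F4.o, F4.o]

private theorem mulVec5 (M : Matrix (Fin 5) (Fin 5) F4) (a b c d e : F4) : M *ᵥ ![a, b, c, d, e] =
    ![rw5 M 0 a b c d e, rw5 M 1 a b c d e, rw5 M 2 a b c d e, rw5 M 3 a b c d e, rw5 M 4 a b c d e] := by
  have k : ∀ i, (M *ᵥ ![a, b, c, d, e]) i = rw5 M i a b c d e := fun i => Fin.sum_univ_five fun j => M i j * ![a, b, c, d, e] j
  funext i
  rw [k]
  fin_cases i <;> rfl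

private def dp (a b c d e : F4) : ℕ := depth fun i => match i with | 0 => a | 1 => b | 2 => c | 3 => d | 4 => e

private def n3 : F4 → F4
  | .o => .o
  | _ => .i

private def a4 (p : F4 → Bool) : Bool := p .o && (p .i && (p .w && p .v))

private theorem a4_all {p : F4 → Bool} (h : a4 p = true) (x : F4) : p x = true := by
  simp only [a4, Bool.and_eq_true] at h
  cases x
  exacts [h.1, h.2.1, h.2.2.1, h.2.2.2]

private def lt5 (M : Matrix (Fin 5) (Fin 5) F4) (a b c d e : F4) : Bool :=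
  Nat.blt (dp (rw5 M 0 a b c d e) (rw5 M 1 a b c d e) (rw5 M 2 a b c d e) (rw5 M 3 a b c d e) (rw5 M 4 a b c d e)) (dp a b c d e)

theorem step (a b c d e : F4) (h : nrm ![a, b, c, d, e] = 0) :
    (∃ l, ![a, b, c, d, e] = e1 l) ∨ ∃ j, depth (gm j *ᵥ ![a, b, c, d, e]) < depth ![a, b, c, d, e] := by
  have k0 : ∀ x : F4, x * x ^ 2 = n3 x := by decide +kernel
  have k1 : F4.add (F4.add (F4.add (F4.add (n3 a) (n3 b)) (n3 c)) (n3 d)) (n3 e) = .o := by
    rw [← k0, ← k0, ← k0, ← k0, ← k0]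
    exact h
  have k2 : (a4 fun a => a4 fun b => a4 fun c => a4 fun d => a4 fun e =>
      !decide (F4.add (F4.add (F4.add (F4.add (n3 a) (n3 b)) (n3 c)) (n3 d)) (n3 e) = .o) ||
      (decide (b = a ∧ c = .o ∧ d = .o ∧ e = .o) || (lt5 m_b1 a b c d e || (lt5 m_b2 a b c d e || (lt5 m_h a b c d e ||
      (lt5 m_a3 a b c d e || (lt5 m_c a b c d e || (lt5 m_y1 a b c d e || lt5 m_y2 a b c d e)))))))) = true := by
    decide +kernel
  have k3 := a4_all (a4_all (a4_all (a4_all (a4_all k2 a) b) c) d) e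
  have k4 : ∀ j, lt5 (gm j) a b c d e = true → ∃ j, depth (gm j *ᵥ ![a, b, c, d, e]) < depth ![a, b, c, d, e] :=
    fun j k => ⟨j, by rw [mulVec5]; exact Nat.blt_eq.mp k⟩
  simp only [k1, decide_true, Bool.not_true, Bool.false_or, Bool.or_eq_true, decide_eq_true_eq] at k3
  rcases k3 with ⟨rfl, rfl, rfl, rfl⟩ | k | k | k | k | k | k | k
  exacts [.inl ⟨_, rfl⟩, .inr (k4 0 k), .inr (k4 1 k), .inr (k4 2 k), .inr (k4 3 k), .inr (k4 4 k), .inr (k4 5 k), .inr (k4 6 k)]

end Cfsg.Agent.H36.U52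
end

-- part: H36/U52/Gen
section
/-!
# The seven elements generate `SU_5(2)`; transfer to `PSU_5(2)`
-/

set_option autoImplicit false
set_option maxRecDepth 100000

namespace Cfsg.Agent.H36.U52

open Matrix Cfsg Cfsg.Agent.Lib.FieldFour Cfsg.Agent.H674.SUTools Cfsg.Agent.LieClassical
open Cfsg.Agent.ClassicalGeometry.UnitTransv

theorem nrm_eq (x : Fin 5 → F4) : hermForm 5 F4 2 x x = nrm x := by
  rw [hermForm, Fin.sum_univ_five]
  rfl

/-- conjugate of a transvection -/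
theorem conj_ut {s A : SU 5 F4 2} {x : Fin 5 → F4} {c : F4} (h : cm A = unitaryTransvection 5 2 x c) :
    cm (s * A * s⁻¹) = unitaryTransvection 5 2 (cm s *ᵥ x) c := by
  apply Matrix.ext_of_mulVec_single
  intro i
  have h1 : ∀ y, cm (s * A * s⁻¹) *ᵥ y = act s (act A (act s⁻¹ y)) := by
    intro y
    rw [← act_mul, ← act_mul, mul_assoc]; rfl
  rw [h1]
  have h2 : act A (act s⁻¹ (Pi.single i 1)) = unitaryTransvection 5 2 x c *ᵥ (act s⁻¹ (Pi.single i 1)) := by
    rw [← h]; rfl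
  rw [h2, unitaryTransvection_mulVec, unitaryTransvection_mulVec, act_add, act_smul, act_act_inv]
  congr 3
  rw [← herm_act s, act_act_inv]
  rfl

theorem base_mat (l c : F4) (h : (unitaryTransvection 5 2 (e1 l) c)ᵀ * (unitaryTransvection 5 2 (e1 l) c).map
    (fun x => x ^ 2) = 1) : unitaryTransvection 5 2 (e1 l) c = 1 ∨ unitaryTransvection 5 2 (e1 l) c = Mat.m_z1 := by
  revert l c
  unfold unitaryTransvection
  decide +kernel

theorem mem_gens (j : Fin 7) : gs j ∈ gens suEl := by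
  fin_cases j <;> simp [gs, gens, suEl]

theorem ut_mem : ∀ (n : ℕ) (x : Fin 5 → F4), depth x ≤ n → hermForm 5 F4 2 x x = 0 → ∀ (A : SU 5 F4 2) (c : F4),
    cm A = unitaryTransvection 5 2 x c → A ∈ Subgroup.closure (gens suEl) := by
  intro n
  induction n with
  | zero =>
    intro x hx hxx A c hA
    have hx5 : x = ![x 0, x 1, x 2, x 3, x 4] := by ext j; fin_cases j <;> rfl
    rcases step (x 0) (x 1) (x 2) (x 3) (x 4) (by rw [← hx5, ← nrm_eq]; exact hxx) with ⟨l, hl⟩ | ⟨j, hj⟩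
    · rw [← hx5] at hl
      subst hl
      have h1 := cm_isom hF4 A
      rw [hA] at h1
      rcases base_mat l c h1 with h | h
      · rw [h] at hA
        rw [(cm_eq_one_iff A).1 hA]
        exact one_mem _
      · rw [h] at hA
        have h2 : A = s_z1 := cm_injective hA
        have h3 : s_z1 = s_a3 * s_a3 := rel_su.a3a3.symm
        rw [h2, h3]
        have h4 : s_a3 ∈ Subgroup.closure (gens suEl) := Subgroup.subset_closure (mem_gens 3)
        exact mul_mem h4 h4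
    · rw [← hx5] at hj
      omega
  | succ n ih =>
    intro x hx hxx A c hA
    have hx5 : x = ![x 0, x 1, x 2, x 3, x 4] := by ext j; fin_cases j <;> rfl
    rcases step (x 0) (x 1) (x 2) (x 3) (x 4) (by rw [← hx5, ← nrm_eq]; exact hxx) with ⟨l, hl⟩ | ⟨j, hj⟩
    · rw [← hx5] at hl
      subst hl
      have h1 := cm_isom hF4 A
      rw [hA] at h1
      rcases base_mat l c h1 with h | h
      · rw [h] at hA
        rw [(cm_eq_one_iff A).1 hA]
        exact one_mem _
      · rw [h] at hA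
        have h2 : A = s_z1 := cm_injective hA
        have h3 : s_z1 = s_a3 * s_a3 := rel_su.a3a3.symm
        rw [h2, h3]
        have h4 : s_a3 ∈ Subgroup.closure (gens suEl) := Subgroup.subset_closure (mem_gens 3)
        exact mul_mem h4 h4
    · rw [← hx5] at hj
      have hs : gs j ∈ Subgroup.closure (gens suEl) := Subgroup.subset_closure (mem_gens j)
      have h1 := ih (gm j *ᵥ x) (by omega) (by
        rw [← cm_gs]
        have := herm_act (gs j) x x
        rw [hxx] at this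
        exact this) (gs j * A * (gs j)⁻¹) c (by rw [conj_ut hA, cm_gs])
      have h2 : A = (gs j)⁻¹ * (gs j * A * (gs j)⁻¹) * gs j := by group
      rw [h2]
      exact mul_mem (mul_mem (inv_mem hs) h1) hs

theorem closure_gens : Subgroup.closure (gens suEl) = ⊤ := by
  rw [eq_top_iff, ← Cfsg.Agent.S0780.result hF4 5 (by norm_num) (by norm_num), Subgroup.closure_le]
  rintro A ⟨v, c, hv, hA⟩
  exact ut_mem _ v le_rfl hv A c hA

theorem gens_map {G H : Type*} (E : El G) (f : G → H) : gens (E.map f) = f '' gens E := by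
  simp only [gens, El.map, Set.image_insert_eq, Set.image_singleton]

theorem closure_map {G H : Type*} [Group G] [Group H] {E : El G} (h : Subgroup.closure (gens E) = ⊤) (f : G →* H)
    (hf : Function.Surjective f) : Subgroup.closure (gens (E.map f)) = ⊤ := by
  rw [gens_map, ← MonoidHom.map_closure, h, ← MonoidHom.range_eq_map, MonoidHom.range_eq_top.2 hf]

theorem z1_not_center : s_z1 ∉ Subgroup.center (SU 5 F4 2) := by
  intro h
  have h1 : s_h * s_z1 = s_z1 * s_h := Subgroup.mem_center_iff.1 h s_h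
  have h2 := congrArg cm h1
  rw [map_mul, map_mul] at h2
  revert h2
  change ¬ (Mat.m_h * Mat.m_z1 = Mat.m_z1 * Mat.m_h)
  decide +kernel

/-- **the data in a group isomorphic to `PSU_5(2)`** -/
theorem exists_data {F : Type} [Field F] [Fintype F] (hF : Fintype.card F = 4) {P : Type*} [Group P]
    (e : P ≃* PSU 5 F 2) : ∃ E : El P, Rel E ∧ Subgroup.closure (gens E) = ⊤ ∧ E.z1 ≠ 1 := by
  let f : SU 5 F4 2 →* P :=
    (e.symm.toMonoidHom.comp (FieldTransfer.psuCongr 5 2 (equivOfCard hF)).symm.toMonoidHom).comp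
      (QuotientGroup.mk' (Subgroup.center (SU 5 F4 2)))
  have hf : Function.Surjective f :=
    (e.symm.surjective.comp (FieldTransfer.psuCongr 5 2 (equivOfCard hF)).symm.surjective).comp
      (QuotientGroup.mk'_surjective _)
  refine ⟨suEl.map f, rel_su.map f, closure_map closure_gens f hf, ?_⟩
  intro h
  apply z1_not_center
  have h1 : f s_z1 = 1 := h
  have h2 : (FieldTransfer.psuCongr 5 2 (equivOfCard hF)).symm (QuotientGroup.mk' (Subgroup.center (SU 5 F4 2)) s_z1) = 1 :=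
    (MulEquiv.map_eq_one_iff e.symm).1 h1
  have h3 := (MulEquiv.map_eq_one_iff (FieldTransfer.psuCongr 5 2 (equivOfCard hF)).symm).1 h2
  exact (QuotientGroup.eq_one_iff _).1 h3

end Cfsg.Agent.H36.U52
end

-- part: H36/U52/MatRep
section
/-!
# Matrix representations of degree at most 12
-/

set_option autoImplicit false
set_option linter.unusedSectionVars false

namespace Cfsg.Agent.H36.U52

open Module Matrix

universe u v w

variable {K : Type u} [Field K] {n : ℕ} {P : Type w} [Group P]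

/-- the representation on column vectors -/
def en (r : P →* Matrix (Fin n) (Fin n) K) : P →* Module.End K (Fin n → K) :=
  (Matrix.toLinAlgEquiv' : Matrix (Fin n) (Fin n) K ≃ₐ[K] ((Fin n → K) →ₗ[K] (Fin n → K))).toMonoidHom.comp r

theorem en_apply (r : P →* Matrix (Fin n) (Fin n) K) (g : P) : en r g = Matrix.toLin' (r g) := rfl

theorem en_vec (r : P →* Matrix (Fin n) (Fin n) K) (g : P) (x : Fin n → K) : en r g x = r g *ᵥ x := rfl

theorem trace_en (r : P →* Matrix (Fin n) (Fin n) K) (g : P) :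
    LinearMap.trace K _ (en r g) = (r g).trace := by
  rw [en_apply, Matrix.trace_toLin'_eq]

/-- what we need of a matrix representation -/
structure Rp (E : El P) (r : P →* Matrix (Fin n) (Fin n) K) : Prop where
  span : Submodule.span K (Set.range r) = ⊤
  det : ∀ g, (r g).det = 1
  z1 : r E.z1 ≠ 1

theorem irr_of_span {r : P →* Matrix (Fin n) (Fin n) K} (h : Submodule.span K (Set.range r) = ⊤)
    (W : Submodule K (Fin n → K)) (hW : ∀ g, ∀ x ∈ W, en r g x ∈ W) : W = ⊥ ∨ W = ⊤ := by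
  by_cases hb : W = ⊥
  · exact Or.inl hb
  · right
    obtain ⟨w, hw, hw0⟩ := Submodule.exists_mem_ne_zero_of_ne_bot hb
    obtain ⟨j, hj⟩ : ∃ j, w j ≠ 0 := by
      by_contra hc
      push Not at hc
      exact hw0 (funext hc)
    let S : Submodule K (Matrix (Fin n) (Fin n) K) :=
      { carrier := {M | ∀ x ∈ W, M *ᵥ x ∈ W}
        add_mem' := fun {A B} hA hB x hx => by
          rw [Matrix.add_mulVec]
          exact W.add_mem (hA x hx) (hB x hx)
        zero_mem' := fun x _ => by rw [Matrix.zero_mulVec]; exact W.zero_mem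
        smul_mem' := fun c A hA x hx => by
          rw [Matrix.smul_mulVec]
          exact W.smul_mem _ (hA x hx) }
    have hS : S = ⊤ := by
      rw [eq_top_iff, ← h, Submodule.span_le]
      rintro _ ⟨g, rfl⟩ x hx
      exact hW g x hx
    rw [eq_top_iff]
    intro x _
    have h1 : Matrix.vecMulVec x (Pi.single j (w j)⁻¹) ∈ S := by rw [hS]; trivial
    have h2 := h1 w hw
    rw [Matrix.vecMulVec_mulVec, single_dotProduct, inv_mul_cancel₀ hj] at h2
    simpa using h2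

theorem irr7_of_span [Finite P] {r : P →* Matrix (Fin n) (Fin n) K}
    (h : Submodule.span K (Set.range r) = ⊤) {E : El P} (hg : Subgroup.closure (gens E) = ⊤) :
    Irr7 (E.map (en r)) := by
  intro W h1 h2 h3 h4 h5 h6 h7
  apply irr_of_span h
  have key : ∀ g ∈ Subgroup.closure (gens E), ∀ x ∈ W, en r g x ∈ W := by
    intro g hg
    induction hg using Subgroup.closure_induction with
    | mem g hg =>
      rcases hg with rfl | rfl | rfl | rfl | rfl | rfl | rfl
      · exact h1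
      · exact h2
      · exact h3
      · exact h4
      · exact h5
      · exact h6
      · exact h7
    | one => intro x hx; rw [map_one]; exact hx
    | mul a b _ _ ha hb => intro x hx; rw [ract]; exact ha _ (hb _ hx)
    | inv a _ ha =>
      have hp : ∀ k : ℕ, ∀ x ∈ W, en r (a ^ k) x ∈ W := by
        intro k
        induction k with
        | zero => intro x hx; rw [pow_zero, map_one]; exact hx
        | succ k ih => intro x hx; rw [pow_succ, ract]; exact ih _ (ha x hx)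
      have h8 : a⁻¹ = a ^ (orderOf a - 1) := by
        rw [inv_eq_iff_mul_eq_one, ← pow_succ', Nat.sub_add_cancel (orderOf_pos a), pow_orderOf_eq_one]
      rw [h8]
      exact hp _
  intro g x hx
  exact key g (by rw [hg]; trivial) x hx

section ac

variable [IsAlgClosed K] [Finite P] (h2 : (2 : K) ≠ 0) {E : El P} (D : Rel E)
  (hg : Subgroup.closure (gens E) = ⊤)

theorem exists_i : ∃ i : K, i * i = -1 := by
  obtain ⟨z, hz⟩ := IsAlgClosed.exists_pow_nat_eq (-1 : K) (n := 2) (by norm_num)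
  exact ⟨z, by rw [← pow_two, hz]⟩

include h2 in
theorem exists_omega : ∃ ω : K, ω ^ 2 + ω + 1 = 0 := by
  obtain ⟨z, hz⟩ := IsAlgClosed.exists_pow_nat_eq (-3 : K) (n := 2) (by norm_num)
  refine ⟨(z - 1) / 2, ?_⟩
  field_simp
  linear_combination hz

include h2 D hg

theorem rp_good {r : P →* Matrix (Fin n) (Fin n) K} (hr : Rp E r) (hn : n ≤ 12) {i : K} (hi : i * i = -1) :
    Good (E.map (en r)) i ∧ finrank K (Vm (E.map (en r))) = 8 ∧ finrank K (Vp (E.map (en r))) + 8 = n ∧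
      finrank K (V0 (E.map (en r))) + 10 = n ∧ Irr7 (E.map (en r)) := by
  have hD := D.map (en r)
  have hz : (E.map (en r)).z1 ≠ 1 := by
    intro h
    apply hr.z1
    have h1 : Matrix.toLin' (r E.z1) = Matrix.toLin' 1 := by rw [Matrix.toLin'_one]; exact h
    exact Matrix.toLin'.injective h1
  have hf : finrank K (Fin n → K) = n := finrank_fin_fun K
  obtain ⟨H, -, h8, h10⟩ := good_and_dims hD h2 hi (by rw [hf]; exact hn) hz
  have ht := finrank_total hD h2
  rw [hf] at h10 ht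
  exact ⟨H, h8, by omega, h10.symm, irr7_of_span hr.span hg⟩

/-- **degree 10** -/
theorem ten {r r' : P →* Matrix (Fin n) (Fin n) K} (hr : Rp E r) (hr' : Rp E r') (hn : n = 10) (g : P) :
    (r g).trace = (r' g).trace := by
  obtain ⟨i, hi⟩ := exists_i (K := K)
  obtain ⟨H, h8, -, h10, hI⟩ := rp_good h2 D hg hr (by omega) hi
  obtain ⟨H', h8', -, h10', hI'⟩ := rp_good h2 D hg hr' (by omega) hi
  have hV0 : V0 (E.map (en r)) = ⊥ := by rw [← Submodule.finrank_eq_zero (R := K)]; omega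
  have hV0' : V0 (E.map (en r')) = ⊥ := by rw [← Submodule.finrank_eq_zero (R := K)]; omega
  obtain ⟨F⟩ := exists_frame H
  obtain ⟨F'⟩ := exists_frame H'
  have hd : ∀ r : P →* Matrix (Fin n) (Fin n) K, (∀ g, (r g).det = 1) → LinearMap.det (E.map (en r)).c = 1 := by
    intro r h
    have : (E.map (en r)).c = Matrix.toLin' (r E.c) := rfl
    rw [this, LinearMap.det_toLin', h]
  have hf : finrank K (Fin n → K) = 10 := by rw [finrank_fin_fun K, hn]
  obtain ⟨s, hs3, hs⟩ := exists_cs D H F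
  obtain ⟨s', hs3', hs'⟩ := exists_cs D H' F'
  have e1 := s_eq_one H hV0 hf hs hs3 (hd r hr.det)
  have e2 := s_eq_one H' hV0' hf hs' hs3' (hd r' hr'.det)
  rw [e1] at hs
  rw [e2] at hs'
  obtain ⟨θ, hθ0, hθ⟩ := compare_ten D H H' hV0 hV0' hs hs'
  have := trace_eq hg hI hI' hθ0 hθ g
  rwa [trace_en, trace_en] at this

/-- **degree 11 or 12**: the invariants -/
theorem eleven_inv {r : P →* Matrix (Fin n) (Fin n) K} (hr : Rp E r) (hn : n ≤ 12) (hn' : n ≠ 10) :
    n = 11 ∧ (3 : K) ≠ 0 ∧ ∃ s σ : K, s ^ 3 = 1 ∧ σ ^ 2 + σ + 1 = 0 ∧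
      (r E.c).trace - (r (E.c * E.z1)).trace = -8 * s ∧
      (r (E.c * E.c)).trace - (r (E.c * E.c * E.z1)).trace = -8 * s ^ 2 ∧
      (r E.ze).trace + (r (E.ze * E.z1)).trace = 6 * σ ∧
      (r (E.ze * E.ze)).trace + (r (E.ze * E.ze * E.z1)).trace = 6 * σ ^ 2 := by
  obtain ⟨i, hi⟩ := exists_i (K := K)
  obtain ⟨H, h8, hp, h10, hI⟩ := rp_good h2 D hg hr hn hi
  have hV0 : V0 (E.map (en r)) ≠ ⊥ := by
    intro h
    rw [h, finrank_bot] at h10
    omega
  obtain ⟨F⟩ := exists_frame H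
  obtain ⟨h3, σ, P⟩ := H.exists_plus hI hV0 (by omega) (by omega) (fun _ => exists_omega h2)
  obtain ⟨s, hs3, hs⟩ := exists_cs D H F
  refine ⟨by omega, P.three, s, σ, hs3, P.hσ, ?_, ?_, ?_, ?_⟩
  · have h := tr_c H h8 hs
    rw [mul_sub, mul_one, map_sub] at h
    rw [← h, ← trace_en, ← trace_en, map_mul (en r)]
    rfl
  · have h := tr_cc H h8 hs
    rw [mul_sub, mul_one, map_sub] at h
    rw [← h, ← trace_en, ← trace_en, map_mul (en r) (E.c * E.c), map_mul (en r) E.c E.c]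
    rfl
  · have h := tr_ze H h3 P
    rw [mul_add, mul_one, map_add] at h
    rw [← h, ← trace_en, ← trace_en, map_mul (en r)]
    rfl
  · have h := tr_zeze H h3 P
    rw [mul_add, mul_one, map_add] at h
    rw [← h, ← trace_en, ← trace_en, map_mul (en r) (E.ze * E.ze), map_mul (en r) E.ze E.ze]
    rfl

theorem eleven {r r' : P →* Matrix (Fin n) (Fin n) K} (hr : Rp E r) (hr' : Rp E r') (hn : n = 11)
    (hc : (r E.c).trace - (r (E.c * E.z1)).trace = (r' E.c).trace - (r' (E.c * E.z1)).trace)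
    (hz : (r E.ze).trace + (r (E.ze * E.z1)).trace = (r' E.ze).trace + (r' (E.ze * E.z1)).trace) (g : P) :
    (r g).trace = (r' g).trace := by
  obtain ⟨i, hi⟩ := exists_i (K := K)
  obtain ⟨H, h8, hp, h10, hI⟩ := rp_good h2 D hg hr (by omega) hi
  obtain ⟨H', h8', hp', h10', hI'⟩ := rp_good h2 D hg hr' (by omega) hi
  have hV0 : V0 (E.map (en r)) ≠ ⊥ := by
    intro h
    rw [h, finrank_bot] at h10
    omega
  have hV0' : V0 (E.map (en r')) ≠ ⊥ := by
    intro h
    rw [h, finrank_bot] at h10'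
    omega
  obtain ⟨F⟩ := exists_frame H
  obtain ⟨F'⟩ := exists_frame H'
  obtain ⟨h3, σ, Q⟩ := H.exists_plus hI hV0 (by omega) (by omega) (fun _ => exists_omega h2)
  obtain ⟨h3', σ', Q'⟩ := H'.exists_plus hI' hV0' (by omega) (by omega) (fun _ => exists_omega h2)
  obtain ⟨s, hs3, hs⟩ := exists_cs D H F
  obtain ⟨s', hs3', hs'⟩ := exists_cs D H' F'
  have four : (4 : K) ≠ 0 := by
    have : (4 : K) = 2 * 2 := by norm_num
    rw [this]
    exact mul_ne_zero h2 h2
  have eight : (8 : K) ≠ 0 := by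
    have : (8 : K) = 2 * 4 := by norm_num
    rw [this]
    exact mul_ne_zero h2 four
  have hss : s = s' := by
    have e1 := tr_c H h8 hs
    have e2 := tr_c H' h8' hs'
    rw [mul_sub, mul_one, map_sub] at e1 e2
    have e3 : (r E.c).trace - (r (E.c * E.z1)).trace = -8 * s := by
      rw [← e1, ← trace_en, ← trace_en, map_mul (en r)]; rfl
    have e4 : (r' E.c).trace - (r' (E.c * E.z1)).trace = -8 * s' := by
      rw [← e2, ← trace_en, ← trace_en, map_mul (en r')]; rfl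
    rw [e3, e4] at hc
    have : (8 : K) * (s - s') = 0 := by linear_combination -hc
    exact sub_eq_zero.1 ((mul_eq_zero.1 this).resolve_left eight)
  have hσσ : σ = σ' := by
    have e1 := tr_ze H h3 Q
    have e2 := tr_ze H' h3' Q'
    rw [mul_add, mul_one, map_add] at e1 e2
    have e3 : (r E.ze).trace + (r (E.ze * E.z1)).trace = 6 * σ := by
      rw [← e1, ← trace_en, ← trace_en, map_mul (en r)]; rfl
    have e4 : (r' E.ze).trace + (r' (E.ze * E.z1)).trace = 6 * σ' := by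
      rw [← e2, ← trace_en, ← trace_en, map_mul (en r')]; rfl
    rw [e3, e4] at hz
    have : (6 : K) * (σ - σ') = 0 := by linear_combination hz
    exact sub_eq_zero.1 ((mul_eq_zero.1 this).resolve_left (six_ne h2 Q.three))
  rw [← hss] at hs'
  rw [← hσσ] at Q'
  obtain ⟨θ, hθ0, hθ⟩ := compare_eleven D H H' hI Q Q' hs hs'
  have := trace_eq hg hI hI' hθ0 hθ g
  rwa [trace_en, trace_en] at this

end ac

end Cfsg.Agent.H36.U52
end

-- part: H36/U52/Main
section
/-!
# Representations of `U_5(2)` of degree at most 12, odd characteristic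

`main` : a core `P` of degree `n ≤ 12` in characteristic `p ≠ 2` with `P` modulo scalars `≅ U_5(2)` has
* `n = 10`, `SD P`, `Fr P p`; or
* `n = 11`, `p ≠ 3`, not `SD P`, and (`p ≡ 1 mod 3`, `Fr P p`, or `p ≡ 2 mod 3`, `Cj P p`).
-/

set_option autoImplicit false
set_option linter.unusedSectionVars false

namespace Cfsg.Agent.H36.U52

open Module Matrix Cfsg Cfsg.Agent.H915.LD

universe u v w

variable {F : Type u} [Field F] {n : ℕ}

section reps

variable {K : Type v} [Field K] (P : Subgroup (GL (Fin n) F))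

/-- extension of scalars along a ring homomorphism -/
def ext (ψ : F →+* K) : P →* Matrix (Fin n) (Fin n) K :=
  ((RingHom.mapMatrix ψ : Matrix (Fin n) (Fin n) F →+* Matrix (Fin n) (Fin n) K).toMonoidHom.comp
    (Units.coeHom (Matrix (Fin n) (Fin n) F))).comp P.subtype

theorem ext_apply (ψ : F →+* K) (g : P) : ext P ψ g = ((g : GL (Fin n) F) : Matrix (Fin n) (Fin n) F).map ψ := rfl

theorem trace_ext (ψ : F →+* K) (g : P) : (ext P ψ g).trace = ψ (tr (g : GL (Fin n) F)) := by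
  rw [ext_apply, tr, Matrix.trace, Matrix.trace, map_sum]
  rfl

/-- the dual -/
def dul (r : P →* Matrix (Fin n) (Fin n) K) : P →* Matrix (Fin n) (Fin n) K where
  toFun g := (r g⁻¹)ᵀ
  map_one' := by rw [inv_one, map_one, Matrix.transpose_one]
  map_mul' a b := by rw [_root_.mul_inv_rev, map_mul, Matrix.transpose_mul]

theorem dul_apply (r : P →* Matrix (Fin n) (Fin n) K) (g : P) : dul P r g = (r g⁻¹)ᵀ := rfl

theorem trace_dul (r : P →* Matrix (Fin n) (Fin n) K) (g : P) : (dul P r g).trace = (r g⁻¹).trace := by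
  rw [dul_apply, Matrix.trace_transpose]

variable {P}

theorem single_span (S : Submodule K (Matrix (Fin n) (Fin n) K)) (h : ∀ i j, Matrix.single i j (1 : K) ∈ S) :
    S = ⊤ := by
  rw [eq_top_iff]
  intro M _
  rw [Matrix.matrix_eq_sum_single M]
  apply Submodule.sum_mem
  intro i _
  apply Submodule.sum_mem
  intro j _
  have h1 := S.smul_mem (M i j) (h i j)
  rwa [Matrix.smul_single, smul_eq_mul, mul_one] at h1

theorem span_ext (hC : Core P) (ψ : F →+* K) : Submodule.span K (Set.range (ext P ψ)) = ⊤ := by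
  set S := Submodule.span K (Set.range (ext P ψ)) with hS
  let T : Submodule F (Matrix (Fin n) (Fin n) F) :=
    { carrier := {M | M.map ψ ∈ S}
      add_mem' := fun {A B} hA hB => by
        have : (A + B).map ψ = A.map ψ + B.map ψ := Matrix.map_add ψ (map_add ψ) A B
        change (A + B).map ψ ∈ S
        rw [this]
        exact S.add_mem hA hB
      zero_mem' := by
        change (0 : Matrix (Fin n) (Fin n) F).map ψ ∈ S
        rw [Matrix.map_zero ψ (map_zero ψ)]
        exact S.zero_mem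
      smul_mem' := fun c A hA => by
        change (c • A).map ψ ∈ S
        have : (c • A).map ψ = ψ c • A.map ψ := by
          ext i j
          simp
        rw [this]
        exact S.smul_mem _ hA }
  have hT : T = ⊤ := by
    rw [eq_top_iff, ← H920.span_eq_top hC.absIrred, Submodule.span_le]
    rintro _ ⟨g, hg, rfl⟩
    exact Submodule.subset_span ⟨⟨g, hg⟩, rfl⟩
  apply single_span
  intro i j
  have h1 : Matrix.single i j (1 : F) ∈ T := by rw [hT]; trivial
  have h2 : (Matrix.single i j (1 : F)).map ψ = Matrix.single i j (1 : K) := by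
    rw [Matrix.map_single, map_one]
  rw [← h2]
  exact h1

theorem span_dul {r : P →* Matrix (Fin n) (Fin n) K} (h : Submodule.span K (Set.range r) = ⊤) :
    Submodule.span K (Set.range (dul P r)) = ⊤ := by
  set S := Submodule.span K (Set.range (dul P r)) with hS
  let L : Matrix (Fin n) (Fin n) K →ₗ[K] Matrix (Fin n) (Fin n) K := (Matrix.transposeLinearEquiv (Fin n) (Fin n) K K).toLinearMap
  have h1 : S.comap L = ⊤ := by
    rw [eq_top_iff, ← h, Submodule.span_le]
    rintro _ ⟨g, rfl⟩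
    change (r g)ᵀ ∈ S
    have : (r g)ᵀ = dul P r g⁻¹ := by rw [dul_apply, inv_inv]
    rw [this]
    exact Submodule.subset_span ⟨_, rfl⟩
  rw [eq_top_iff]
  intro M _
  have h2 : Mᵀ ∈ S.comap L := by rw [h1]; trivial
  have h3 : Mᵀᵀ ∈ S := h2
  rwa [Matrix.transpose_transpose] at h3

theorem rp_ext (hC : Core P) {E : El P} (hz : E.z1 ≠ 1) (ψ : F →+* K) : Rp E (ext P ψ) := by
  refine ⟨span_ext hC ψ, ?_, ?_⟩
  · intro g
    have h1 := hC.det g.2
    have h2 : ((g : GL (Fin n) F) : Matrix (Fin n) (Fin n) F).det = 1 := by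
      rw [← Matrix.GeneralLinearGroup.val_det_apply, h1, Units.val_one]
    have h3 := RingHom.map_det ψ ((g : GL (Fin n) F) : Matrix (Fin n) (Fin n) F)
    rw [h2, map_one] at h3
    exact h3.symm
  · intro h
    apply hz
    apply Subtype.ext
    apply Units.ext
    ext i j
    have h1 := congrFun (congrFun h i) j
    rw [ext_apply, Matrix.map_apply] at h1
    apply ψ.injective
    rw [h1]
    change (1 : Matrix (Fin n) (Fin n) K) i j = ψ ((1 : Matrix (Fin n) (Fin n) F) i j)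
    rw [Matrix.one_apply, Matrix.one_apply]
    split_ifs <;> simp

theorem rp_dul {E : El P} {r : P →* Matrix (Fin n) (Fin n) K} (h : Rp E r) : Rp E (dul P r) := by
  refine ⟨span_dul h.span, ?_, ?_⟩
  · intro g
    rw [dul_apply, Matrix.det_transpose]
    exact h.det _
  · intro h1
    apply h.z1
    rw [dul_apply] at h1
    have h2 := congrArg Matrix.transpose h1
    rw [Matrix.transpose_transpose, Matrix.transpose_one] at h2
    have h3 : r E.z1 * r E.z1⁻¹ = 1 := by rw [← map_mul, mul_inv_cancel, map_one]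
    rw [h2, mul_one] at h3
    exact h3

end reps

/-- **Theorem.** -/
theorem main [Finite F] {P : Subgroup (GL (Fin n) F)} (hC : Core P) (p : ℕ) [hp : Fact p.Prime] [CharP F p]
    (hp2 : p ≠ 2) (hn : n ≤ 12) {E : El P} (D : Rel E) (hg : Subgroup.closure (gens E) = ⊤) (hz : E.z1 ≠ 1) :
    (n = 10 ∧ SD P ∧ Fr P p) ∨
      (n = 11 ∧ p ≠ 3 ∧ ¬ SD P ∧ ((p % 3 = 1 ∧ Fr P p) ∨ (p % 3 = 2 ∧ Cj P p))) := by
  let K := AlgebraicClosure F
  let ι : F →+* K := algebraMap F K
  have : CharP K p := charP_of_injective_algebraMap (algebraMap F K).injective p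
  have hι : Function.Injective ι := ι.injective
  have h2 : (2 : K) ≠ 0 := by
    intro h
    have h1 : ((2 : ℕ) : K) = 0 := by exact_mod_cast h
    rw [CharP.cast_eq_zero_iff K p] at h1
    exact hp2 ((Nat.prime_dvd_prime_iff_eq hp.out Nat.prime_two).1 h1)
  have hfin : Finite P := inferInstance
  let φ : F →+* K := (frobenius K p).comp ι
  have r0 := rp_ext hC hz ι
  have rF := rp_ext hC hz φ
  have rD := rp_dul r0
  have t0 : ∀ g : P, (ext P ι g).trace = ι (tr (g : GL (Fin n) F)) := trace_ext P ι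
  have tF : ∀ g : P, (ext P φ g).trace = ι (tr (g : GL (Fin n) F)) ^ p := trace_ext P φ
  have tD : ∀ g : P, (dul P (ext P ι) g).trace = ι (tr ((g⁻¹ : P) : GL (Fin n) F)) := fun g => by
    rw [trace_dul, t0]
  by_cases h10 : n = 10
  · left
    refine ⟨h10, ?_, ?_⟩
    · intro g hg'
      have h := ten h2 D hg r0 rD h10 ⟨g, hg'⟩
      rw [t0, tD] at h
      exact (hι h).symm
    · intro g hg'
      have h := ten h2 D hg r0 rF h10 ⟨g, hg'⟩
      rw [t0, tF, ← map_pow] at h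
      exact (hι h).symm
  · right
    obtain ⟨h11, h3, s, σ, hs3, hσ, c0, cc0, z0, zz0⟩ := eleven_inv h2 D hg r0 hn h10
    have hσ3 : σ ^ 3 = 1 := by linear_combination (σ - 1) * hσ
    have hp3 : p ≠ 3 := by
      intro h
      apply h3
      have : ((p : ℕ) : K) = 0 := CharP.cast_eq_zero K p
      rw [h] at this
      exact_mod_cast this
    have h6 := six_ne h2 h3
    have cinv : E.c⁻¹ = E.c * E.c := by rw [inv_eq_iff_mul_eq_one, D.c3]
    have zinv : E.ze⁻¹ = E.ze * E.ze := by rw [inv_eq_iff_mul_eq_one, D.ze3]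
    have z1inv : E.z1⁻¹ = E.z1 := by rw [inv_eq_iff_mul_eq_one, D.z1z1]
    have czinv : (E.c * E.z1)⁻¹ = E.c * E.c * E.z1 := by
      rw [_root_.mul_inv_rev, z1inv, cinv, ← mul_assoc, D.z1c, mul_assoc, D.z1c, mul_assoc]
    have zzinv : (E.ze * E.z1)⁻¹ = E.ze * E.ze * E.z1 := by
      rw [_root_.mul_inv_rev, z1inv, zinv, ← mul_assoc, D.z1ze, mul_assoc, D.z1ze, mul_assoc]
    -- invariants of the three representations
    have hchar : ∀ x : K, (-8 * x) ^ p = -8 * x ^ p ∧ (6 * x) ^ p = 6 * x ^ p := by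
      intro x
      have e1 : ∀ m : ℕ, ((m : K)) ^ p = m := by
        intro m
        have := map_natCast (frobenius K p) m
        rwa [frobenius_def] at this
      have e8 : (8 : K) ^ p = 8 := by exact_mod_cast e1 8
      have e6 : (6 : K) ^ p = 6 := by exact_mod_cast e1 6
      have en1 : (-1 : K) ^ p = -1 := (hp.out.odd_of_ne_two hp2).neg_one_pow
      constructor
      · have : (-8 * x) = (-1) * (8 * x) := by ring
        rw [this, mul_pow, mul_pow, en1, e8]; ring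
      · rw [mul_pow, e6]
    have cF : (ext P φ E.c).trace - (ext P φ (E.c * E.z1)).trace = -8 * s ^ p := by
      rw [tF, tF, ← t0, ← t0, ← frobenius_def p, ← frobenius_def p, ← map_sub, c0, frobenius_def, (hchar s).1]
    have zF : (ext P φ E.ze).trace + (ext P φ (E.ze * E.z1)).trace = 6 * σ ^ p := by
      rw [tF, tF, ← t0, ← t0, ← frobenius_def p, ← frobenius_def p, ← map_add, z0, frobenius_def, (hchar σ).2]
    have cD : (dul P (ext P ι) E.c).trace - (dul P (ext P ι) (E.c * E.z1)).trace = -8 * s ^ 2 := by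
      rw [tD, tD, ← t0, ← t0, cinv, czinv, cc0]
    have zD : (dul P (ext P ι) E.ze).trace + (dul P (ext P ι) (E.ze * E.z1)).trace = 6 * σ ^ 2 := by
      rw [tD, tD, ← t0, ← t0, zinv, zzinv, zz0]
    refine ⟨h11, hp3, ?_, ?_⟩
    · intro hSD
      have e1 : ∀ g : P, (dul P (ext P ι) g).trace = (ext P ι g).trace := by
        intro g
        rw [t0, tD]
        congr 1
        exact hSD g g.2
      rw [e1, e1, z0] at zD
      have h4 : σ ^ 2 = σ := by
        have : (6 : K) * (σ ^ 2 - σ) = 0 := by linear_combination -zD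
        exact sub_eq_zero.1 ((mul_eq_zero.1 this).resolve_left h6)
      have h5 : σ = 1 := by
        have h7 : σ ^ 3 = σ ^ 2 := by rw [pow_succ', h4, ← pow_two, h4]
        rw [← h4, ← h7, hσ3]
      rw [h5] at hσ
      apply h3
      linear_combination hσ
    · have hmod : p % 3 = 1 ∨ p % 3 = 2 := by
        have h4 : ¬ 3 ∣ p := fun h => hp3 ((Nat.prime_dvd_prime_iff_eq Nat.prime_three hp.out).1 h).symm
        omega
      have powmod : ∀ x : K, x ^ 3 = 1 → ∀ m : ℕ, x ^ m = x ^ (m % 3) := by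
        intro x hx m
        conv_lhs => rw [← Nat.div_add_mod m 3, pow_add, pow_mul, hx, one_pow, one_mul]
      rcases hmod with h | h
      · left
        refine ⟨h, ?_⟩
        intro g hg'
        have h7 := eleven h2 D hg r0 rF h11 (by rw [c0, cF, powmod s hs3 p, h, pow_one])
          (by rw [z0, zF, powmod σ hσ3 p, h, pow_one]) ⟨g, hg'⟩
        rw [t0, tF, ← map_pow] at h7
        exact (hι h7).symm
      · right
        refine ⟨h, ?_⟩
        intro g hg'
        have h7 := eleven h2 D hg rF rD h11 (by rw [cF, cD, powmod s hs3 p, h])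
          (by rw [zF, zD, powmod σ hσ3 p, h]) ⟨g, hg'⟩
        rw [tF, tD, ← map_pow] at h7
        exact hι h7

/-- **Row T6.** Cores with socle `U_5(2)` of degree at most 12 in odd characteristic. -/
theorem t6 [Finite F] {P : Subgroup (GL (Fin n) F)} (hC : Core P) (p : ℕ) [hp : Fact p.Prime] [CharP F p]
    (hp2 : p ≠ 2) (hn : n ≤ 12) {F₄ : Type} [Field F₄] [Fintype F₄] (hF₄ : Fintype.card F₄ = 4)
    (e : Soc P ≃* PSU 5 F₄ 2) :
    (n = 10 ∧ SD P ∧ Fr P p) ∨
      (n = 11 ∧ p ≠ 3 ∧ ¬ SD P ∧ ((p % 3 = 1 ∧ Fr P p) ∨ (p % 3 = 2 ∧ Cj P p))) := by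
  have hm := Cfsg.Agent.S2089.result 5 2 (F := F₄) (by rw [hF₄]; norm_num) (by norm_num) (by norm_num) (by
    simp)
  have hm1 : HasSchurMultiplier (PSU 5 F₄ 2) (Multiplicative (ZMod 1)) := by
    have h5 : Nat.gcd 5 (2 + 1) = 1 := by norm_num
    rw [h5] at hm
    exact hm
  obtain ⟨e', -⟩ := hC.equiv_of_coprime e hm1 (by simp)
  obtain ⟨E, D, hg, hz⟩ := exists_data hF₄ e'
  exact main hC p hp2 hn D hg hz

end Cfsg.Agent.H36.U52
end

private theorem dce_6b1fbe459dab : _root_.True := by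
  try have : _root_.True := by simp only [_root_.Cfsg.Agent.H915.LD.tr.eq_1]
  try have : _root_.True := by simp only [_root_.Cfsg.Agent.H36.U52.gens.eq_1]
  try have : _root_.True := by simp only [_root_.Cfsg.Agent.H36.U52.suEl.eq_1]
  try have : _root_.True := by simp only [_root_.Cfsg.Agent.H36.U52.gs.eq_1]
  exact _root_.True.intro
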