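import Mathlib
import Cfsg.Agent.FastGrp
import Cfsg.Agent.Prune
set_option linter.all false
prune_inst 0x7ffdebffbbfdfbffffff7fffa7decffdfdffbffff6fffdcbffe0ebfffbff7f8acfe5ffaf8feadbfe5ff7e234d4f8fb53fdffefffeb6bdc7ffffd5ff41ffbffdffdf7b51951fe9db41fbc0fff03f0778e7f3fffffffffffffffffffffffffffbeffbfffffffff
open scoped Cfsg.Agent.FastGrp

-- part: H36/U52/Rel
section
/-!
# Generators and relations inside `SU_5(2)` used for its low-dimensional representations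
-/

set_option autoImplicit false

namespace Cfsg.Agent.H36.U52

universe u v

/-- the elements -/
structure El (G : Type u) where
  (z1 z2 z3 z4 z5 a1 a2 a3 b1 b2 b3 h c r1 r2 d1 d2 y1 y2 t ze : G)

/-- image of the elements under a map -/
def El.map {G : Type u} {H : Type v} (E : El G) (f : G → H) : El H :=
  ⟨f E.z1, f E.z2, f E.z3, f E.z4, f E.z5, f E.a1, f E.a2, f E.a3, f E.b1, f E.b2, f E.b3, f E.h, f E.c, f E.r1,
    f E.r2, f E.d1, f E.d2, f E.y1, f E.y2, f E.t, f E.ze⟩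

/-- the relations (in a monoid) -/
structure Rel {G : Type u} [Monoid G] (E : El G) : Prop where
  z1z1 : E.z1 * E.z1 = 1
  z2z2 : E.z2 * E.z2 = 1
  a1a1 : E.a1 * E.a1 = 1
  a2a2 : E.a2 * E.a2 = 1
  a3a3 : E.a3 * E.a3 = E.z1
  b1b1 : E.b1 * E.b1 = 1
  b2b2 : E.b2 * E.b2 = 1
  b3b3 : E.b3 * E.b3 = E.z1
  hh : E.h * E.h = 1
  z1z2 : E.z1 * E.z2 = E.z2 * E.z1
  z1a1 : E.z1 * E.a1 = E.a1 * E.z1
  z1a2 : E.z1 * E.a2 = E.a2 * E.z1
  z1a3 : E.z1 * E.a3 = E.a3 * E.z1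
  z1b1 : E.z1 * E.b1 = E.b1 * E.z1
  z1b2 : E.z1 * E.b2 = E.b2 * E.z1
  z1b3 : E.z1 * E.b3 = E.b3 * E.z1
  z1c : E.z1 * E.c = E.c * E.z1
  z1r1 : E.z1 * E.r1 = E.r1 * E.z1
  z1y1 : E.z1 * E.y1 = E.y1 * E.z1
  z1y2 : E.z1 * E.y2 = E.y2 * E.z1
  z2a1 : E.z2 * E.a1 = E.a1 * E.z2
  z2a2 : E.z2 * E.a2 = E.a2 * E.z2
  z2a3 : E.z2 * E.a3 = E.a3 * E.z2
  z2b3 : E.z2 * E.b3 = E.b3 * E.z2
  z2c : E.z2 * E.c = E.c * E.z2
  z2r1 : E.z2 * E.r1 = E.r1 * E.z2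
  z2ze : E.z2 * E.ze = E.ze * E.z2
  z3e : E.z3 = E.z2 * E.a1
  z4e : E.z4 = E.z2 * E.a2
  z5e : E.z5 = E.z1 * E.a1 * E.a2 * E.z2
  a1a2 : E.a1 * E.a2 = E.a2 * E.a1
  a1a3 : E.a1 * E.a3 = E.a3 * E.a1
  a2a3 : E.a2 * E.a3 = E.a3 * E.a2
  a1b1 : E.a1 * E.b1 = E.z1 * E.b1 * E.a1
  a1b2 : E.a1 * E.b2 = E.b2 * E.a1
  a1b3 : E.a1 * E.b3 = E.b3 * E.a1
  a2b1 : E.a2 * E.b1 = E.b1 * E.a2
  a2b2 : E.a2 * E.b2 = E.z1 * E.b2 * E.a2
  a2b3 : E.a2 * E.b3 = E.b3 * E.a2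
  a3b1 : E.a3 * E.b1 = E.b1 * E.a3
  a3b2 : E.a3 * E.b2 = E.b2 * E.a3
  a3b3 : E.a3 * E.b3 = E.z1 * E.b3 * E.a3
  b1b2 : E.b1 * E.b2 = E.b2 * E.b1
  b1b3 : E.b1 * E.b3 = E.b3 * E.b1
  b2b3 : E.b2 * E.b3 = E.b3 * E.b2
  z2b1 : E.z2 * E.b1 = E.b1 * E.z4
  z2b2 : E.z2 * E.b2 = E.b2 * E.z3
  z1h : E.z1 * E.h = E.h * E.z2
  z2h : E.z2 * E.h = E.h * E.z1
  z3h : E.z3 * E.h = E.h * E.z3
  z4h : E.z4 * E.h = E.h * E.z5
  c3 : E.c * (E.c * E.c) = 1
  ca1 : E.c * E.a1 = E.a1 * E.c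
  ca2 : E.c * E.a2 = E.a2 * E.c
  cb1 : E.c * E.b1 = E.b1 * E.c
  cb2 : E.c * E.b2 = E.b2 * E.c
  ch : E.c * E.h = E.h * E.c
  ca3 : E.c * E.a3 = E.b3 * E.c
  cb3 : E.c * E.b3 = E.a3 * E.b3 * E.c
  r1h : E.r1 * E.h = E.h * E.a3
  r2h : E.r2 * E.h = E.h * E.b3
  d1h : E.d1 * E.h = E.h * E.b1
  d2h : E.d2 * E.h = E.h * E.b2
  he : E.h = E.b2 * E.d2 * E.b2
  te : E.t = E.c * E.ze
  te' : E.t = E.b2 * E.d1 * E.b1 * E.d2
  y1y2 : E.y1 * E.y2 = E.ze * (E.y2 * E.y1)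
  zey1 : E.ze * E.y1 = E.y1 * E.ze
  zey2 : E.ze * E.y2 = E.y2 * E.ze
  z1ze : E.z1 * E.ze = E.ze * E.z1
  zer2 : E.ze * E.r2 = E.r2 * E.ze
  zer1 : E.ze * E.r1 = E.r1 * E.ze
  zec : E.ze * E.c = E.c * E.ze
  ze3 : E.ze * (E.ze * E.ze) = 1
  y13 : E.y1 * (E.y1 * E.y1) = 1
  y23 : E.y2 * (E.y2 * E.y2) = 1
  z2y1 : E.z2 * E.y1 = E.y1 * E.y1 * E.z2
  z2y2 : E.z2 * E.y2 = E.y2 * E.y2 * E.z2
  r1y1 : E.r1 * E.y1 = E.y2 * E.r1
  r1y2 : E.r1 * E.y2 = E.y1 * E.y1 * E.r1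
  cy1 : E.c * E.y1 = E.y1 * E.c
  cy2 : E.c * E.y2 = E.y1 * E.y1 * E.y2 * E.y1 * E.y1 * E.c
  r1r1 : E.r1 * E.r1 = E.z2
  cr1 : E.c * E.r1 = E.r2 * E.c
  cr2 : E.c * E.r2 = E.r1 * E.r2 * E.c
  a1r1 : E.a1 * E.r1 = E.r1 * E.a1
  a2r1 : E.a2 * E.r1 = E.r1 * E.a2
  a3r1 : E.a3 * E.r1 = E.r1 * (E.z1 * E.a1 * E.a3)
  b1r1 : E.b1 * E.r1 = E.r1 * (E.z1 * E.a1 * E.b1 * E.b3)
  b2r1 : E.b2 * E.r1 = E.r1 * (E.a1 * E.a2 * E.a3 * E.b2)
  b3r1 : E.b3 * E.r1 = E.r1 * (E.z1 * E.a2 * E.b3)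
  a1y1 : E.a1 * E.y1 = E.y1 * (E.z1 * E.a1 * E.b2)
  a2y1 : E.a2 * E.y1 = E.y1 * (E.z1 * E.a2 * E.b1)
  a3y1 : E.a3 * E.y1 = E.y1 * E.a3
  b1y1 : E.b1 * E.y1 = E.y1 * (E.z1 * E.a2)
  b2y1 : E.b2 * E.y1 = E.y1 * (E.z1 * E.a1)
  b3y1 : E.b3 * E.y1 = E.y1 * E.b3
  a1y2 : E.a1 * E.y2 = E.y2 * (E.z1 * E.a1 * E.a2 * E.a3 * E.b2)
  a2y2 : E.a2 * E.y2 = E.y2 * (E.a1 * E.b1 * E.b3)
  a3y2 : E.a3 * E.y2 = E.y2 * (E.a2 * E.b2)
  b1y2 : E.b1 * E.y2 = E.y2 * (E.a1 * E.a2 * E.a3 * E.b2 * E.b3)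
  b2y2 : E.b2 * E.y2 = E.y2 * (E.z1 * E.a2 * E.b1 * E.b2 * E.b3)
  b3y2 : E.b3 * E.y2 = E.y2 * (E.z1 * E.a1 * E.a2 * E.b1)
  z1d1 : E.z1 * E.d1 = E.d1 * E.z5
  z2d1 : E.z2 * E.d1 = E.d1 * E.z2
  a1d1 : E.a1 * E.d1 = E.d1 * E.a2
  a2d1 : E.a2 * E.d1 = E.d1 * E.a1
  z1r2 : E.z1 * E.r2 = E.r2 * E.z1
  z2r2 : E.z2 * E.r2 = E.r2 * E.z2
  r1r2 : E.r1 * E.r2 = E.z2 * E.r2 * E.r1
  r2r2 : E.r2 * E.r2 = E.z2
  a3d1 : E.a3 * E.d1 = E.d1 * (E.b3 * E.a3 * E.r2 * E.b3)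
  b3d1 : E.b3 * E.d1 = E.d1 * (E.r2 * E.b3 * E.r1 * E.z2)
  td1 : E.t * E.d1 = E.d2 * E.t
  td2 : E.t * E.d2 = E.d1 * E.d2 * E.t
  w1 : E.h * E.b1 = E.b1 * E.b2 * (E.d1 * E.t)
  w2 : E.h * E.b2 = E.b2 * E.d2

theorem Rel.map {G : Type u} {H : Type v} [Monoid G] [Monoid H] {E : El G} (D : Rel E) (f : G →* H) :
    Rel (E.map f) := by
  obtain ⟨⟩ := D
  constructor <;> simp only [El.map] <;> first
    | (rw [← map_one f]; simp only [← map_mul]; congr 1)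
    | (simp only [← map_mul]; congr 1)

end Cfsg.Agent.H36.U52
end

-- part: H36/U52/Lin
section
/-!
# Linear algebra: splitting and doubling of dimensions
-/

set_option autoImplicit false
set_option linter.unusedSectionVars false

namespace Cfsg.Agent.H36.U52

open Module

universe u v w

variable {K : Type u} {V : Type v} [Field K] [AddCommGroup V] [Module K V]

/-- the eigenspace -/
abbrev ES (T : Module.End K V) (α : K) : Submodule K V := Module.End.eigenspace T α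

theorem mem_ES {T : Module.End K V} {α : K} {x : V} : x ∈ ES T α ↔ T x = α • x := Module.End.mem_eigenspace_iff

variable [FiniteDimensional K V]

theorem finrank_add {W W1 W2 : Submodule K V} (h1 : W1 ≤ W) (h2 : W2 ≤ W) (hd : ∀ x, x ∈ W1 → x ∈ W2 → x = 0)
    (hs : ∀ x ∈ W, ∃ y ∈ W1, x - y ∈ W2) : finrank K W = finrank K W1 + finrank K W2 := by
  have h3 : W1 ⊔ W2 = W := by
    apply le_antisymm (sup_le h1 h2)
    intro x hx
    obtain ⟨y, hy, hxy⟩ := hs x hx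
    rw [Submodule.mem_sup]
    exact ⟨y, hy, x - y, hxy, by abel⟩
  have h4 : W1 ⊓ W2 = ⊥ := by
    rw [Submodule.eq_bot_iff]
    intro x hx
    exact hd x hx.1 hx.2
  have h5 := Submodule.finrank_sup_add_finrank_inf_eq W1 W2
  rw [h3, h4, finrank_bot, add_zero] at h5
  exact h5

/-- a subspace stable under an operator with two eigenvalues -/
theorem finrank_split (W : Submodule K V) (T : Module.End K V) (α β : K) (hαβ : α ≠ β) (hW : ∀ x ∈ W, T x ∈ W)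
    (hT : ∀ x ∈ W, T (T x) = (α + β) • T x - (α * β) • x) :
    finrank K W = finrank K ↥(W ⊓ ES T α) + finrank K ↥(W ⊓ ES T β) := by
  have hne : α - β ≠ 0 := sub_ne_zero.2 hαβ
  apply finrank_add inf_le_left inf_le_left
  · intro x hx hx'
    have h1 := mem_ES.1 hx.2
    have h2 := mem_ES.1 hx'.2
    have h3 : (α - β) • x = 0 := by rw [sub_smul, ← h1, ← h2, sub_self]
    exact (smul_eq_zero.1 h3).resolve_left hne
  · intro x hx
    refine ⟨(α - β)⁻¹ • (T x - β • x), ⟨W.smul_mem _ (W.sub_mem (hW x hx) (W.smul_mem _ hx)), ?_⟩, ?_, ?_⟩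
    · refine mem_ES.2 ?_
      rw [map_smul, map_sub, map_smul, hT x hx, smul_comm α]
      congr 1
      module
    · exact W.sub_mem hx (W.smul_mem _ (W.sub_mem (hW x hx) (W.smul_mem _ hx)))
    · have h1 : x - (α - β)⁻¹ • (T x - β • x) = (α - β)⁻¹ • (α • x - T x) := by
        have h2 : x = (α - β)⁻¹ • ((α - β) • x) := by rw [smul_smul, inv_mul_cancel₀ hne, one_smul]
        nth_rewrite 1 [h2]
        rw [← smul_sub]
        congr 1
        module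
      have h3 : x - (α - β)⁻¹ • (T x - β • x) ∈ ES T β := by
        rw [h1, mem_ES, map_smul, map_sub, map_smul, hT x hx, smul_comm β]
        congr 1
        module
      exact h3

/-- an operator `T` with `T² = 1` -/
theorem finrank_invol (W : Submodule K V) (T : Module.End K V) (h2 : (2 : K) ≠ 0) (hW : ∀ x ∈ W, T x ∈ W)
    (hT : ∀ x ∈ W, T (T x) = x) : finrank K W = finrank K ↥(W ⊓ ES T 1) + finrank K ↥(W ⊓ ES T (-1)) := by
  apply finrank_split W T 1 (-1) _ hW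
  · intro x hx
    rw [hT x hx]
    module
  · intro h
    apply h2
    linear_combination h

theorem finrank_le_of_maps {W1 W2 : Submodule K V} (B : Module.End K V) (hB : ∀ x, B x = 0 → x = 0)
    (h : ∀ x ∈ W1, B x ∈ W2) : finrank K W1 ≤ finrank K W2 := by
  have hinj : Function.Injective (B.restrict h) := by
    rw [← LinearMap.ker_eq_bot, Submodule.eq_bot_iff]
    intro x hx
    have h1 := congrArg Subtype.val (LinearMap.mem_ker.1 hx)
    exact Subtype.ext (hB _ h1)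
  exact LinearMap.finrank_le_finrank_of_injective hinj

theorem finrank_eq_of_maps {W1 W2 : Submodule K V} (B B' : Module.End K V) (hB : ∀ x, B x = 0 → x = 0)
    (hB' : ∀ x, B' x = 0 → x = 0)
    (h : ∀ x ∈ W1, B x ∈ W2) (h' : ∀ x ∈ W2, B' x ∈ W1) : finrank K W1 = finrank K W2 :=
  le_antisymm (finrank_le_of_maps B hB h) (finrank_le_of_maps B' hB' h')

/-- the dimension doubles -/
theorem finrank_double (W : Submodule K V) (T B : Module.End K V) (α β : K) (hαβ : α ≠ β) (hW : ∀ x ∈ W, T x ∈ W)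
    (hT : ∀ x ∈ W, T (T x) = (α + β) • T x - (α * β) • x) (hBW : ∀ x ∈ W, B x ∈ W)
    (hB : ∀ x, B x = 0 → x = 0) (h1 : ∀ x ∈ W, T x = α • x → T (B x) = β • B x)
    (h2 : ∀ x ∈ W, T x = β • x → T (B x) = α • B x) :
    finrank K W = 2 * finrank K ↥(W ⊓ ES T α) := by
  rw [finrank_split W T α β hαβ hW hT]
  have h3 : finrank K ↥(W ⊓ ES T α) = finrank K ↥(W ⊓ ES T β) := by
    apply finrank_eq_of_maps B B hB hB
    · intro x hx
      exact ⟨hBW x hx.1, mem_ES.2 (h1 x hx.1 (mem_ES.1 hx.2))⟩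
    · intro x hx
      exact ⟨hBW x hx.1, mem_ES.2 (h2 x hx.1 (mem_ES.1 hx.2))⟩
  omega

/-- an operator with `T³ = 1` -/
theorem finrank_three (W : Submodule K V) (T : Module.End K V) (ω : K) (hω : ω ^ 2 + ω + 1 = 0) (h3 : (3 : K) ≠ 0)
    (hW : ∀ x ∈ W, T x ∈ W) (hT : ∀ x ∈ W, T (T (T x)) = x) :
    finrank K W = finrank K ↥(W ⊓ ES T 1) + finrank K ↥(W ⊓ ES T ω) + finrank K ↥(W ⊓ ES T (ω ^ 2)) := by
  set W1 : Submodule K V := W ⊓ LinearMap.ker (T ^ 2 + T + 1) with hW1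
  have mem1 : ∀ x, x ∈ W1 ↔ x ∈ W ∧ T (T x) + T x + x = 0 := by
    intro x
    rw [hW1, Submodule.mem_inf, LinearMap.mem_ker]
    simp only [pow_two, LinearMap.add_apply, Module.End.mul_apply, Module.End.one_apply]
  have e1 : finrank K W = finrank K ↥(W ⊓ ES T 1) + finrank K W1 := by
    apply finrank_add inf_le_left inf_le_left
    · intro x hx hx'
      have h4 := mem_ES.1 hx.2
      rw [one_smul] at h4
      have h5 := ((mem1 x).1 hx').2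
      rw [h4, h4] at h5
      have h6 : (3 : K) • x = 0 := by
        rw [← h5]; module
      exact (smul_eq_zero.1 h6).resolve_left h3
    · intro x hx
      refine ⟨(3 : K)⁻¹ • (T (T x) + T x + x), ⟨?_, ?_⟩, ?_⟩
      · exact W.smul_mem _ (W.add_mem (W.add_mem (hW _ (hW _ hx)) (hW _ hx)) hx)
      · refine mem_ES.2 ?_
        rw [one_smul, map_smul, map_add, map_add, hT x hx]
        congr 1
        abel
      · rw [mem1]
        refine ⟨W.sub_mem hx (W.smul_mem _ (W.add_mem (W.add_mem (hW _ (hW _ hx)) (hW _ hx)) hx)), ?_⟩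
        have h7 := hT x hx
        have h8 : T (T (T (T x))) = T x := by rw [h7]
        simp only [map_sub, map_smul, map_add, h7]
        have h9 : (T (T x) + T x + x) = (3 : K)⁻¹ • ((3 : K) • (T (T x) + T x + x)) := by
          rw [smul_smul, inv_mul_cancel₀ h3, one_smul]
        have h10 : T (T x) - (3 : K)⁻¹ • (T x + x + T (T x)) + (T x - (3 : K)⁻¹ • (x + T (T x) + T x)) +
            (x - (3 : K)⁻¹ • (T (T x) + T x + x)) = (T (T x) + T x + x) -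
              (3 : K)⁻¹ • ((3 : K) • (T (T x) + T x + x)) := by module
        rw [h10, ← h9, sub_self]
  have hωω : ω ≠ ω ^ 2 := by
    intro h
    have h0 : ω ≠ 0 := by rintro rfl; simp at hω
    have h1 : ω = 1 := by
      have : ω * (ω - 1) = 0 := by linear_combination -h
      rcases mul_eq_zero.1 this with h | h
      · exact absurd h h0
      · linear_combination h
    rw [h1] at hω
    apply h3
    linear_combination hω
  have e2 := finrank_split W1 T ω (ω ^ 2) hωω (by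
    intro x hx
    rw [mem1] at hx ⊢
    refine ⟨hW x hx.1, ?_⟩
    rw [← map_add, ← map_add, hx.2, map_zero]) (by
    intro x hx
    have h1 := ((mem1 x).1 hx).2
    have h2 : T (T x) = -(T x) - x := by
      have : T (T x) = (T (T x) + T x + x) - T x - x := by abel
      rw [this, h1]; abel
    rw [h2]
    have h4 : ω + ω ^ 2 = -1 := by linear_combination hω
    have h5 : ω * ω ^ 2 = 1 := by linear_combination (ω - 1) * hω
    rw [h4, h5]
    module)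
  have sub : ∀ β : K, β ^ 2 + β + 1 = 0 → W1 ⊓ ES T β = W ⊓ ES T β := by
    intro β hβ
    ext x
    simp only [Submodule.mem_inf, mem1, mem_ES]
    constructor
    · rintro ⟨⟨h1, _⟩, h2⟩
      exact ⟨h1, h2⟩
    · rintro ⟨h1, h2⟩
      refine ⟨⟨h1, ?_⟩, h2⟩
      rw [h2, map_smul, h2]
      have : β • β • x + β • x + x = (β ^ 2 + β + 1) • x := by module
      rw [this, hβ, zero_smul]
  rw [e1, e2, sub ω hω, sub (ω ^ 2) (by linear_combination (ω ^ 2 - ω + 1) * hω)]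
  omega

end Cfsg.Agent.H36.U52
end

-- part: H36/U52/One
section
/-!
# One module of dimension at most 12: eigenspaces of `z1`, `z2`
-/

set_option autoImplicit false
set_option linter.unusedSectionVars false

namespace Cfsg.Agent.H36.U52

open Module

universe u v w

variable {K : Type u} {V : Type v} [Field K] [AddCommGroup V] [Module K V]

/-- `z1 = -1` -/
def Vm (E : El (Module.End K V)) : Submodule K V := ES E.z1 (-1)
/-- `z1 = 1` -/
def Vp (E : El (Module.End K V)) : Submodule K V := ES E.z1 1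
/-- `z1 = a1 = -1` -/
def V3 (E : El (Module.End K V)) : Submodule K V := Vm E ⊓ ES E.a1 (-1)
/-- `z1 = a1 = a2 = -1` -/
def V2 (E : El (Module.End K V)) : Submodule K V := V3 E ⊓ ES E.a2 (-1)
/-- `z1 = a1 = a2 = -1`, `a3 = i` -/
def X (E : El (Module.End K V)) (i : K) : Submodule K V := V2 E ⊓ ES E.a3 i
/-- `z1 = 1`, `z2 = -1` -/
def V1 (E : El (Module.End K V)) : Submodule K V := Vp E ⊓ ES E.z2 (-1)
/-- `z1 = 1`, `z2 = 1` -/
def V0 (E : El (Module.End K V)) : Submodule K V := Vp E ⊓ ES E.z2 1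

variable {E : El (Module.End K V)}

theorem mem_Vm {x : V} : x ∈ Vm E ↔ E.z1 x = -x := by rw [Vm, mem_ES, neg_one_smul]
theorem mem_Vp {x : V} : x ∈ Vp E ↔ E.z1 x = x := by rw [Vp, mem_ES, one_smul]
theorem mem_V3 {x : V} : x ∈ V3 E ↔ E.z1 x = -x ∧ E.a1 x = -x := by
  rw [V3, Submodule.mem_inf, mem_Vm, mem_ES, neg_one_smul]
theorem mem_V2 {x : V} : x ∈ V2 E ↔ (E.z1 x = -x ∧ E.a1 x = -x) ∧ E.a2 x = -x := by
  rw [V2, Submodule.mem_inf, mem_V3, mem_ES, neg_one_smul]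
theorem mem_X {i : K} {x : V} : x ∈ X E i ↔ ((E.z1 x = -x ∧ E.a1 x = -x) ∧ E.a2 x = -x) ∧ E.a3 x = i • x := by
  rw [X, Submodule.mem_inf, mem_V2, mem_ES]
theorem mem_V1 {x : V} : x ∈ V1 E ↔ E.z1 x = x ∧ E.z2 x = -x := by
  rw [V1, Submodule.mem_inf, mem_Vp, mem_ES, neg_one_smul]
theorem mem_V0 {x : V} : x ∈ V0 E ↔ E.z1 x = x ∧ E.z2 x = x := by
  rw [V0, Submodule.mem_inf, mem_Vp, mem_ES, one_smul]

/-- apply an identity of operators -/
theorem ap {f g : Module.End K V} (h : f = g) (x : V) : f x = g x := LinearMap.congr_fun h x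

section vec

variable (D : Rel E) (x : V)
include D

theorem inj_z1 (h : E.z1 x = 0) : x = 0 := by
  have h1 : E.z1 (E.z1 x) = x := ap D.z1z1 x
  rw [← h1, h, map_zero]

theorem inj_z2 (h : E.z2 x = 0) : x = 0 := by
  have h1 : E.z2 (E.z2 x) = x := ap D.z2z2 x
  rw [← h1, h, map_zero]

theorem inj_b1 (h : E.b1 x = 0) : x = 0 := by
  have h1 : E.b1 (E.b1 x) = x := ap D.b1b1 x
  rw [← h1, h, map_zero]

theorem inj_b2 (h : E.b2 x = 0) : x = 0 := by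
  have h1 : E.b2 (E.b2 x) = x := ap D.b2b2 x
  rw [← h1, h, map_zero]

theorem inj_b3 (h : E.b3 x = 0) : x = 0 := by
  have h1 : E.b3 (E.b3 x) = E.z1 x := ap D.b3b3 x
  rw [h, map_zero] at h1
  exact inj_z1 D x h1.symm

theorem inj_h (h : E.h x = 0) : x = 0 := by
  have h1 : E.h (E.h x) = x := ap D.hh x
  rw [← h1, h, map_zero]

theorem inj_c (h : E.c x = 0) : x = 0 := by
  have h1 : E.c (E.c (E.c x)) = x := ap D.c3 x
  rw [← h1, h, map_zero, map_zero]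

theorem inj_y2 (h : E.y2 x = 0) : x = 0 := by
  have h1 : E.y2 (E.y2 (E.y2 x)) = x := ap D.y23 x
  rw [← h1, h, map_zero, map_zero]

theorem inj_r1 (h : E.r1 x = 0) : x = 0 := by
  have h1 : E.r1 (E.r1 x) = E.z2 x := ap D.r1r1 x
  rw [h, map_zero] at h1
  exact inj_z2 D x h1.symm

/-- `b3` commutes with everything relevant, anti-commutes with `a3` -/
theorem b3_V2 (hx : x ∈ V2 E) : E.b3 x ∈ V2 E := by
  rw [mem_V2] at hx ⊢
  obtain ⟨⟨h1, h2⟩, h3⟩ := hx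
  refine ⟨⟨?_, ?_⟩, ?_⟩
  · rw [show E.z1 (E.b3 x) = E.b3 (E.z1 x) from ap D.z1b3 x, h1, map_neg]
  · rw [show E.a1 (E.b3 x) = E.b3 (E.a1 x) from ap D.a1b3 x, h2, map_neg]
  · rw [show E.a2 (E.b3 x) = E.b3 (E.a2 x) from ap D.a2b3 x, h3, map_neg]

theorem a3_V2 (hx : x ∈ V2 E) : E.a3 x ∈ V2 E := by
  rw [mem_V2] at hx ⊢
  obtain ⟨⟨h1, h2⟩, h3⟩ := hx
  refine ⟨⟨?_, ?_⟩, ?_⟩
  · rw [show E.z1 (E.a3 x) = E.a3 (E.z1 x) from ap D.z1a3 x, h1, map_neg]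
  · rw [show E.a1 (E.a3 x) = E.a3 (E.a1 x) from ap D.a1a3 x, h2, map_neg]
  · rw [show E.a2 (E.a3 x) = E.a3 (E.a2 x) from ap D.a2a3 x, h3, map_neg]

theorem z2_V2 (hx : x ∈ V2 E) : E.z2 x ∈ V2 E := by
  rw [mem_V2] at hx ⊢
  obtain ⟨⟨h1, h2⟩, h3⟩ := hx
  refine ⟨⟨?_, ?_⟩, ?_⟩
  · rw [show E.z1 (E.z2 x) = E.z2 (E.z1 x) from ap D.z1z2 x, h1, map_neg]
  · rw [← show E.z2 (E.a1 x) = E.a1 (E.z2 x) from ap D.z2a1 x, h2, map_neg]
  · rw [← show E.z2 (E.a2 x) = E.a2 (E.z2 x) from ap D.z2a2 x, h3, map_neg]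

theorem a3_b3 (hx : x ∈ V2 E) : E.a3 (E.b3 x) = -(E.b3 (E.a3 x)) := by
  have h1 : E.a3 (E.b3 x) = E.z1 (E.b3 (E.a3 x)) := ap D.a3b3 x
  have h2 := b3_V2 D _ (a3_V2 D x hx)
  rw [h1]
  exact (mem_V2.1 h2).1.1

theorem a3_a3 (hx : x ∈ V2 E) : E.a3 (E.a3 x) = -x := by
  rw [show E.a3 (E.a3 x) = E.z1 x from ap D.a3a3 x]
  exact (mem_V2.1 hx).1.1

theorem b3_b3 (hx : x ∈ V2 E) : E.b3 (E.b3 x) = -x := by
  rw [show E.b3 (E.b3 x) = E.z1 x from ap D.b3b3 x]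
  exact (mem_V2.1 hx).1.1

end vec

variable [FiniteDimensional K V]

theorem finrank_V2 (D : Rel E) (h2 : (2 : K) ≠ 0) {i : K} (hi : i * i = -1) :
    finrank K (V2 E) = 2 * finrank K (X E i) := by
  have hi0 : i ≠ 0 := by
    rintro rfl
    rw [mul_zero] at hi
    apply h2
    linear_combination 2 * hi
  apply finrank_double (V2 E) E.a3 E.b3 i (-i)
  · intro h
    apply h2
    have h3 : (2 : K) * i = 0 := by linear_combination h
    exact (mul_eq_zero.1 h3).resolve_right hi0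
  · exact fun x hx => a3_V2 D x hx
  · intro x hx
    rw [a3_a3 D x hx]
    have : i * -i = 1 := by linear_combination -hi
    rw [this, add_neg_cancel, zero_smul, one_smul, zero_sub]
  · exact fun x hx => b3_V2 D x hx
  · exact fun x => inj_b3 D x
  · intro x hx h
    rw [a3_b3 D x hx, h, map_smul, neg_smul]
  · intro x hx h
    rw [a3_b3 D x hx, h, map_smul, neg_smul, neg_neg]

theorem two_ne {α : K} (h2 : (2 : K) ≠ 0) (hα : α = 1 ∨ α = -1) : α ≠ -α := by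
  intro h
  apply h2
  rcases hα with rfl | rfl
  · linear_combination h
  · linear_combination -h

theorem finrank_V3 (D : Rel E) (h2 : (2 : K) ≠ 0) : finrank K (V3 E) = 2 * finrank K (V2 E) := by
  apply finrank_double (V3 E) E.a2 E.b2 (-1) 1
  · intro h
    apply h2
    linear_combination -h
  · intro x hx
    rw [mem_V3] at hx ⊢
    obtain ⟨h1, h3⟩ := hx
    refine ⟨?_, ?_⟩
    · rw [show E.z1 (E.a2 x) = E.a2 (E.z1 x) from ap D.z1a2 x, h1, map_neg]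
    · rw [show E.a1 (E.a2 x) = E.a2 (E.a1 x) from ap D.a1a2 x, h3, map_neg]
  · intro x _
    rw [show E.a2 (E.a2 x) = x from ap D.a2a2 x]
    module
  · intro x hx
    rw [mem_V3] at hx ⊢
    obtain ⟨h1, h3⟩ := hx
    refine ⟨?_, ?_⟩
    · rw [show E.z1 (E.b2 x) = E.b2 (E.z1 x) from ap D.z1b2 x, h1, map_neg]
    · rw [show E.a1 (E.b2 x) = E.b2 (E.a1 x) from ap D.a1b2 x, h3, map_neg]
  · exact fun x => inj_b2 D x
  · intro x hx h
    have h1 := (mem_V3.1 hx).1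
    rw [show E.a2 (E.b2 x) = E.z1 (E.b2 (E.a2 x)) from ap D.a2b2 x, h,
      show E.z1 (E.b2 _) = E.b2 (E.z1 _) from ap D.z1b2 _, map_smul, h1]
    simp
  · intro x hx h
    have h1 := (mem_V3.1 hx).1
    rw [show E.a2 (E.b2 x) = E.z1 (E.b2 (E.a2 x)) from ap D.a2b2 x, h,
      show E.z1 (E.b2 _) = E.b2 (E.z1 _) from ap D.z1b2 _, map_smul, h1]
    simp

theorem finrank_Vm' (D : Rel E) (h2 : (2 : K) ≠ 0) : finrank K (Vm E) = 2 * finrank K (V3 E) := by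
  apply finrank_double (Vm E) E.a1 E.b1 (-1) 1
  · intro h
    apply h2
    linear_combination -h
  · intro x hx
    rw [mem_Vm] at hx ⊢
    rw [show E.z1 (E.a1 x) = E.a1 (E.z1 x) from ap D.z1a1 x, hx, map_neg]
  · intro x _
    rw [show E.a1 (E.a1 x) = x from ap D.a1a1 x]
    module
  · intro x hx
    rw [mem_Vm] at hx ⊢
    rw [show E.z1 (E.b1 x) = E.b1 (E.z1 x) from ap D.z1b1 x, hx, map_neg]
  · exact fun x => inj_b1 D x
  · intro x hx h
    have h1 := mem_Vm.1 hx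
    rw [show E.a1 (E.b1 x) = E.z1 (E.b1 (E.a1 x)) from ap D.a1b1 x, h,
      show E.z1 (E.b1 _) = E.b1 (E.z1 _) from ap D.z1b1 _, map_smul, h1]
    simp
  · intro x hx h
    have h1 := mem_Vm.1 hx
    rw [show E.a1 (E.b1 x) = E.z1 (E.b1 (E.a1 x)) from ap D.a1b1 x, h,
      show E.z1 (E.b1 _) = E.b1 (E.z1 _) from ap D.z1b1 _, map_smul, h1]
    simp

theorem finrank_Vm (D : Rel E) (h2 : (2 : K) ≠ 0) {i : K} (hi : i * i = -1) :
    finrank K (Vm E) = 8 * finrank K (X E i) := by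
  rw [finrank_Vm' D h2, finrank_V3 D h2, finrank_V2 D h2 hi]
  ring

theorem finrank_total (D : Rel E) (h2 : (2 : K) ≠ 0) : finrank K V = finrank K (Vp E) + finrank K (Vm E) := by
  have h := finrank_invol (K := K) (V := V) ⊤ E.z1 h2 (fun _ _ => trivial) (fun x _ => ap D.z1z1 x)
  rw [finrank_top] at h
  rw [h, top_inf_eq, top_inf_eq]
  rfl

/-- on `V2`, `z2` is a sign `ε` if `X` is one-dimensional -/
theorem z2_on_V2 (D : Rel E) (h2 : (2 : K) ≠ 0) {i : K} (hi : i * i = -1) (hX : finrank K (X E i) = 1) :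
    ∃ ε : K, (ε = 1 ∨ ε = -1) ∧ ∀ x ∈ V2 E, E.z2 x = ε • x := by
  obtain ⟨v, hv0, hv⟩ := finrank_eq_one_iff'.1 hX
  have hspan : ∀ x ∈ X E i, ∃ k : K, x = k • (v : V) := by
    intro x hx
    obtain ⟨k, hk⟩ := hv ⟨x, hx⟩
    exact ⟨k, (congrArg Subtype.val hk).symm⟩
  have hv0' : (v : V) ≠ 0 := fun h => hv0 (Subtype.ext h)
  have hzX : ∀ x ∈ X E i, E.z2 x ∈ X E i := by
    intro x hx
    refine ⟨z2_V2 D x hx.1, mem_ES.2 ?_⟩
    rw [← show E.z2 (E.a3 x) = E.a3 (E.z2 x) from ap D.z2a3 x, mem_ES.1 hx.2, map_smul]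
  obtain ⟨ε, hε⟩ := hspan _ (hzX _ v.2)
  have hεε : ε = 1 ∨ ε = -1 := by
    have h3 : E.z2 (E.z2 (v : V)) = v := ap D.z2z2 _
    rw [hε, map_smul, hε, smul_smul] at h3
    have h4 : (ε * ε - 1) • (v : V) = 0 := by rw [sub_smul, h3, one_smul, sub_self]
    have h5 := (smul_eq_zero.1 h4).resolve_right hv0'
    have h6 : (ε - 1) * (ε + 1) = 0 := by linear_combination h5
    rcases mul_eq_zero.1 h6 with h | h
    · left; linear_combination h
    · right; linear_combination h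
  refine ⟨ε, hεε, ?_⟩
  have hX1 : ∀ x ∈ X E i, E.z2 x = ε • x := by
    intro x hx
    obtain ⟨k, rfl⟩ := hspan x hx
    rw [map_smul, hε, smul_comm]
  have hX2 : ∀ x ∈ V2 E, E.a3 x = -(i • x) → E.z2 x = ε • x := by
    intro x hx h
    have h3 : E.b3 x ∈ X E i := by
      refine ⟨b3_V2 D x hx, mem_ES.2 ?_⟩
      rw [a3_b3 D x hx, h, map_neg, map_smul, neg_neg]
    have h4 := hX1 _ h3
    rw [show E.z2 (E.b3 x) = E.b3 (E.z2 x) from ap D.z2b3 x, ← map_smul] at h4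
    have h5 : E.b3 (E.z2 x - ε • x) = 0 := by rw [map_sub, h4, sub_self]
    exact sub_eq_zero.1 (inj_b3 D _ h5)
  intro x hx
  have hx3 := a3_a3 D x hx
  have h1 := hX1 (x - i • E.a3 x) ⟨(V2 E).sub_mem hx ((V2 E).smul_mem _ (a3_V2 D x hx)), mem_ES.2 (by
    rw [map_sub, map_smul, hx3, smul_sub, smul_smul, hi, neg_smul, one_smul, smul_neg]; abel)⟩
  have h3 := hX2 (x + i • E.a3 x) ((V2 E).add_mem hx ((V2 E).smul_mem _ (a3_V2 D x hx))) (by
    rw [map_add, map_smul, hx3, smul_add, smul_smul, hi, neg_smul, one_smul, smul_neg]; abel)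
  rw [map_sub] at h1
  rw [map_add] at h3
  have h4 : (2 : K) • E.z2 x = (2 : K) • (ε • x) := by
    have : (2 : K) • E.z2 x = (E.z2 x - E.z2 (i • E.a3 x)) + (E.z2 x + E.z2 (i • E.a3 x)) := by module
    rw [this, h1, h3]
    module
  exact smul_right_injective V h2 h4

/-- the converse -/
theorem mem_V2_of_z2 (D : Rel E) (h2 : (2 : K) ≠ 0) {ε : K} (hε : ε = 1 ∨ ε = -1)
    (hz : ∀ x ∈ V2 E, E.z2 x = ε • x) {x : V} (h1 : E.z1 x = -x) (hx : E.z2 x = ε • x) : x ∈ V2 E := by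
  have hne := two_ne h2 hε
  have kill : ∀ y : V, ε • y = (-ε) • y → y = 0 := by
    intro y hy
    have : (ε - -ε) • y = 0 := by rw [sub_smul, hy, sub_self]
    exact (smul_eq_zero.1 this).resolve_left (sub_ne_zero.2 hne)
  -- `a1 = 1`, `a2 = -1`
  have k1 : ∀ y : V, E.z1 y = -y → E.z2 y = ε • y → E.a1 y = y → E.a2 y = -y → y = 0 := by
    intro y hy1 hy2 ha hb
    have hm : E.b1 y ∈ V2 E := by
      rw [mem_V2]
      refine ⟨⟨?_, ?_⟩, ?_⟩
      · rw [show E.z1 (E.b1 y) = E.b1 (E.z1 y) from ap D.z1b1 y, hy1, map_neg]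
      · rw [show E.a1 (E.b1 y) = E.z1 (E.b1 (E.a1 y)) from ap D.a1b1 y, ha,
          show E.z1 (E.b1 _) = E.b1 (E.z1 _) from ap D.z1b1 _, hy1, map_neg]
      · rw [show E.a2 (E.b1 y) = E.b1 (E.a2 y) from ap D.a2b1 y, hb, map_neg]
    have h3 := hz _ hm
    rw [show E.z2 (E.b1 y) = E.b1 (E.z4 y) from ap D.z2b1 y, show E.z4 y = E.z2 (E.a2 y) from ap D.z4e y, hb,
      map_neg, hy2, ← neg_smul, map_smul] at h3
    have := kill _ h3.symm
    exact inj_b1 D y this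
  have k2 : ∀ y : V, E.z1 y = -y → E.z2 y = ε • y → E.a1 y = -y → E.a2 y = y → y = 0 := by
    intro y hy1 hy2 ha hb
    have hm : E.b2 y ∈ V2 E := by
      rw [mem_V2]
      refine ⟨⟨?_, ?_⟩, ?_⟩
      · rw [show E.z1 (E.b2 y) = E.b2 (E.z1 y) from ap D.z1b2 y, hy1, map_neg]
      · rw [show E.a1 (E.b2 y) = E.b2 (E.a1 y) from ap D.a1b2 y, ha, map_neg]
      · rw [show E.a2 (E.b2 y) = E.z1 (E.b2 (E.a2 y)) from ap D.a2b2 y, hb,
          show E.z1 (E.b2 _) = E.b2 (E.z1 _) from ap D.z1b2 _, hy1, map_neg]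
    have h3 := hz _ hm
    rw [show E.z2 (E.b2 y) = E.b2 (E.z3 y) from ap D.z2b2 y, show E.z3 y = E.z2 (E.a1 y) from ap D.z3e y, ha,
      map_neg, hy2, ← neg_smul, map_smul] at h3
    have := kill _ h3.symm
    exact inj_b2 D y this
  have k3 : ∀ y : V, E.z1 y = -y → E.z2 y = ε • y → E.a1 y = y → E.a2 y = y → y = 0 := by
    intro y hy1 hy2 ha hb
    have e1 : E.a2 (E.b2 y) = -(E.b2 y) := by
      rw [show E.a2 (E.b2 y) = E.z1 (E.b2 (E.a2 y)) from ap D.a2b2 y, hb,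
          show E.z1 (E.b2 _) = E.b2 (E.z1 _) from ap D.z1b2 _, hy1, map_neg]
    have e2 : E.a1 (E.b2 y) = E.b2 y := by
      rw [show E.a1 (E.b2 y) = E.b2 (E.a1 y) from ap D.a1b2 y, ha]
    have e3 : E.z1 (E.b2 y) = -(E.b2 y) := by
      rw [show E.z1 (E.b2 y) = E.b2 (E.z1 y) from ap D.z1b2 y, hy1, map_neg]
    have e4 : E.z2 (E.b2 y) = ε • E.b2 y := by
      rw [show E.z2 (E.b2 y) = E.b2 (E.z3 y) from ap D.z2b2 y, show E.z3 y = E.z2 (E.a1 y) from ap D.z3e y, ha,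
        hy2, map_smul]
    exact inj_b2 D y (k1 _ e3 e4 e2 e1)
  -- first `a1`
  have ha1a1 : E.a1 (E.a1 x) = x := ap D.a1a1 x
  have ha2 : ∀ y, E.a2 (E.a2 y) = y := fun y => ap D.a2a2 y
  have s1 : x + E.a1 x = 0 := by
    set y := x + E.a1 x with hy
    have y1 : E.z1 y = -y := by
      rw [hy, map_add, h1, show E.z1 (E.a1 x) = E.a1 (E.z1 x) from ap D.z1a1 x, h1, map_neg]; abel
    have y2 : E.z2 y = ε • y := by
      rw [hy, map_add, hx, show E.z2 (E.a1 x) = E.a1 (E.z2 x) from ap D.z2a1 x, hx, map_smul, smul_add]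
    have y3 : E.a1 y = y := by rw [hy, map_add, ha1a1]; abel
    have c1 : E.a1 (E.a2 y) = E.a2 y := by
      rw [show E.a1 (E.a2 y) = E.a2 (E.a1 y) from ap D.a1a2 y, y3]
    have c2 : E.z1 (E.a2 y) = -(E.a2 y) := by
      rw [show E.z1 (E.a2 y) = E.a2 (E.z1 y) from ap D.z1a2 y, y1, map_neg]
    have c3 : E.z2 (E.a2 y) = ε • E.a2 y := by
      rw [show E.z2 (E.a2 y) = E.a2 (E.z2 y) from ap D.z2a2 y, y2, map_smul]
    have p1 := k3 (y + E.a2 y) (by rw [map_add, y1, c2]; abel) (by rw [map_add, y2, c3, ← smul_add])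
      (by rw [map_add, y3, c1]) (by rw [map_add, ha2]; abel)
    have p2 := k1 (y - E.a2 y) (by rw [map_sub, y1, c2]; abel) (by rw [map_sub, y2, c3, ← smul_sub])
      (by rw [map_sub, y3, c1]) (by rw [map_sub, ha2]; abel)
    have : (2 : K) • y = 0 := by
      have : (2 : K) • y = (y + E.a2 y) + (y - E.a2 y) := by module
      rw [this, p1, p2, add_zero]
    exact (smul_eq_zero.1 this).resolve_left h2
  have x1 : E.a1 x = -x := by
    rw [add_comm] at s1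
    exact eq_neg_of_add_eq_zero_left s1
  have s2 : x + E.a2 x = 0 := by
    apply k2
    · rw [map_add, h1, show E.z1 (E.a2 x) = E.a2 (E.z1 x) from ap D.z1a2 x, h1, map_neg]; abel
    · rw [map_add, hx, show E.z2 (E.a2 x) = E.a2 (E.z2 x) from ap D.z2a2 x, hx, map_smul, smul_add]
    · rw [map_add, show E.a1 (E.a2 x) = E.a2 (E.a1 x) from ap D.a1a2 x, x1, map_neg]; abel
    · rw [map_add, ha2]; abel
  have x2 : E.a2 x = -x := by
    rw [add_comm] at s2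
    exact eq_neg_of_add_eq_zero_left s2
  exact mem_V2.2 ⟨⟨h1, x1⟩, x2⟩

end Cfsg.Agent.H36.U52
end

-- part: H36/U52/Dims
section
/-!
# Dimensions, and `Q` acts trivially on `z1 = 1`
-/

set_option autoImplicit false
set_option linter.unusedSectionVars false

namespace Cfsg.Agent.H36.U52

open Module

universe u v w

variable {K : Type u} {V : Type v} [Field K] [AddCommGroup V] [Module K V] [FiniteDimensional K V]
variable {E : El (Module.End K V)}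

/-- what we know about a module -/
structure Good (E : El (Module.End K V)) (i : K) : Prop where
  rel : Rel E
  two : (2 : K) ≠ 0
  hi : i * i = -1
  dimX : finrank K (X E i) = 1
  z2V2 : ∀ x ∈ V2 E, E.z2 x = x
  toV2 : ∀ x, E.z1 x = -x → E.z2 x = x → x ∈ V2 E

theorem half {x : V} (h2 : (2 : K) ≠ 0) (h : x = -x) : x = 0 := by
  have : (2 : K) • x = 0 := by
    rw [two_smul]
    nth_rewrite 2 [h]
    exact add_neg_cancel x
  exact (smul_eq_zero.1 this).resolve_left h2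

theorem h_maps (D : Rel E) : finrank K ↥(ES E.z1 1 ⊓ ES E.z2 (-1)) = finrank K ↥(ES E.z1 (-1) ⊓ ES E.z2 1) := by
  apply finrank_eq_of_maps E.h E.h (inj_h D) (inj_h D)
  · intro x hx
    have h1 := mem_ES.1 hx.1
    have h2 := mem_ES.1 hx.2
    refine ⟨mem_ES.2 ?_, mem_ES.2 ?_⟩
    · rw [show E.z1 (E.h x) = E.h (E.z2 x) from ap D.z1h x, h2, map_smul]
    · rw [show E.z2 (E.h x) = E.h (E.z1 x) from ap D.z2h x, h1, map_smul]
  · intro x hx
    have h1 := mem_ES.1 hx.1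
    have h2 := mem_ES.1 hx.2
    refine ⟨mem_ES.2 ?_, mem_ES.2 ?_⟩
    · rw [show E.z1 (E.h x) = E.h (E.z2 x) from ap D.z1h x, h2, map_smul]
    · rw [show E.z2 (E.h x) = E.h (E.z1 x) from ap D.z2h x, h1, map_smul]

theorem split_z2 (D : Rel E) (h2 : (2 : K) ≠ 0) (α : K) :
    finrank K (ES E.z1 α) = finrank K ↥(ES E.z1 α ⊓ ES E.z2 1) + finrank K ↥(ES E.z1 α ⊓ ES E.z2 (-1)) := by
  apply finrank_invol (ES E.z1 α) E.z2 h2
  · intro x hx
    rw [mem_ES] at hx ⊢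
    rw [show E.z1 (E.z2 x) = E.z2 (E.z1 x) from ap D.z1z2 x, hx, map_smul]
  · intro x _
    exact ap D.z2z2 x

theorem good_and_dims (D : Rel E) (h2 : (2 : K) ≠ 0) {i : K} (hi : i * i = -1) (hn : finrank K V ≤ 12)
    (hz1 : E.z1 ≠ 1) :
    Good E i ∧ finrank K (V1 E) = 2 ∧ finrank K (Vm E) = 8 ∧ finrank K V = finrank K (V0 E) + 10 := by
  have e1 := finrank_Vm D h2 hi
  have e2 := finrank_total D h2
  have e0 : finrank K (X E i) ≠ 0 := by
    intro h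
    rw [h, mul_zero, Submodule.finrank_eq_zero] at e1
    apply hz1
    ext x
    have h3 : x - E.z1 x ∈ Vm E := by
      rw [mem_Vm, map_sub, show E.z1 (E.z1 x) = x from ap D.z1z1 x]; abel
    rw [e1, Submodule.mem_bot] at h3
    exact (sub_eq_zero.1 h3).symm
  have eX : finrank K (X E i) = 1 := by omega
  rw [eX] at e1
  obtain ⟨ε, hε, hz⟩ := z2_on_V2 D h2 hi eX
  have eV2 : finrank K (V2 E) = 2 := by rw [finrank_V2 D h2 hi, eX]
  have hsub : ES E.z1 (-1) ⊓ ES E.z2 ε = V2 E := by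
    ext x
    constructor
    · intro hx
      exact mem_V2_of_z2 D h2 hε hz (mem_Vm.1 hx.1) (mem_ES.1 hx.2)
    · intro hx
      exact ⟨hx.1.1, mem_ES.2 (hz x hx)⟩
  have s1 := split_z2 D h2 (-1)
  have s2 := split_z2 D h2 1
  have hh := h_maps D
  have e1' : finrank K (ES E.z1 (-1)) = 8 := e1.trans (by norm_num)
  have e2' : finrank K V = finrank K (ES E.z1 1) + 8 := by rw [e2, e1]; rfl
  have hε1 : ε = 1 := by
    rcases hε with h | h
    · exact h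
    · exfalso
      subst h
      rw [hsub, eV2, e1'] at s1
      omega
  subst hε1
  rw [hsub, eV2] at s1 hh
  refine ⟨⟨D, h2, hi, eX, fun x hx => by rw [hz x hx, one_smul], fun x h1 h3 =>
    mem_V2_of_z2 D h2 (Or.inl rfl) hz h1 (by rw [h3, one_smul])⟩, hh, e1, ?_⟩
  rw [e2', s2, hh]
  change _ = finrank K ↥(ES E.z1 1 ⊓ ES E.z2 1) + 10
  omega

section good

variable {i : K} (H : Good E i)
include H

theorem Good.N1 (x : V) (h1 : E.z1 x = -x) (h2 : E.z2 x = x) (h3 : E.a1 x = x) : x = 0 := by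
  have h4 := (mem_V2.1 (H.toV2 x h1 h2)).1.2
  rw [h3] at h4
  exact half H.two h4

theorem Good.C1 (x : V) (h1 : E.z1 x = x) (h2 : E.z2 x = x) : E.z3 x = x := by
  have D := H.rel
  have z3z3 : E.z3 (E.z3 x) = x := by
    rw [show E.z3 x = E.z2 (E.a1 x) from ap D.z3e x, show ∀ y, E.z3 y = E.z2 (E.a1 y) from fun y => ap D.z3e y,
      show E.a1 (E.z2 (E.a1 x)) = E.z2 (E.a1 (E.a1 x)) from (ap D.z2a1 _).symm,
      show E.a1 (E.a1 x) = x from ap D.a1a1 x, show E.z2 (E.z2 x) = x from ap D.z2z2 x]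
  have z3b2 : ∀ y, E.z3 (E.b2 y) = E.b2 (E.z2 y) := by
    intro y
    have e1 : E.z2 (E.b2 (E.b2 y)) = E.b2 (E.z3 (E.b2 y)) := ap D.z2b2 _
    rw [show E.b2 (E.b2 y) = y from ap D.b2b2 y] at e1
    rw [e1, show E.b2 (E.b2 _) = _ from ap D.b2b2 _]
    rfl
  set y := x - E.z3 x with hy
  have y1 : E.z1 y = y := by
    rw [hy, map_sub, h1, show E.z3 x = E.z2 (E.a1 x) from ap D.z3e x,
      show E.z1 (E.z2 (E.a1 x)) = E.z2 (E.z1 (E.a1 x)) from ap D.z1z2 _,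
      show E.z1 (E.a1 x) = E.a1 (E.z1 x) from ap D.z1a1 _, h1]
  have y2 : E.z2 y = y := by
    rw [hy, map_sub, h2, show E.z3 x = E.z2 (E.a1 x) from ap D.z3e x,
      show E.z2 (E.a1 x) = E.a1 (E.z2 x) from ap D.z2a1 _, h2,
      show E.z2 (E.a1 x) = E.a1 (E.z2 x) from ap D.z2a1 _, h2]
  have y3 : E.z3 y = -y := by rw [hy, map_sub, z3z3]; abel
  have w1 : E.z1 (E.h (E.b2 y)) = -(E.h (E.b2 y)) := by
    rw [show E.z1 (E.h _) = E.h (E.z2 _) from ap D.z1h _, show E.z2 (E.b2 y) = E.b2 (E.z3 y) from ap D.z2b2 y, y3,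
      map_neg, map_neg]
  have w2 : E.z2 (E.h (E.b2 y)) = E.h (E.b2 y) := by
    rw [show E.z2 (E.h _) = E.h (E.z1 _) from ap D.z2h _, show E.z1 (E.b2 y) = E.b2 (E.z1 y) from ap D.z1b2 y, y1]
  have w3 : E.z3 (E.h (E.b2 y)) = E.h (E.b2 y) := by
    rw [show E.z3 (E.h _) = E.h (E.z3 _) from ap D.z3h _, z3b2, y2]
  have w4 : E.a1 (E.h (E.b2 y)) = E.h (E.b2 y) := by
    have e1 : E.z3 (E.h (E.b2 y)) = E.z2 (E.a1 (E.h (E.b2 y))) := ap D.z3e _
    rw [show E.z2 (E.a1 _) = E.a1 (E.z2 _) from ap D.z2a1 _, w2, w3] at e1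
    exact e1.symm
  have w0 := H.N1 _ w1 w2 w4
  have := inj_b2 D _ (inj_h D _ w0)
  exact (sub_eq_zero.1 this).symm

theorem Good.z3b2 (y : V) : E.z3 (E.b2 y) = E.b2 (E.z2 y) := by
  have D := H.rel
  have e1 : E.z2 (E.b2 (E.b2 y)) = E.b2 (E.z3 (E.b2 y)) := ap D.z2b2 _
  rw [show E.b2 (E.b2 y) = y from ap D.b2b2 y] at e1
  rw [e1, show E.b2 (E.b2 _) = _ from ap D.b2b2 _]
  rfl

theorem Good.z3e (y : V) : E.z3 y = E.z2 (E.a1 y) := ap H.rel.z3e y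
theorem Good.z4e (y : V) : E.z4 y = E.z2 (E.a2 y) := ap H.rel.z4e y
theorem Good.z2z2 (y : V) : E.z2 (E.z2 y) = y := ap H.rel.z2z2 y
theorem Good.z2a1 (y : V) : E.z2 (E.a1 y) = E.a1 (E.z2 y) := ap H.rel.z2a1 y
theorem Good.z2a2 (y : V) : E.z2 (E.a2 y) = E.a2 (E.z2 y) := ap H.rel.z2a2 y
theorem Good.z1a1 (y : V) : E.z1 (E.a1 y) = E.a1 (E.z1 y) := ap H.rel.z1a1 y
theorem Good.z1a2 (y : V) : E.z1 (E.a2 y) = E.a2 (E.z1 y) := ap H.rel.z1a2 y
theorem Good.a1a1 (y : V) : E.a1 (E.a1 y) = y := ap H.rel.a1a1 y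
theorem Good.a2a2 (y : V) : E.a2 (E.a2 y) = y := ap H.rel.a2a2 y
theorem Good.a1a2 (y : V) : E.a1 (E.a2 y) = E.a2 (E.a1 y) := ap H.rel.a1a2 y
theorem Good.z1z2 (y : V) : E.z1 (E.z2 y) = E.z2 (E.z1 y) := ap H.rel.z1z2 y

theorem Good.C2 (x : V) (h1 : E.z1 x = x) (h2 : E.z2 x = -x) : E.a1 x = x := by
  have D := H.rel
  -- y = x - a1 x has a1 y = -y
  set y := x - E.a1 x with hy
  have y1 : E.z1 y = y := by rw [hy, map_sub, h1, H.z1a1, h1]
  have y2 : E.z2 y = -y := by rw [hy, map_sub, h2, H.z2a1, h2, map_neg]; abel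
  have y3 : E.a1 y = -y := by rw [hy, map_sub, H.a1a1]; abel
  have w1 : E.z1 (E.b2 y) = E.b2 y := by rw [show E.z1 (E.b2 y) = E.b2 (E.z1 y) from ap D.z1b2 y, y1]
  have w2 : E.z2 (E.b2 y) = E.b2 y := by
    rw [show E.z2 (E.b2 y) = E.b2 (E.z3 y) from ap D.z2b2 y, H.z3e, y3, map_neg, y2, neg_neg]
  have w3 := H.C1 _ w1 w2
  rw [H.z3b2, y2, map_neg] at w3
  have := inj_b2 D _ (half H.two w3.symm)
  exact (sub_eq_zero.1 this).symm

theorem Good.a1_triv (x : V) (h1 : E.z1 x = x) : E.a1 x = x := by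
  have e1 : E.a1 (x + E.z2 x) = x + E.z2 x := by
    have w1 : E.z1 (x + E.z2 x) = x + E.z2 x := by rw [map_add, H.z1z2, h1]
    have w2 : E.z2 (x + E.z2 x) = x + E.z2 x := by rw [map_add, H.z2z2]; abel
    have w3 := H.C1 _ w1 w2
    rw [H.z3e, H.z2a1, w2] at w3
    exact w3
  have e2 : E.a1 (x - E.z2 x) = x - E.z2 x := by
    apply H.C2
    · rw [map_sub, H.z1z2, h1]
    · rw [map_sub, H.z2z2]; abel
  rw [map_add] at e1
  rw [map_sub] at e2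
  have : (2 : K) • E.a1 x = (2 : K) • x := by
    have h3 : (2 : K) • E.a1 x = (E.a1 x + E.a1 (E.z2 x)) + (E.a1 x - E.a1 (E.z2 x)) := by module
    rw [h3, e1, e2]; module
  exact smul_right_injective V H.two this

theorem Good.C4 (x : V) (h1 : E.z1 x = x) (h2 : E.z2 x = -x) : E.a2 x = x := by
  have D := H.rel
  set y := x - E.a2 x with hy
  have y1 : E.z1 y = y := by rw [hy, map_sub, h1, H.z1a2, h1]
  have y2 : E.z2 y = -y := by rw [hy, map_sub, h2, H.z2a2, h2, map_neg]; abel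
  have y3 : E.a2 y = -y := by rw [hy, map_sub, H.a2a2]; abel
  have y4 : E.a1 y = y := H.a1_triv y y1
  have y5 : E.z5 y = y := by
    rw [show E.z5 y = E.z1 (E.a1 (E.a2 (E.z2 y))) from ap D.z5e y, y2, map_neg, y3, neg_neg, y4, y1]
  have w1 : E.z1 (E.h y) = -(E.h y) := by
    rw [show E.z1 (E.h _) = E.h (E.z2 _) from ap D.z1h _, y2, map_neg]
  have w2 : E.z2 (E.h y) = E.h y := by
    rw [show E.z2 (E.h _) = E.h (E.z1 _) from ap D.z2h _, y1]
  have w3 := (mem_V2.1 (H.toV2 _ w1 w2)).2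
  have w4 : E.z4 (E.h y) = E.h y := by
    rw [show E.z4 (E.h y) = E.h (E.z5 y) from ap D.z4h y, y5]
  rw [H.z4e, w3, map_neg, w2] at w4
  have := inj_h D _ (half H.two w4.symm)
  exact (sub_eq_zero.1 this).symm

theorem Good.a2_triv (x : V) (h1 : E.z1 x = x) : E.a2 x = x := by
  have D := H.rel
  have e2 : E.a2 (x - E.z2 x) = x - E.z2 x := by
    apply H.C4
    · rw [map_sub, H.z1z2, h1]
    · rw [map_sub, H.z2z2]; abel
  have e1 : E.a2 (x + E.z2 x) = x + E.z2 x := by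
    set x' := x + E.z2 x with hx'
    have w1 : E.z1 x' = x' := by rw [hx', map_add, H.z1z2, h1]
    have w2 : E.z2 x' = x' := by rw [hx', map_add, H.z2z2]; abel
    set y := x' - E.a2 x' with hy
    have y1 : E.z1 y = y := by rw [hy, map_sub, w1, H.z1a2, w1]
    have y2 : E.z2 y = y := by rw [hy, map_sub, w2, H.z2a2, w2]
    have y3 : E.a2 y = -y := by rw [hy, map_sub, H.a2a2]; abel
    have u1 : E.z1 (E.b1 y) = E.b1 y := by rw [show E.z1 (E.b1 y) = E.b1 (E.z1 y) from ap D.z1b1 y, y1]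
    have u2 : E.z2 (E.b1 y) = -(E.b1 y) := by
      rw [show E.z2 (E.b1 y) = E.b1 (E.z4 y) from ap D.z2b1 y, H.z4e, y3, map_neg, y2, map_neg]
    have u3 := H.C4 _ u1 u2
    rw [show E.a2 (E.b1 y) = E.b1 (E.a2 y) from ap D.a2b1 y, y3, map_neg] at u3
    have := inj_b1 D _ (half H.two u3.symm)
    exact (sub_eq_zero.1 this).symm
  rw [map_add] at e1
  rw [map_sub] at e2
  have : (2 : K) • E.a2 x = (2 : K) • x := by
    have h3 : (2 : K) • E.a2 x = (E.a2 x + E.a2 (E.z2 x)) + (E.a2 x - E.a2 (E.z2 x)) := by module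
    rw [h3, e1, e2]; module
  exact smul_right_injective V H.two this

theorem Good.y1_y1 (x : V) : E.y1 (E.y1 (E.y1 x)) = x := ap H.rel.y13 x
theorem Good.y2_y2 (x : V) : E.y2 (E.y2 (E.y2 x)) = x := ap H.rel.y23 x
theorem Good.y1_Vp (x : V) (h1 : E.z1 x = x) : E.z1 (E.y1 x) = E.y1 x := by
  rw [show E.z1 (E.y1 x) = E.y1 (E.z1 x) from ap H.rel.z1y1 x, h1]
theorem Good.y2_Vp (x : V) (h1 : E.z1 x = x) : E.z1 (E.y2 x) = E.y2 x := by
  rw [show E.z1 (E.y2 x) = E.y2 (E.z1 x) from ap H.rel.z1y2 x, h1]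

theorem Good.b1_triv (x : V) (h1 : E.z1 x = x) : E.b1 x = x := by
  have h3 := H.y1_Vp _ (H.y1_Vp x h1)
  have h4 : E.b1 (E.y1 (E.y1 (E.y1 x))) = E.y1 (E.z1 (E.a2 (E.y1 (E.y1 x)))) := ap H.rel.b1y1 _
  rw [H.a2_triv _ h3, h3, H.y1_y1] at h4
  exact h4

theorem Good.b2_triv (x : V) (h1 : E.z1 x = x) : E.b2 x = x := by
  have h3 := H.y1_Vp _ (H.y1_Vp x h1)
  have h4 : E.b2 (E.y1 (E.y1 (E.y1 x))) = E.y1 (E.z1 (E.a1 (E.y1 (E.y1 x)))) := ap H.rel.b2y1 _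
  rw [H.a1_triv _ h3, h3, H.y1_y1] at h4
  exact h4

theorem Good.a3_triv (x : V) (h1 : E.z1 x = x) : E.a3 x = x := by
  have h3 := H.y2_Vp _ (H.y2_Vp x h1)
  have h4 : E.a3 (E.y2 (E.y2 (E.y2 x))) = E.y2 (E.a2 (E.b2 (E.y2 (E.y2 x)))) := ap H.rel.a3y2 _
  rw [H.b2_triv _ h3, H.a2_triv _ h3, H.y2_y2] at h4
  exact h4

/-! ### `V0` -/

theorem Good.h_V0 {x : V} (hx : x ∈ V0 E) : E.h x ∈ V0 E := by
  rw [mem_V0] at hx ⊢
  exact ⟨by rw [show E.z1 (E.h _) = E.h (E.z2 _) from ap H.rel.z1h _, hx.2],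
    by rw [show E.z2 (E.h _) = E.h (E.z1 _) from ap H.rel.z2h _, hx.1]⟩

theorem Good.h_h (x : V) : E.h (E.h x) = x := ap H.rel.hh x

theorem Good.d2_V0 {x : V} (hx : x ∈ V0 E) : E.d2 x = x := by
  have h3 : E.d2 (E.h (E.h x)) = E.h (E.b2 (E.h x)) := ap H.rel.d2h _
  rw [H.b2_triv _ (mem_V0.1 (H.h_V0 hx)).1, H.h_h] at h3
  exact h3

theorem Good.hV0 {x : V} (hx : x ∈ V0 E) : E.h x = x := by
  have h1 := (mem_V0.1 hx).1
  rw [show E.h x = E.b2 (E.d2 (E.b2 x)) from ap H.rel.he x, H.b2_triv _ h1, H.d2_V0 hx, H.b2_triv _ h1]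

/-! ### `V1` -/

theorem Good.h_V1 {x : V} (hx : x ∈ V1 E) : E.h x ∈ V2 E := by
  rw [mem_V1] at hx
  apply H.toV2
  · rw [show E.z1 (E.h _) = E.h (E.z2 _) from ap H.rel.z1h _, hx.2, map_neg]
  · rw [show E.z2 (E.h _) = E.h (E.z1 _) from ap H.rel.z2h _, hx.1]

theorem Good.h_V2 {x : V} (hx : x ∈ V2 E) : E.h x ∈ V1 E := by
  rw [mem_V1]
  constructor
  · rw [show E.z1 (E.h _) = E.h (E.z2 _) from ap H.rel.z1h _, H.z2V2 x hx]
  · rw [show E.z2 (E.h _) = E.h (E.z1 _) from ap H.rel.z2h _, (mem_V2.1 hx).1.1, map_neg]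

end good

end Cfsg.Agent.H36.U52
end

-- part: H36/U52/Frame
section
/-!
# A vector and a functional adapted to the extraspecial group
-/

set_option autoImplicit false
set_option linter.unusedSectionVars false

namespace Cfsg.Agent.H36.U52

open Module

universe u v w

variable {K : Type u} {V : Type v} [Field K] [AddCommGroup V] [Module K V]

section words

variable {E : El (Module.End K V)} (D : Rel E) (x : V)
include D

theorem Rel.vz1z1 : E.z1 (E.z1 x) = x := ap D.z1z1 x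
theorem Rel.vz1a1 : E.z1 (E.a1 x) = E.a1 (E.z1 x) := ap D.z1a1 x
theorem Rel.vz1a2 : E.z1 (E.a2 x) = E.a2 (E.z1 x) := ap D.z1a2 x
theorem Rel.vz1a3 : E.z1 (E.a3 x) = E.a3 (E.z1 x) := ap D.z1a3 x
theorem Rel.vz1b1 : E.z1 (E.b1 x) = E.b1 (E.z1 x) := ap D.z1b1 x
theorem Rel.vz1b2 : E.z1 (E.b2 x) = E.b2 (E.z1 x) := ap D.z1b2 x
theorem Rel.vz1b3 : E.z1 (E.b3 x) = E.b3 (E.z1 x) := ap D.z1b3 x
theorem Rel.va1a1 : E.a1 (E.a1 x) = x := ap D.a1a1 x
theorem Rel.va2a2 : E.a2 (E.a2 x) = x := ap D.a2a2 x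
theorem Rel.va3a3 : E.a3 (E.a3 x) = E.z1 x := ap D.a3a3 x
theorem Rel.vb1b1 : E.b1 (E.b1 x) = x := ap D.b1b1 x
theorem Rel.vb2b2 : E.b2 (E.b2 x) = x := ap D.b2b2 x
theorem Rel.vb3b3 : E.b3 (E.b3 x) = E.z1 x := ap D.b3b3 x
theorem Rel.va2a1 : E.a2 (E.a1 x) = E.a1 (E.a2 x) := (ap D.a1a2 x).symm
theorem Rel.va3a1 : E.a3 (E.a1 x) = E.a1 (E.a3 x) := (ap D.a1a3 x).symm
theorem Rel.va3a2 : E.a3 (E.a2 x) = E.a2 (E.a3 x) := (ap D.a2a3 x).symm
theorem Rel.va1b1 : E.a1 (E.b1 x) = E.b1 (E.a1 (E.z1 x)) := by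
  rw [show E.a1 (E.b1 x) = E.z1 (E.b1 (E.a1 x)) from ap D.a1b1 x, D.vz1b1, D.vz1a1]
theorem Rel.va1b2 : E.a1 (E.b2 x) = E.b2 (E.a1 x) := ap D.a1b2 x
theorem Rel.va1b3 : E.a1 (E.b3 x) = E.b3 (E.a1 x) := ap D.a1b3 x
theorem Rel.va2b2 : E.a2 (E.b2 x) = E.b2 (E.a2 (E.z1 x)) := by
  rw [show E.a2 (E.b2 x) = E.z1 (E.b2 (E.a2 x)) from ap D.a2b2 x, D.vz1b2, D.vz1a2]
theorem Rel.va2b3 : E.a2 (E.b3 x) = E.b3 (E.a2 x) := ap D.a2b3 x
theorem Rel.va3b1 : E.a3 (E.b1 x) = E.b1 (E.a3 x) := ap D.a3b1 x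
theorem Rel.va3b2 : E.a3 (E.b2 x) = E.b2 (E.a3 x) := ap D.a3b2 x
theorem Rel.va3b3 : E.a3 (E.b3 x) = E.b3 (E.a3 (E.z1 x)) := by
  rw [show E.a3 (E.b3 x) = E.z1 (E.b3 (E.a3 x)) from ap D.a3b3 x, D.vz1b3, D.vz1a3]
theorem Rel.vb3b1 : E.b3 (E.b1 x) = E.b1 (E.b3 x) := (ap D.b1b3 x).symm
theorem Rel.vb3b2 : E.b3 (E.b2 x) = E.b2 (E.b3 x) := (ap D.b2b3 x).symm

end words

/-- 16 times the projection onto `X` -/
def pX (E : El (Module.End K V)) (i : K) (x : V) : V :=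
  let x1 := x - i • E.a3 x
  let x2 := x1 - E.a2 x1
  let x3 := x2 - E.a1 x2
  x3 - E.z1 x3
/-- 8 times the projection onto `V2` -/
def p3 (E : El (Module.End K V)) (x : V) : V :=
  let x2 := x - E.a2 x
  let x3 := x2 - E.a1 x2
  x3 - E.z1 x3
/-- 4 times the projection onto `V3` -/
def p4 (E : El (Module.End K V)) (x : V) : V :=
  let x3 := x - E.a1 x
  x3 - E.z1 x3

variable {E : El (Module.End K V)} {i : K}

theorem res1 (D : Rel E) (x : V) : p4 E x + E.b1 (p4 E (E.b1 x)) = (2 : K) • (x - E.z1 x) := by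
  simp only [p4, map_sub, map_add, map_smul, D.vz1z1, D.vz1a1, D.vz1b1, D.va1b1, D.vb1b1]
  module

theorem res2 (D : Rel E) (x : V) : p3 E x + E.b2 (p3 E (E.b2 x)) = (2 : K) • (p4 E x) := by
  simp only [p3, p4, map_sub, map_add, map_smul, D.vz1z1, D.vz1a1, D.vz1b2, D.va1b2, D.vb2b2, D.vz1a2, D.va2a1,
    D.va2b2]
  module

theorem res3 (D : Rel E) (x : V) : pX E i x + E.b3 (pX E i (E.b3 (E.z1 x))) = (2 : K) • (p3 E x) := by
  simp only [pX, p3, map_sub, map_add, map_smul, D.vz1z1, D.vz1a1, D.vz1b3, D.va1b3, D.vb3b3, D.vz1a2, D.va2a1,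
    D.va2b3, D.va3a1, D.va3a2, D.vz1a3, D.va3b3]
  module

theorem pX_lin (x y : V) (k : K) : pX E i (x + k • y) = pX E i x + k • pX E i y := by
  simp only [pX, map_sub, map_add, map_smul]
  module

theorem pX_z1 (D : Rel E) (x : V) : pX E i (E.z1 x) = - pX E i x := by
  simp only [pX, map_sub, map_add, map_smul, D.vz1z1, D.vz1a1, D.vz1a2, D.va2a1, D.va3a1, D.va3a2, D.vz1a3]
  module

theorem pX_a1 (D : Rel E) (x : V) : pX E i (E.a1 x) = - pX E i x := by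
  simp only [pX, map_sub, map_add, map_smul, D.vz1z1, D.vz1a1, D.vz1a2, D.va2a1, D.va3a1, D.va3a2, D.vz1a3, D.va1a1]
  module

theorem pX_a2 (D : Rel E) (x : V) : pX E i (E.a2 x) = - pX E i x := by
  simp only [pX, map_sub, map_add, map_smul, D.vz1z1, D.vz1a1, D.vz1a2, D.va2a1, D.va3a1, D.va3a2, D.vz1a3, D.va2a2]
  module

theorem pX_a3 (D : Rel E) (hi : i * i = -1) (x : V) : pX E i (E.a3 x) = i • pX E i x := by
  simp only [pX, map_sub, map_add, map_smul, D.vz1z1, D.vz1a1, D.vz1a2, D.va2a1, D.va3a1, D.va3a2, D.vz1a3, D.va3a3,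
    smul_sub, smul_smul, hi]
  module

theorem pX_mem (D : Rel E) (hi : i * i = -1) (x : V) : pX E i x ∈ X E i := by
  rw [mem_X]
  refine ⟨⟨⟨?_, ?_⟩, ?_⟩, ?_⟩
  · simp only [pX, map_sub, map_add, map_smul, D.vz1z1, D.vz1a1, D.vz1a2, D.va2a1, D.va3a1, D.va3a2, D.vz1a3]
    module
  · simp only [pX, map_sub, map_add, map_smul, D.vz1z1, D.vz1a1, D.vz1a2, D.va2a1, D.va3a1, D.va3a2, D.vz1a3, D.va1a1]
    module
  · simp only [pX, map_sub, map_add, map_smul, D.vz1z1, D.vz1a1, D.vz1a2, D.va2a1, D.va3a1, D.va3a2, D.vz1a3, D.va2a2]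
    module
  · simp only [pX, map_sub, map_add, map_smul, D.vz1z1, D.vz1a1, D.vz1a2, D.va2a1, D.va3a1, D.va3a2, D.vz1a3, D.va3a3,
      smul_sub, smul_smul, hi]
    module

theorem pX_of_mem (hi : i * i = -1) {x : V} (hx : x ∈ X E i) : pX E i x = (16 : K) • x := by
  rw [mem_X] at hx
  obtain ⟨⟨⟨h1, h2⟩, h3⟩, h4⟩ := hx
  simp only [pX, map_sub, map_smul, h1, h2, h3, h4, map_neg, smul_smul, hi]
  module

/-- a vector spanning `X` and the coordinate functional of the projection onto `X` -/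
structure Frame (E : El (Module.End K V)) (i : K) where
  v : V
  f : V →ₗ[K] K
  hv : v ∈ X E i
  fv : f v = 1
  hf : ∀ x, (16 * f x) • v = pX E i x

/-- the projection as a linear map -/
def pXl (E : El (Module.End K V)) (i : K) : V →ₗ[K] V where
  toFun := pX E i
  map_add' x y := by
    have := pX_lin (E := E) (i := i) x y 1
    rwa [one_smul, one_smul] at this
  map_smul' k x := by
    have := pX_lin (E := E) (i := i) 0 x k
    rw [zero_add] at this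
    rw [this, RingHom.id_apply]
    simp [pX]

variable [FiniteDimensional K V]

theorem sixteen (h2 : (2 : K) ≠ 0) : (16 : K) ≠ 0 := by
  have : (16 : K) = 2 * 2 * 2 * 2 := by norm_num
  rw [this]
  exact mul_ne_zero (mul_ne_zero (mul_ne_zero h2 h2) h2) h2

theorem exists_frame (H : Good E i) : Nonempty (Frame E i) := by
  have h16 := sixteen H.two
  let e : X E i ≃ₗ[K] K := LinearEquiv.ofFinrankEq _ _ (by rw [H.dimX, finrank_self])
  let q : V →ₗ[K] X E i := LinearMap.codRestrict (X E i) ((16 : K)⁻¹ • pXl E i) (fun x => by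
    rw [LinearMap.smul_apply]
    exact (X E i).smul_mem _ (pX_mem H.rel H.hi x))
  have hq : ∀ x, (q x : V) = (16 : K)⁻¹ • pX E i x := fun x => rfl
  refine ⟨⟨(e.symm 1 : X E i), e.toLinearMap ∘ₗ q, (e.symm 1).2, ?_, ?_⟩⟩
  · have h1 : q ((e.symm 1 : X E i) : V) = e.symm 1 := by
      apply Subtype.ext
      rw [hq, pX_of_mem H.hi (e.symm 1).2, smul_smul, inv_mul_cancel₀ h16, one_smul]
    rw [LinearMap.comp_apply, h1]
    exact e.apply_symm_apply 1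
  · intro x
    rw [LinearMap.comp_apply]
    have h1 : (e (q x)) • (e.symm 1 : X E i) = q x := by
      apply e.injective
      rw [map_smul, e.apply_symm_apply, smul_eq_mul, mul_one]
    have h2 := congrArg Subtype.val h1
    rw [Submodule.coe_smul, hq] at h2
    rw [mul_smul]
    have h3 : e.toLinearMap (q x) = e (q x) := rfl
    rw [h3, h2, smul_smul, mul_inv_cancel₀ h16, one_smul]

section frame

variable (H : Good E i) (F : Frame E i)
include H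

theorem Frame.ne : F.v ≠ 0 := by
  intro h
  have := F.fv
  rw [h, map_zero] at this
  exact zero_ne_one this

theorem Frame.f_of (F : Frame E i) {T : Module.End K V} {k : K} (h : ∀ x, pX E i (T x) = k • pX E i x) (x : V) :
    F.f (T x) = k * F.f x := by
  have h1 := F.hf (T x)
  rw [h, ← F.hf x, smul_smul, ← sub_eq_zero, ← sub_smul] at h1
  have h2 := (smul_eq_zero.1 h1).resolve_right (Frame.ne H F)
  have h3 : (16 : K) * (F.f (T x) - k * F.f x) = 0 := by linear_combination h2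
  exact sub_eq_zero.1 ((mul_eq_zero.1 h3).resolve_left (sixteen H.two))

theorem Frame.f_z1 (x : V) : F.f (E.z1 x) = - F.f x := by
  rw [Frame.f_of H F (T := E.z1) (k := -1) (fun x => by rw [pX_z1 H.rel, neg_one_smul]), neg_one_mul]

theorem Frame.f_a1 (x : V) : F.f (E.a1 x) = - F.f x := by
  rw [Frame.f_of H F (T := E.a1) (k := -1) (fun x => by rw [pX_a1 H.rel, neg_one_smul]), neg_one_mul]

theorem Frame.f_a2 (x : V) : F.f (E.a2 x) = - F.f x := by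
  rw [Frame.f_of H F (T := E.a2) (k := -1) (fun x => by rw [pX_a2 H.rel, neg_one_smul]), neg_one_mul]

theorem Frame.f_a3 (x : V) : F.f (E.a3 x) = i * F.f x :=
  Frame.f_of H F (T := E.a3) (k := i) (fun x => pX_a3 H.rel H.hi x) x

theorem pX_z2 (x : V) : pX E i (E.z2 x) = pX E i x := by
  have h1 := H.z2V2 _ (pX_mem H.rel H.hi x).1
  have h2 : E.z2 (pX E i x) = pX E i (E.z2 x) := by
    simp only [pX, map_sub, map_smul, show ∀ y, E.z2 (E.a3 y) = E.a3 (E.z2 y) from fun y => ap H.rel.z2a3 y,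
      show ∀ y, E.z2 (E.a2 y) = E.a2 (E.z2 y) from fun y => ap H.rel.z2a2 y,
      show ∀ y, E.z2 (E.a1 y) = E.a1 (E.z2 y) from fun y => ap H.rel.z2a1 y,
      show ∀ y, E.z2 (E.z1 y) = E.z1 (E.z2 y) from fun y => (ap H.rel.z1z2 y).symm]
  rw [← h2, h1]

theorem Frame.f_z2 (x : V) : F.f (E.z2 x) = F.f x := by
  rw [Frame.f_of H F (T := E.z2) (k := 1) (fun x => by rw [pX_z2 H, one_smul]), one_mul]

/-- the joint eigenspace is spanned by `v` -/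
theorem Frame.eq_of_mem {x : V} (hx : x ∈ X E i) : x = F.f x • F.v := by
  have h1 := F.hf x
  rw [pX_of_mem H.hi hx, mul_smul] at h1
  exact (smul_right_injective V (sixteen H.two) h1).symm

end frame

end Cfsg.Agent.H36.U52
end

-- part: H36/U52/Two
section
/-!
# Two modules: the intertwining map of the extraspecial group on `z1 = -1`
-/

set_option autoImplicit false
set_option linter.unusedSectionVars false

namespace Cfsg.Agent.H36.U52

open Module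

universe u v v' w

variable {K : Type u} {V : Type v} {W : Type v'} {U : Type v'} [Field K] [AddCommGroup V] [Module K V]
  [AddCommGroup W] [Module K W]
variable {G : Type w} [Group G]

/-- conjugate of a linear map -/
def tw (ρ : G →* Module.End K V) (ρ' : G →* Module.End K W) (g : G) (θ : W →ₗ[K] V) : W →ₗ[K] V :=
  (ρ g) ∘ₗ θ ∘ₗ (ρ' g⁻¹)

theorem ract (ρ : G →* Module.End K V) (g h : G) (x : V) : ρ (g * h) x = ρ g (ρ h x) := by
  rw [map_mul]; rfl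

theorem ract_inv (ρ : G →* Module.End K V) (g : G) (x : V) : ρ g (ρ g⁻¹ x) = x := by
  rw [← ract, mul_inv_cancel, map_one]; rfl

theorem ract_inv' (ρ : G →* Module.End K V) (g : G) (x : V) : ρ g⁻¹ (ρ g x) = x := by
  rw [← ract, inv_mul_cancel, map_one]; rfl

variable (ρ : G →* Module.End K V) (ρ' : G →* Module.End K W)

theorem tw_apply (g : G) (θ : W →ₗ[K] V) (x : W) : tw ρ ρ' g θ x = ρ g (θ (ρ' g⁻¹ x)) := rfl

/-- elements commuting with a linear map -/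
def Fx (θ : W →ₗ[K] V) : Subgroup G where
  carrier := {g | ∀ x, ρ g (θ x) = θ (ρ' g x)}
  one_mem' x := by rw [map_one, map_one]; rfl
  mul_mem' {g h} hg hh x := by rw [ract, ract, hh, hg]
  inv_mem' {g} hg x := by
    have h1 := hg (ρ' g⁻¹ x)
    rw [ract_inv] at h1
    rw [← h1, ract_inv']

variable {ρ ρ'}

theorem mem_Fx_iff_tw {θ : W →ₗ[K] V} {g : G} : g ∈ Fx ρ ρ' θ ↔ tw ρ ρ' g θ = θ := by
  constructor
  · intro h
    ext x
    rw [tw_apply, h, ract_inv]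
  · intro h x
    have h1 := LinearMap.congr_fun h (ρ' g x)
    rw [tw_apply, ract_inv'] at h1
    exact h1

theorem mem_Fx_tw {θ : W →ₗ[K] V} {g x : G} (h : g⁻¹ * x * g ∈ Fx ρ ρ' θ) : x ∈ Fx ρ ρ' (tw ρ ρ' g θ) := by
  intro y
  rw [tw_apply, tw_apply]
  have h1 := h (ρ' g⁻¹ y)
  have h2 : ρ g (ρ (g⁻¹ * x * g) (θ (ρ' g⁻¹ y))) = ρ x (ρ g (θ (ρ' g⁻¹ y))) := by
    rw [← ract, ← ract]; congr 2; group
  have h4 : ρ' (g⁻¹ * x * g) (ρ' g⁻¹ y) = ρ' g⁻¹ (ρ' x y) := by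
    rw [← ract, ← ract]; congr 2; group
  rw [← h2, h1, h4]

/-- in the form of a relation `x g = g k` -/
theorem mem_Fx_tw' {θ : W →ₗ[K] V} {g x k : G} (hr : x * g = g * k) (h : k ∈ Fx ρ ρ' θ) :
    x ∈ Fx ρ ρ' (tw ρ ρ' g θ) := by
  apply mem_Fx_tw
  rw [mul_assoc, hr, inv_mul_cancel_left]
  exact h

theorem Fx_add {θ φ : W →ₗ[K] V} {g : G} (h : g ∈ Fx ρ ρ' θ) (h' : g ∈ Fx ρ ρ' φ) : g ∈ Fx ρ ρ' (θ + φ) := by
  intro x
  rw [LinearMap.add_apply, LinearMap.add_apply, map_add, h, h']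

theorem Fx_smul {θ : W →ₗ[K] V} {g : G} (k : K) (h : g ∈ Fx ρ ρ' θ) : g ∈ Fx ρ ρ' (k • θ) := by
  intro x
  rw [LinearMap.smul_apply, LinearMap.smul_apply, map_smul, h]

theorem tw_add (g : G) (θ φ : W →ₗ[K] V) : tw ρ ρ' g (θ + φ) = tw ρ ρ' g θ + tw ρ ρ' g φ := by
  ext x; simp only [tw_apply, LinearMap.add_apply, map_add]

theorem tw_smul (g : G) (k : K) (θ : W →ₗ[K] V) : tw ρ ρ' g (k • θ) = k • tw ρ ρ' g θ := by
  ext x; simp only [tw_apply, LinearMap.smul_apply, map_smul]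

theorem tw_mul (g h : G) (θ : W →ₗ[K] V) : tw ρ ρ' (g * h) θ = tw ρ ρ' g (tw ρ ρ' h θ) := by
  ext x; simp only [tw_apply, ract, mul_inv_rev]

theorem tw_one (θ : W →ₗ[K] V) : tw ρ ρ' 1 θ = θ := mem_Fx_iff_tw.1 (one_mem _)

/-- doubling -/
theorem dbl_mem {θ : W →ₗ[K] V} {b x k : G} (hr : x * b = b * k) (hx : x ∈ Fx ρ ρ' θ) (hk : k ∈ Fx ρ ρ' θ) :
    x ∈ Fx ρ ρ' (θ + tw ρ ρ' b θ) := Fx_add hx (mem_Fx_tw' hr hk)

theorem dbl_self {θ : W →ₗ[K] V} {b : G} (h : b * b ∈ Fx ρ ρ' θ) : b ∈ Fx ρ ρ' (θ + tw ρ ρ' b θ) := by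
  rw [mem_Fx_iff_tw, tw_add, ← tw_mul, mem_Fx_iff_tw.1 h, add_comm]

/-- composition -/
theorem comp_tw {θ : W →ₗ[K] V} {b : G} (h : b ∈ Fx ρ ρ' θ) (φ : W →ₗ[K] W) :
    θ ∘ₗ tw ρ' ρ' b φ = tw ρ ρ' b (θ ∘ₗ φ) := by
  ext x
  rw [LinearMap.comp_apply, tw_apply, tw_apply, LinearMap.comp_apply, h]

variable {E : El G} (D : Rel E) {i : K}

/-- the rank one map -/
def tp (F : Frame (E.map ρ) i) (F' : Frame (E.map ρ') i) : W →ₗ[K] V := F'.f.smulRight F.v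

/-- the map on `V2` -/
def t2 (F : Frame (E.map ρ) i) (F' : Frame (E.map ρ') i) : W →ₗ[K] V := tp F F' + tw ρ ρ' E.b3 (tp F F')

/-- the map on `V3` -/
def t3 (F : Frame (E.map ρ) i) (F' : Frame (E.map ρ') i) : W →ₗ[K] V := t2 F F' + tw ρ ρ' E.b2 (t2 F F')

/-- the map on `Vm` -/
def tm (F : Frame (E.map ρ) i) (F' : Frame (E.map ρ') i) : W →ₗ[K] V := t3 F F' + tw ρ ρ' E.b1 (t3 F F')

theorem tp_apply (F : Frame (E.map ρ) i) (F' : Frame (E.map ρ') i) (x : W) : tp F F' x = F'.f x • F.v := rfl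

section two

variable [FiniteDimensional K V] [FiniteDimensional K W]
variable (H : Good (E.map ρ) i) (H' : Good (E.map ρ') i) (F : Frame (E.map ρ) i) (F' : Frame (E.map ρ') i)
include D H H'

omit D in
theorem a1_tp : E.a1 ∈ Fx ρ ρ' (tp F F') := by
  intro x
  rw [tp_apply, tp_apply, map_smul, show ρ E.a1 F.v = -F.v from (mem_X.1 F.hv).1.1.2,
    show F'.f (ρ' E.a1 x) = -F'.f x from Frame.f_a1 H' F' x]
  module

omit D in
theorem a2_tp : E.a2 ∈ Fx ρ ρ' (tp F F') := by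
  intro x
  rw [tp_apply, tp_apply, map_smul, show ρ E.a2 F.v = -F.v from (mem_X.1 F.hv).1.2,
    show F'.f (ρ' E.a2 x) = -F'.f x from Frame.f_a2 H' F' x]
  module

omit D in
theorem z1_tp : E.z1 ∈ Fx ρ ρ' (tp F F') := by
  intro x
  rw [tp_apply, tp_apply, map_smul, show ρ E.z1 F.v = -F.v from (mem_X.1 F.hv).1.1.1,
    show F'.f (ρ' E.z1 x) = -F'.f x from Frame.f_z1 H' F' x]
  module

omit D in
theorem a3_tp : E.a3 ∈ Fx ρ ρ' (tp F F') := by
  intro x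
  rw [tp_apply, tp_apply, map_smul, show ρ E.a3 F.v = i • F.v from (mem_X.1 F.hv).2,
    show F'.f (ρ' E.a3 x) = i * F'.f x from Frame.f_a3 H' F' x, smul_smul, mul_comm]

omit D in
theorem z2_tp : E.z2 ∈ Fx ρ ρ' (tp F F') := by
  intro x
  rw [tp_apply, tp_apply, map_smul, show ρ E.z2 F.v = F.v from H.z2V2 _ F.hv.1,
    show F'.f (ρ' E.z2 x) = F'.f x from Frame.f_z2 H' F' x]

/-! `t2` -/

theorem z1_t2 : E.z1 ∈ Fx ρ ρ' (t2 F F') := dbl_mem D.z1b3 (z1_tp H H' F F') (z1_tp H H' F F')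
theorem z2_t2 : E.z2 ∈ Fx ρ ρ' (t2 F F') := dbl_mem D.z2b3 (z2_tp H H' F F') (z2_tp H H' F F')
theorem a1_t2 : E.a1 ∈ Fx ρ ρ' (t2 F F') := dbl_mem D.a1b3 (a1_tp H H' F F') (a1_tp H H' F F')
theorem a2_t2 : E.a2 ∈ Fx ρ ρ' (t2 F F') := dbl_mem D.a2b3 (a2_tp H H' F F') (a2_tp H H' F F')
theorem a3_t2 : E.a3 ∈ Fx ρ ρ' (t2 F F') :=
  dbl_mem (k := E.z1 * E.a3) (by rw [D.a3b3, D.z1b3, mul_assoc]) (a3_tp H H' F F')
    (mul_mem (z1_tp H H' F F') (a3_tp H H' F F'))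
theorem b3_t2 : E.b3 ∈ Fx ρ ρ' (t2 F F') := dbl_self (by rw [D.b3b3]; exact z1_tp H H' F F')

/-! `t3` -/

theorem z1_t3 : E.z1 ∈ Fx ρ ρ' (t3 F F') := dbl_mem D.z1b2 (z1_t2 D H H' F F') (z1_t2 D H H' F F')
theorem z2_t3 : E.z2 ∈ Fx ρ ρ' (t3 F F') :=
  dbl_mem D.z2b2 (z2_t2 D H H' F F') (by rw [D.z3e]; exact mul_mem (z2_t2 D H H' F F') (a1_t2 D H H' F F'))
theorem a1_t3 : E.a1 ∈ Fx ρ ρ' (t3 F F') := dbl_mem D.a1b2 (a1_t2 D H H' F F') (a1_t2 D H H' F F')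
theorem a2_t3 : E.a2 ∈ Fx ρ ρ' (t3 F F') :=
  dbl_mem (k := E.z1 * E.a2) (by rw [D.a2b2, D.z1b2, mul_assoc]) (a2_t2 D H H' F F')
    (mul_mem (z1_t2 D H H' F F') (a2_t2 D H H' F F'))
theorem a3_t3 : E.a3 ∈ Fx ρ ρ' (t3 F F') := dbl_mem D.a3b2 (a3_t2 D H H' F F') (a3_t2 D H H' F F')
theorem b3_t3 : E.b3 ∈ Fx ρ ρ' (t3 F F') := dbl_mem D.b2b3.symm (b3_t2 D H H' F F') (b3_t2 D H H' F F')
theorem b2_t3 : E.b2 ∈ Fx ρ ρ' (t3 F F') := dbl_self (by rw [D.b2b2]; exact one_mem _)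

/-! `tm` -/

theorem z1_tm : E.z1 ∈ Fx ρ ρ' (tm F F') := dbl_mem D.z1b1 (z1_t3 D H H' F F') (z1_t3 D H H' F F')
theorem z2_tm : E.z2 ∈ Fx ρ ρ' (tm F F') :=
  dbl_mem D.z2b1 (z2_t3 D H H' F F') (by rw [D.z4e]; exact mul_mem (z2_t3 D H H' F F') (a2_t3 D H H' F F'))
theorem a1_tm : E.a1 ∈ Fx ρ ρ' (tm F F') :=
  dbl_mem (k := E.z1 * E.a1) (by rw [D.a1b1, D.z1b1, mul_assoc]) (a1_t3 D H H' F F')
    (mul_mem (z1_t3 D H H' F F') (a1_t3 D H H' F F'))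
theorem a2_tm : E.a2 ∈ Fx ρ ρ' (tm F F') := dbl_mem D.a2b1 (a2_t3 D H H' F F') (a2_t3 D H H' F F')
theorem a3_tm : E.a3 ∈ Fx ρ ρ' (tm F F') := dbl_mem D.a3b1 (a3_t3 D H H' F F') (a3_t3 D H H' F F')
theorem b3_tm : E.b3 ∈ Fx ρ ρ' (tm F F') := dbl_mem D.b1b3.symm (b3_t3 D H H' F F') (b3_t3 D H H' F F')
theorem b2_tm : E.b2 ∈ Fx ρ ρ' (tm F F') := dbl_mem D.b1b2.symm (b2_t3 D H H' F F') (b2_t3 D H H' F F')
theorem b1_tm : E.b1 ∈ Fx ρ ρ' (tm F F') := dbl_self (by rw [D.b1b1]; exact one_mem _)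

omit D in
theorem tp_z1 (x : W) : tp F F' (ρ' E.z1 x) = - tp F F' x := by
  rw [tp_apply, tp_apply, show F'.f (ρ' E.z1 x) = -F'.f x from Frame.f_z1 H' F' x, neg_smul]

theorem tw_z1 {θ : W →ₗ[K] V} (h : ∀ x, θ (ρ' E.z1 x) = -θ x) {g : G} (hg : E.z1 * g = g * E.z1) (x : W) :
    tw ρ ρ' g θ (ρ' E.z1 x) = - tw ρ ρ' g θ x := by
  rw [tw_apply, tw_apply]
  have h1 : ρ' g⁻¹ (ρ' E.z1 x) = ρ' E.z1 (ρ' g⁻¹ x) := by
    rw [← ract, ← ract]
    congr 2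
    rw [inv_mul_eq_iff_eq_mul, ← mul_assoc, ← hg, mul_inv_cancel_right]
  rw [h1, h, map_neg]

theorem t2_z1 (x : W) : t2 F F' (ρ' E.z1 x) = - t2 F F' x := by
  rw [t2, LinearMap.add_apply, LinearMap.add_apply, tp_z1 H H' F F', tw_z1 D H H' (tp_z1 H H' F F') D.z1b3]
  abel

theorem t3_z1 (x : W) : t3 F F' (ρ' E.z1 x) = - t3 F F' x := by
  rw [t3, LinearMap.add_apply, LinearMap.add_apply, t2_z1 D H H' F F', tw_z1 D H H' (t2_z1 D H H' F F') D.z1b2]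
  abel

theorem tm_z1 (x : W) : tm F F' (ρ' E.z1 x) = - tm F F' x := by
  rw [tm, LinearMap.add_apply, LinearMap.add_apply, t3_z1 D H H' F F', tw_z1 D H H' (t3_z1 D H H' F F') D.z1b1]
  abel

end two

section res

variable [FiniteDimensional K V] (H : Good (E.map ρ) i) (F : Frame (E.map ρ) i)
include D H

omit D in
theorem tp_self (x : V) : (16 : K) • tp F F x = pX (E.map ρ) i x := by
  rw [tp_apply, smul_smul, F.hf]

theorem t2_self (x : V) : (8 : K) • t2 F F x = p3 (E.map ρ) x := by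
  have h1 := res3 (i := i) H.rel x
  have h2 : ρ E.b3⁻¹ x = ρ E.b3 (ρ E.z1 x) := by
    rw [← ract]
    congr 2
    rw [eq_comm, ← mul_eq_one_iff_eq_inv, mul_assoc, D.z1b3, ← mul_assoc, D.b3b3, D.z1z1]
  have h3 : (16 : K) • t2 F F x = pX (E.map ρ) i x + (E.map ρ).b3 (pX (E.map ρ) i ((E.map ρ).b3 ((E.map ρ).z1 x))) := by
    rw [t2, LinearMap.add_apply, smul_add, tp_self H, tw_apply, ← map_smul, tp_self H, h2]
    rfl
  rw [h1] at h3
  have h4 : (2 : K) • ((8 : K) • t2 F F x) = (2 : K) • p3 (E.map ρ) x := by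
    rw [← h3, smul_smul]; norm_num
  exact smul_right_injective V H.two h4

theorem t3_self (x : V) : (4 : K) • t3 F F x = p4 (E.map ρ) x := by
  have h1 := res2 H.rel x
  have h2 : ρ E.b2⁻¹ x = ρ E.b2 x := by
    congr 2
    rw [inv_eq_iff_mul_eq_one, D.b2b2]
  have h3 : (8 : K) • t3 F F x = p3 (E.map ρ) x + (E.map ρ).b2 (p3 (E.map ρ) ((E.map ρ).b2 x)) := by
    rw [t3, LinearMap.add_apply, smul_add, t2_self D H, tw_apply, ← map_smul, t2_self D H, h2]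
    rfl
  rw [h1] at h3
  have h4 : (2 : K) • ((4 : K) • t3 F F x) = (2 : K) • p4 (E.map ρ) x := by
    rw [← h3, smul_smul]; norm_num
  exact smul_right_injective V H.two h4

theorem tm_self (x : V) : (2 : K) • tm F F x = x - ρ E.z1 x := by
  have h1 := res1 H.rel x
  have h2 : ρ E.b1⁻¹ x = ρ E.b1 x := by
    congr 2
    rw [inv_eq_iff_mul_eq_one, D.b1b1]
  have h3 : (4 : K) • tm F F x = p4 (E.map ρ) x + (E.map ρ).b1 (p4 (E.map ρ) ((E.map ρ).b1 x)) := by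
    rw [tm, LinearMap.add_apply, smul_add, t3_self D H, tw_apply, ← map_smul, t3_self D H, h2]
    rfl
  rw [h1] at h3
  have h4 : (2 : K) • ((2 : K) • tm F F x) = (2 : K) • (x - ρ E.z1 x) := by
    rw [smul_smul]
    have : (2 : K) * 2 = 4 := by norm_num
    rw [this, h3]
    rfl
  exact smul_right_injective V H.two h4

end res

section uniq

variable [FiniteDimensional K V] [FiniteDimensional K W]
variable (H : Good (E.map ρ) i) (H' : Good (E.map ρ') i) (F : Frame (E.map ρ) i) (F' : Frame (E.map ρ') i)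
include D H H'

/-- the image of `v'` -/
theorem map_v {θ : W →ₗ[K] V} (h1 : E.a1 ∈ Fx ρ ρ' θ) (h2 : E.a2 ∈ Fx ρ ρ' θ) (h3 : E.a3 ∈ Fx ρ ρ' θ) :
    θ F'.v = F.f (θ F'.v) • F.v := by
  apply Frame.eq_of_mem H F
  have hv := mem_X.1 F'.hv
  have e3 : ρ E.a3 (θ F'.v) = i • θ F'.v := by
    rw [h3, show ρ' E.a3 F'.v = i • F'.v from hv.2, map_smul]
  rw [mem_X]
  refine ⟨⟨⟨?_, ?_⟩, ?_⟩, e3⟩
  · have : ρ E.a3 (ρ E.a3 (θ F'.v)) = ρ E.z1 (θ F'.v) := by rw [← ract, D.a3a3]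
    change ρ E.z1 (θ F'.v) = _
    rw [← this, e3, map_smul, e3, smul_smul, H.hi, neg_one_smul]
  · change ρ E.a1 (θ F'.v) = _
    rw [h1, show ρ' E.a1 F'.v = -F'.v from hv.1.1.2, map_neg]
  · change ρ E.a2 (θ F'.v) = _
    rw [h2, show ρ' E.a2 F'.v = -F'.v from hv.1.2, map_neg]

theorem comp_tp {θ : W →ₗ[K] V} (h1 : E.a1 ∈ Fx ρ ρ' θ) (h2 : E.a2 ∈ Fx ρ ρ' θ) (h3 : E.a3 ∈ Fx ρ ρ' θ) :
    θ ∘ₗ tp F' F' = F.f (θ F'.v) • tp F F' := by
  ext x
  rw [LinearMap.comp_apply, tp_apply, map_smul, LinearMap.smul_apply, tp_apply, smul_comm]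
  congr 1
  exact map_v D H H' F F' h1 h2 h3

theorem comp_t2 {θ : W →ₗ[K] V} (h1 : E.a1 ∈ Fx ρ ρ' θ) (h2 : E.a2 ∈ Fx ρ ρ' θ) (h3 : E.a3 ∈ Fx ρ ρ' θ)
    (h4 : E.b3 ∈ Fx ρ ρ' θ) : θ ∘ₗ t2 F' F' = F.f (θ F'.v) • t2 F F' := by
  rw [t2, LinearMap.comp_add, comp_tw h4, comp_tp D H H' F F' h1 h2 h3, tw_smul, ← smul_add, ← t2]

theorem comp_t3 {θ : W →ₗ[K] V} (h1 : E.a1 ∈ Fx ρ ρ' θ) (h2 : E.a2 ∈ Fx ρ ρ' θ) (h3 : E.a3 ∈ Fx ρ ρ' θ)
    (h4 : E.b3 ∈ Fx ρ ρ' θ) (h5 : E.b2 ∈ Fx ρ ρ' θ) : θ ∘ₗ t3 F' F' = F.f (θ F'.v) • t3 F F' := by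
  rw [t3, LinearMap.comp_add, comp_tw h5, comp_t2 D H H' F F' h1 h2 h3 h4, tw_smul, ← smul_add, ← t3]

theorem comp_tm {θ : W →ₗ[K] V} (h1 : E.a1 ∈ Fx ρ ρ' θ) (h2 : E.a2 ∈ Fx ρ ρ' θ) (h3 : E.a3 ∈ Fx ρ ρ' θ)
    (h4 : E.b3 ∈ Fx ρ ρ' θ) (h5 : E.b2 ∈ Fx ρ ρ' θ) (h6 : E.b1 ∈ Fx ρ ρ' θ) :
    θ ∘ₗ tm F' F' = F.f (θ F'.v) • tm F F' := by
  rw [tm, LinearMap.comp_add, comp_tw h6, comp_t3 D H H' F F' h1 h2 h3 h4 h5, tw_smul, ← smul_add, ← tm]

/-- **Uniqueness**: maps commuting with the extraspecial group, odd under `z1` -/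
theorem eq_smul_tm {θ : W →ₗ[K] V} (h1 : E.a1 ∈ Fx ρ ρ' θ) (h2 : E.a2 ∈ Fx ρ ρ' θ) (h3 : E.a3 ∈ Fx ρ ρ' θ)
    (h4 : E.b3 ∈ Fx ρ ρ' θ) (h5 : E.b2 ∈ Fx ρ ρ' θ) (h6 : E.b1 ∈ Fx ρ ρ' θ) (h7 : ∀ x, θ (ρ' E.z1 x) = -θ x) :
    θ = F.f (θ F'.v) • tm F F' := by
  rw [← comp_tm D H H' F F' h1 h2 h3 h4 h5 h6]
  ext x
  rw [LinearMap.comp_apply]
  have e1 := tm_self D H' F' x
  have e2 : (2 : K) • θ (tm F' F' x) = (2 : K) • θ x := by
    rw [← map_smul, e1, map_sub, h7, two_smul]; abel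
  exact (smul_right_injective V H.two e2).symm

/-- **Uniqueness on `V2`** -/
theorem eq_smul_t2 {θ : W →ₗ[K] V} (h1 : E.a1 ∈ Fx ρ ρ' θ) (h2 : E.a2 ∈ Fx ρ ρ' θ) (h3 : E.a3 ∈ Fx ρ ρ' θ)
    (h4 : E.b3 ∈ Fx ρ ρ' θ) (h7 : θ ∘ₗ t2 F' F' = θ) : θ = F.f (θ F'.v) • t2 F F' := by
  rw [← comp_t2 D H H' F F' h1 h2 h3 h4, h7]

end uniq

end Cfsg.Agent.H36.U52
end

-- part: H36/U52/Three
section
/-!
# Two modules: equivariance under the centraliser of `z1` on `z1 = -1`, and gluing over the line stabiliser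
-/

set_option autoImplicit false
set_option linter.unusedSectionVars false

namespace Cfsg.Agent.H36.U52

open Module

universe u v v' w

variable {K : Type u} {V : Type v} {W : Type v'} [Field K] [AddCommGroup V] [Module K V]

/-- `1 + a3 + b3 + a3 b3` -/
def TT (E : El (Module.End K V)) (x : V) : V := x + E.a3 x + E.b3 x + E.a3 (E.b3 x)

/-- `c` on `z1 = -1` -/
def CS (E : El (Module.End K V)) (s : K) : Prop :=
  ∀ x, E.z1 x = -x → (2 : K) • E.c x = -(s • TT E x)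

section words

variable {E : El (Module.End K V)} (D : Rel E) (x : V)
include D

theorem Rel.vz1c : E.z1 (E.c x) = E.c (E.z1 x) := ap D.z1c x
theorem Rel.va1c : E.a1 (E.c x) = E.c (E.a1 x) := (ap D.ca1 x).symm
theorem Rel.va2c : E.a2 (E.c x) = E.c (E.a2 x) := (ap D.ca2 x).symm
theorem Rel.vb1c : E.b1 (E.c x) = E.c (E.b1 x) := (ap D.cb1 x).symm
theorem Rel.vb2c : E.b2 (E.c x) = E.c (E.b2 x) := (ap D.cb2 x).symm
theorem Rel.vb3c : E.b3 (E.c x) = E.c (E.a3 x) := (ap D.ca3 x).symm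
theorem Rel.va3c : E.a3 (E.c x) = E.c (E.a3 (E.b3 x)) := by
  have h1 : E.c (E.a3 (E.b3 x)) = E.b3 (E.c (E.b3 x)) := ap D.ca3 _
  have h2 : E.c (E.b3 x) = E.a3 (E.b3 (E.c x)) := ap D.cb3 _
  rw [h1, h2, D.va3b3, D.vb3b3, D.vz1a3, D.vz1z1]

end words

variable [AddCommGroup W] [Module K W]
variable {G : Type w} [Group G]
variable {ρ : G →* Module.End K V} {ρ' : G →* Module.End K W}
variable {E : El G} (D : Rel E) {i : K}

section cs

variable [FiniteDimensional K V] (H : Good (E.map ρ) i) (F : Frame (E.map ρ) i)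
include D H

theorem TT_cube {x : V} (hx : ρ E.z1 x = -x) :
    TT (E.map ρ) (TT (E.map ρ) (TT (E.map ρ) x)) = -((8 : K) • x) := by
  have D' := H.rel
  have hx' : (E.map ρ).z1 x = -x := hx
  simp only [TT, map_sub, map_add, D'.vb3b3, D'.va3b3, D'.va3a3, D'.vz1a3, D'.vz1b3, hx', map_neg]
  module

theorem TT_z1 {x : V} (hx : ρ E.z1 x = -x) : ρ E.z1 (TT (E.map ρ) x) = - TT (E.map ρ) x := by
  have D' := H.rel
  have hx' : (E.map ρ).z1 x = -x := hx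
  change (E.map ρ).z1 (TT (E.map ρ) x) = - TT (E.map ρ) x
  simp only [TT, map_sub, map_add, D'.vb3b3, D'.va3b3, D'.va3a3, D'.vz1a3, D'.vz1b3, hx', map_neg]
  abel

theorem exists_cs (F : Frame (E.map ρ) i) : ∃ s : K, s ^ 3 = 1 ∧ CS (E.map ρ) s := by
  have D' := H.rel
  set e := E.map ρ with he
  let θ : V →ₗ[K] V := e.c ∘ₗ (1 - e.a3 - e.b3 - e.a3 * e.b3) ∘ₗ (1 - e.z1)
  have hθ : ∀ x, θ x = e.c (x - e.z1 x - e.a3 (x - e.z1 x) - e.b3 (x - e.z1 x) - e.a3 (e.b3 (x - e.z1 x))) :=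
    fun x => rfl
  have m1 : E.a1 ∈ Fx ρ ρ θ := by
    intro x
    change e.a1 (θ x) = θ (e.a1 x)
    simp only [hθ, map_sub, D'.va1c, D'.vz1a1, D'.va3a1, D'.va1b3, D'.va3b3, D'.vz1a3]
  have m2 : E.a2 ∈ Fx ρ ρ θ := by
    intro x
    change e.a2 (θ x) = θ (e.a2 x)
    simp only [hθ, map_sub, D'.va2c, D'.vz1a2, D'.va3a2, D'.va2b3, D'.va3b3, D'.vz1a3]
  have m3 : E.b1 ∈ Fx ρ ρ θ := by
    intro x
    change e.b1 (θ x) = θ (e.b1 x)
    simp only [hθ, map_sub, D'.vb1c, D'.vz1b1, D'.va3b1, D'.vb3b1]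
  have m4 : E.b2 ∈ Fx ρ ρ θ := by
    intro x
    change e.b2 (θ x) = θ (e.b2 x)
    simp only [hθ, map_sub, D'.vb2c, D'.vz1b2, D'.va3b2, D'.vb3b2]
  have m5 : E.a3 ∈ Fx ρ ρ θ := by
    intro x
    change e.a3 (θ x) = θ (e.a3 x)
    simp only [hθ, map_sub, D'.va3c, D'.vz1a3, D'.vz1b3, D'.va3a3, D'.va3b3, D'.vb3b3, D'.vz1z1]
    abel
  have m6 : E.b3 ∈ Fx ρ ρ θ := by
    intro x
    change e.b3 (θ x) = θ (e.b3 x)
    simp only [hθ, map_sub, D'.vb3c, D'.vz1a3, D'.vz1b3, D'.va3a3, D'.va3b3, D'.vb3b3, D'.vz1z1]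
    abel
  have m7 : ∀ x, θ (ρ E.z1 x) = - θ x := by
    intro x
    change θ (e.z1 x) = - θ x
    simp only [hθ, map_sub, D'.vz1z1]
    abel
  have key := eq_smul_tm D H H F F m1 m2 m5 m6 m4 m3 m7
  set κ := F.f (θ F.v) with hκ
  have h4 : (4 : K) ≠ 0 := by
    have : (4 : K) = 2 * 2 := by norm_num
    rw [this]
    exact mul_ne_zero H.two H.two
  have kx : ∀ x, (2 : K) • θ x = κ • (x - e.z1 x) := by
    intro x
    rw [key, LinearMap.smul_apply, smul_comm, tm_self D H F x]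
    rfl
  have hcs : CS e (-(κ / 4)) := by
    intro w hw
    have k1 := kx (TT e w)
    have hw' : e.z1 (TT e w) = - TT e w := TT_z1 D H hw
    rw [hθ, hw'] at k1
    have k2 : TT e w - -TT e w - e.a3 (TT e w - -TT e w) - e.b3 (TT e w - -TT e w) -
        e.a3 (e.b3 (TT e w - -TT e w)) = (8 : K) • w := by
      simp only [TT, map_sub, map_add, D'.vb3b3, D'.va3b3, D'.va3a3, D'.vz1a3, D'.vz1b3, hw, map_neg]
      module
    rw [k2, map_smul] at k1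
    have k3 : (8 : K) • ((2 : K) • e.c w) = (8 : K) • (-(-(κ / 4) • TT e w)) := by
      rw [smul_comm, k1]
      have : (8 : K) • (-(-(κ / 4) • TT e w)) = (2 * (4 * (κ / 4))) • TT e w := by module
      rw [this, mul_div_cancel₀ _ h4]
      module
    have h8 : (8 : K) ≠ 0 := by
      have : (8 : K) = 2 * 4 := by norm_num
      rw [this]
      exact mul_ne_zero H.two h4
    exact smul_right_injective V h8 k3
  refine ⟨-(κ / 4), ?_, hcs⟩
  set s := -(κ / 4) with hs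
  have hv : e.z1 F.v = -F.v := (mem_X.1 F.hv).1.1.1
  have hc : ∀ x, e.z1 x = -x → e.z1 (e.c x) = -(e.c x) := fun x hx => by rw [D'.vz1c, hx, map_neg]
  have e1 := hcs _ hv
  have e2 := hcs _ (hc _ hv)
  have e3 := hcs _ (hc _ (hc _ hv))
  have TTs : ∀ (k : K) (x : V), TT e (k • x) = k • TT e x := by
    intro k x; simp only [TT, map_smul, smul_add]
  have TTn : ∀ (x : V), TT e (-x) = - TT e x := by
    intro x; simp only [TT, map_neg]; abel
  have f2 : (4 : K) • e.c (e.c F.v) = (s ^ 2) • TT e (TT e F.v) := by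
    have : (4 : K) • e.c (e.c F.v) = (2 : K) • ((2 : K) • e.c (e.c F.v)) := by rw [smul_smul]; norm_num
    rw [this, e2, smul_neg, smul_comm, ← TTs, e1, TTn, TTs, smul_neg, neg_neg, smul_smul, pow_two]
  have f3 : (8 : K) • e.c (e.c (e.c F.v)) = -((s ^ 3) • TT e (TT e (TT e F.v))) := by
    have : (8 : K) • e.c (e.c (e.c F.v)) = (4 : K) • ((2 : K) • e.c (e.c (e.c F.v))) := by rw [smul_smul]; norm_num
    rw [this, e3, smul_neg, smul_comm, ← TTs, f2, TTs, smul_smul, ← pow_succ']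
  rw [TT_cube D H hv, show e.c (e.c (e.c F.v)) = F.v from ap D'.c3 _, smul_neg, neg_neg, smul_smul] at f3
  have hne := Frame.ne H F
  have h8 : (8 : K) ≠ 0 := by
    have : (8 : K) = 2 * 4 := by norm_num
    rw [this]
    exact mul_ne_zero H.two h4
  have f4 : (8 - s ^ 3 * 8) • F.v = 0 := by rw [sub_smul, f3, sub_self]
  have f5 := (smul_eq_zero.1 f4).resolve_right hne
  have f6 : (8 : K) * (s ^ 3 - 1) = 0 := by linear_combination -f5
  have f7 := (mul_eq_zero.1 f6).resolve_left h8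
  linear_combination f7

end cs

section two

variable [FiniteDimensional K V] [FiniteDimensional K W]
variable (H : Good (E.map ρ) i) (H' : Good (E.map ρ') i) (F : Frame (E.map ρ) i) (F' : Frame (E.map ρ') i)
include D H H'

theorem two_tm (x : W) : tm F F' (x - ρ' E.z1 x) = (2 : K) • tm F F' x := by
  rw [map_sub, tm_z1 D H H' F F', two_smul]; abel

theorem c_tm {s : K} (hs : CS (E.map ρ) s) (hs' : CS (E.map ρ') s) : E.c ∈ Fx ρ ρ' (tm F F') := by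
  have key : ∀ x, ρ' E.z1 x = -x → ρ E.c (tm F F' x) = tm F F' (ρ' E.c x) := by
    intro x hx
    have h1 : ρ E.z1 (tm F F' x) = - tm F F' x := by rw [z1_tm D H H' F F', hx, map_neg]
    have h2 := hs (tm F F' x) h1
    have h3 := hs' x hx
    have h4 : (2 : K) • ρ E.c (tm F F' x) = (2 : K) • tm F F' (ρ' E.c x) := by
      rw [← map_smul (tm F F') (2 : K) (ρ' E.c x)]
      change (2 : K) • (E.map ρ).c (tm F F' x) = tm F F' ((2 : K) • (E.map ρ').c x)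
      rw [h2, h3, map_neg, map_smul]
      congr 2
      unfold TT
      change tm F F' x + ρ E.a3 (tm F F' x) + ρ E.b3 (tm F F' x) + ρ E.a3 (ρ E.b3 (tm F F' x)) =
        tm F F' (x + ρ' E.a3 x + ρ' E.b3 x + ρ' E.a3 (ρ' E.b3 x))
      rw [a3_tm D H H' F F' x, b3_tm D H H' F F' x, a3_tm D H H' F F', map_add, map_add, map_add]
    exact smul_right_injective V H.two h4
  intro x
  have h1 := key (x - ρ' E.z1 x) (by rw [map_sub, show ρ' E.z1 (ρ' E.z1 x) = x from H'.rel.vz1z1 x]; abel)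
  rw [two_tm D H H' F F', map_sub] at h1
  have h2 : ρ' E.c (ρ' E.z1 x) = ρ' E.z1 (ρ' E.c x) := (H'.rel.vz1c x).symm
  rw [h2, two_tm D H H' F F', map_smul] at h1
  exact smul_right_injective V H.two h1

/-- the value at `v'` -/
theorem t2_v : t2 F F' F'.v = F.v := by
  have hv := mem_X.1 F'.hv
  have D' := H'.rel
  have h1 : F'.f (ρ' E.b3⁻¹ F'.v) = 0 := by
    have e1 : ρ' E.a3 (ρ' E.b3⁻¹ F'.v) = -(i • (ρ' E.b3⁻¹ F'.v)) := by
      have e2 : ρ' E.b3 (ρ' E.a3 (ρ' E.b3⁻¹ F'.v)) = ρ' E.b3 (-(i • (ρ' E.b3⁻¹ F'.v))) := by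
        have e3 : (E.map ρ').a3 ((E.map ρ').b3 (ρ' E.b3⁻¹ F'.v)) =
          (E.map ρ').b3 ((E.map ρ').a3 ((E.map ρ').z1 (ρ' E.b3⁻¹ F'.v))) := D'.va3b3 _
        have e4 : (E.map ρ').z1 (ρ' E.b3⁻¹ F'.v) = -(ρ' E.b3⁻¹ F'.v) := by
          have e5 : ρ' E.b3 (ρ' E.z1 (ρ' E.b3⁻¹ F'.v)) = ρ' E.b3 (-(ρ' E.b3⁻¹ F'.v)) := by
            have e6 : ρ' E.b3 (ρ' E.z1 (ρ' E.b3⁻¹ F'.v)) = ρ' E.z1 (ρ' E.b3 (ρ' E.b3⁻¹ F'.v)) := (D'.vz1b3 _).symm
            rw [e6, ract_inv, map_neg, ract_inv]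
            exact hv.1.1.1
          have := congrArg (ρ' E.b3⁻¹) e5
          rwa [ract_inv', ract_inv'] at this
        rw [e4, map_neg, map_neg] at e3
        have e7 : (E.map ρ').b3 (ρ' E.b3⁻¹ F'.v) = F'.v := ract_inv ρ' _ _
        rw [e7, hv.2] at e3
        rw [map_neg, map_smul, ract_inv]
        change (E.map ρ').b3 ((E.map ρ').a3 (ρ' E.b3⁻¹ F'.v)) = _
        rw [e3, neg_neg]
      have := congrArg (ρ' E.b3⁻¹) e2
      rwa [ract_inv', ract_inv'] at this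
    have e8 := Frame.f_a3 H' F' (ρ' E.b3⁻¹ F'.v)
    change F'.f (ρ' E.a3 _) = _ at e8
    rw [e1, map_neg, map_smul, smul_eq_mul] at e8
    have e9 : (2 : K) * (i * F'.f (ρ' E.b3⁻¹ F'.v)) = 0 := by linear_combination -e8
    have hi0 : i ≠ 0 := by
      rintro rfl
      have := H.hi
      rw [mul_zero] at this
      apply H.two
      linear_combination 2 * this
    exact (mul_eq_zero.1 ((mul_eq_zero.1 e9).resolve_left H.two)).resolve_left hi0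
  rw [t2, LinearMap.add_apply, tw_apply, tp_apply, tp_apply, F'.fv, one_smul, h1, zero_smul, map_zero, add_zero]

theorem t2_mem (x : W) : t2 F F' x ∈ V2 (E.map ρ) := by
  rw [t2, LinearMap.add_apply, tw_apply, tp_apply, tp_apply, map_smul]
  exact (V2 _).add_mem ((V2 _).smul_mem _ F.hv.1) ((V2 _).smul_mem _ (b3_V2 H.rel _ F.hv.1))

theorem t3_mem (x : W) : ρ E.a1 (t3 F F' x) = - t3 F F' x := by
  have h1 := (mem_V2.1 (t2_mem D H H' F F' x)).1.2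
  have h2 := t2_mem D H H' F F' (ρ' E.b2⁻¹ x)
  have h3 := (mem_V2.1 h2).1.2
  rw [t3, LinearMap.add_apply, map_add, tw_apply]
  have h4 : ρ E.a1 (ρ E.b2 (t2 F F' (ρ' E.b2⁻¹ x))) = ρ E.b2 (ρ E.a1 (t2 F F' (ρ' E.b2⁻¹ x))) := H.rel.va1b2 _
  rw [h4]
  change (E.map ρ).a1 (t2 F F' x) + ρ E.b2 ((E.map ρ).a1 (t2 F F' (ρ' E.b2⁻¹ x))) = _
  rw [h1, h3, map_neg]
  abel

theorem t3_v : t3 F F' F'.v = F.v := by
  have hv := mem_X.1 F'.hv
  have D' := H'.rel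
  rw [t3, LinearMap.add_apply, tw_apply, t2_v D H H' F F']
  have h1 : ρ' E.b2⁻¹ F'.v = ρ' E.b2 F'.v := by
    congr 2
    rw [inv_eq_iff_mul_eq_one, D.b2b2]
  have h2 : ρ' E.a2 (ρ' E.b2 F'.v) = ρ' E.b2 F'.v := by
    have e1 : ρ' E.a2 (ρ' E.b2 F'.v) = ρ' E.b2 (ρ' E.a2 (ρ' E.z1 F'.v)) := D'.va2b2 _
    rw [e1, show ρ' E.z1 F'.v = -F'.v from hv.1.1.1, map_neg, show ρ' E.a2 F'.v = -F'.v from hv.1.2, neg_neg]
  have h3 := a2_t2 D H H' F F' (ρ' E.b2 F'.v)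
  rw [h2, show ρ E.a2 _ = _ from (mem_V2.1 (t2_mem D H H' F F' _)).2] at h3
  rw [h1, half H.two h3.symm, map_zero, add_zero]

theorem tm_v : tm F F' F'.v = F.v := by
  have hv := mem_X.1 F'.hv
  have D' := H'.rel
  rw [tm, LinearMap.add_apply, tw_apply, t3_v D H H' F F']
  have h1 : ρ' E.b1⁻¹ F'.v = ρ' E.b1 F'.v := by
    congr 2
    rw [inv_eq_iff_mul_eq_one, D.b1b1]
  have h2 : ρ' E.a1 (ρ' E.b1 F'.v) = ρ' E.b1 F'.v := by
    have e1 : ρ' E.a1 (ρ' E.b1 F'.v) = ρ' E.b1 (ρ' E.a1 (ρ' E.z1 F'.v)) := D'.va1b1 _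
    rw [e1, show ρ' E.z1 F'.v = -F'.v from hv.1.1.1, map_neg, show ρ' E.a1 F'.v = -F'.v from hv.1.1.2, neg_neg]
  have h3 := a1_t3 D H H' F F' (ρ' E.b1 F'.v)
  rw [h2, t3_mem D H H' F F'] at h3
  rw [h1, half H.two h3.symm, map_zero, add_zero]

theorem tm_ne : tm F F' ≠ 0 := by
  intro h
  have := tm_v D H H' F F'
  rw [h, LinearMap.zero_apply] at this
  exact Frame.ne H F this.symm

theorem t2_ne : t2 F F' ≠ 0 := by
  intro h
  have := t2_v D H H' F F'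
  rw [h, LinearMap.zero_apply] at this
  exact Frame.ne H F this.symm

theorem smul_tm_inj {k l : K} (h : k • tm F F' = l • tm F F') : k = l := by
  have : (k - l) • tm F F' = 0 := by rw [sub_smul, h, sub_self]
  exact sub_eq_zero.1 ((smul_eq_zero.1 this).resolve_right (tm_ne D H H' F F'))

theorem smul_t2_inj {k l : K} (h : k • t2 F F' = l • t2 F F') : k = l := by
  have : (k - l) • t2 F F' = 0 := by rw [sub_smul, h, sub_self]
  exact sub_eq_zero.1 ((smul_eq_zero.1 this).resolve_right (t2_ne D H H' F F'))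

omit D H H' in
theorem tw_inj {g : G} {θ φ : W →ₗ[K] V} (h : tw ρ ρ' g θ = tw ρ ρ' g φ) : θ = φ := by
  have := congrArg (tw ρ ρ' g⁻¹) h
  rwa [← tw_mul, ← tw_mul, inv_mul_cancel, tw_one, tw_one] at this

/-- an element normalising the extraspecial group -/
theorem semi {g k1 k2 k3 l1 l2 l3 : G} (hz : E.z1 * g = g * E.z1)
    (h1 : E.a1 * g = g * k1) (h2 : E.a2 * g = g * k2) (h3 : E.a3 * g = g * k3)
    (h4 : E.b3 * g = g * l3) (h5 : E.b2 * g = g * l2) (h6 : E.b1 * g = g * l1)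
    (m1 : k1 ∈ Fx ρ ρ' (tm F F')) (m2 : k2 ∈ Fx ρ ρ' (tm F F')) (m3 : k3 ∈ Fx ρ ρ' (tm F F'))
    (n3 : l3 ∈ Fx ρ ρ' (tm F F')) (n2 : l2 ∈ Fx ρ ρ' (tm F F')) (n1 : l1 ∈ Fx ρ ρ' (tm F F')) :
    ∃ μ : K, μ ≠ 0 ∧ tw ρ ρ' g (tm F F') = μ • tm F F' := by
  have h := eq_smul_tm D H H' F F' (θ := tw ρ ρ' g (tm F F')) (mem_Fx_tw' h1 m1) (mem_Fx_tw' h2 m2)
    (mem_Fx_tw' h3 m3) (mem_Fx_tw' h4 n3) (mem_Fx_tw' h5 n2) (mem_Fx_tw' h6 n1)
    (tw_z1 D H H' (tm_z1 D H H' F F') hz)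
  refine ⟨_, ?_, h⟩
  intro h0
  rw [h0, zero_smul] at h
  have h7 : tw ρ ρ' g (tm F F') = tw ρ ρ' g 0 := by
    rw [h]; ext x; simp [tw_apply]
  exact tm_ne D H H' F F' (tw_inj h7)

omit D H H' in
theorem tw_of_mem {θ : W →ₗ[K] V} {g k : G} (hk : k ∈ Fx ρ ρ' θ) : tw ρ ρ' (g * k) θ = tw ρ ρ' g θ := by
  rw [tw_mul, mem_Fx_iff_tw.1 hk]

theorem y1_tm : E.y1 ∈ Fx ρ ρ' (tm F F') := by
  have a1 := a1_tm D H H' F F'
  have a2 := a2_tm D H H' F F'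
  have a3 := a3_tm D H H' F F'
  have b1 := b1_tm D H H' F F'
  have b2 := b2_tm D H H' F F'
  have b3 := b3_tm D H H' F F'
  have z1 := z1_tm D H H' F F'
  have z2 := z2_tm D H H' F F'
  obtain ⟨μ, hμ, h⟩ := semi D H H' F F' D.z1y1 D.a1y1 D.a2y1 D.a3y1 D.b3y1 D.b2y1 D.b1y1
    (mul_mem (mul_mem z1 a1) b2) (mul_mem (mul_mem z1 a2) b1) a3 b3 (mul_mem z1 a1) (mul_mem z1 a2)
  have h1 := congrArg (fun g => tw ρ ρ' g (tm F F')) D.z2y1
  simp only [tw_mul, h, mem_Fx_iff_tw.1 z2, tw_smul] at h1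
  rw [smul_smul] at h1
  have h2 := smul_tm_inj D H H' F F' h1
  have h3 : μ = 1 := by
    have : μ * (μ - 1) = 0 := by linear_combination -h2
    exact sub_eq_zero.1 ((mul_eq_zero.1 this).resolve_left hμ)
  rw [mem_Fx_iff_tw, h, h3, one_smul]

theorem y2_tm : E.y2 ∈ Fx ρ ρ' (tm F F') := by
  have a1 := a1_tm D H H' F F'
  have a2 := a2_tm D H H' F F'
  have a3 := a3_tm D H H' F F'
  have b1 := b1_tm D H H' F F'
  have b2 := b2_tm D H H' F F'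
  have b3 := b3_tm D H H' F F'
  have z1 := z1_tm D H H' F F'
  have z2 := z2_tm D H H' F F'
  obtain ⟨μ, hμ, h⟩ := semi D H H' F F' D.z1y2 D.a1y2 D.a2y2 D.a3y2 D.b3y2 D.b2y2 D.b1y2
    (mul_mem (mul_mem (mul_mem (mul_mem z1 a1) a2) a3) b2) (mul_mem (mul_mem a1 b1) b3) (mul_mem a2 b2)
    (mul_mem (mul_mem (mul_mem z1 a1) a2) b1)
    (mul_mem (mul_mem (mul_mem (mul_mem z1 a2) b1) b2) b3)
    (mul_mem (mul_mem (mul_mem (mul_mem a1 a2) a3) b2) b3)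
  have h1 := congrArg (fun g => tw ρ ρ' g (tm F F')) D.z2y2
  simp only [tw_mul, h, mem_Fx_iff_tw.1 z2, tw_smul] at h1
  rw [smul_smul] at h1
  have h2 := smul_tm_inj D H H' F F' h1
  have h3 : μ = 1 := by
    have : μ * (μ - 1) = 0 := by linear_combination -h2
    exact sub_eq_zero.1 ((mul_eq_zero.1 this).resolve_left hμ)
  rw [mem_Fx_iff_tw, h, h3, one_smul]

theorem ze_tm : E.ze ∈ Fx ρ ρ' (tm F F') := by
  have h1 : E.ze = E.y1 * E.y2 * (E.y2 * E.y1)⁻¹ := by rw [D.y1y2, mul_inv_cancel_right]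
  rw [h1]
  have y1 := y1_tm D H H' F F'
  have y2 := y2_tm D H H' F F'
  exact mul_mem (mul_mem y1 y2) (inv_mem (mul_mem y2 y1))

theorem r1_tm (hc : E.c ∈ Fx ρ ρ' (tm F F')) : E.r1 ∈ Fx ρ ρ' (tm F F') ∧ E.r2 ∈ Fx ρ ρ' (tm F F') := by
  have a1 := a1_tm D H H' F F'
  have a2 := a2_tm D H H' F F'
  have a3 := a3_tm D H H' F F'
  have b1 := b1_tm D H H' F F'
  have b2 := b2_tm D H H' F F'
  have b3 := b3_tm D H H' F F'
  have z1 := z1_tm D H H' F F'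
  have z2 := z2_tm D H H' F F'
  obtain ⟨μ, hμ, h⟩ := semi D H H' F F' D.z1r1 D.a1r1 D.a2r1 D.a3r1 D.b3r1 D.b2r1 D.b1r1
    a1 a2 (mul_mem (mul_mem z1 a1) a3) (mul_mem (mul_mem z1 a2) b3) (mul_mem (mul_mem (mul_mem a1 a2) a3) b2)
    (mul_mem (mul_mem (mul_mem z1 a1) b1) b3)
  have hc' := mem_Fx_iff_tw.1 hc
  have h1 := congrArg (fun g => tw ρ ρ' g (tm F F')) D.cr1
  simp only [tw_mul, h, hc', tw_smul] at h1
  have h2 := congrArg (fun g => tw ρ ρ' g (tm F F')) D.cr2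
  simp only [tw_mul, hc', ← h1, tw_smul, h] at h2
  rw [smul_smul] at h2
  have h2 := smul_tm_inj D H H' F F' h2
  have h3 : μ = 1 := by
    have : μ * (μ - 1) = 0 := by linear_combination -h2
    exact sub_eq_zero.1 ((mul_eq_zero.1 this).resolve_left hμ)
  rw [mem_Fx_iff_tw, mem_Fx_iff_tw, h, ← h1, h3, one_smul]
  exact ⟨rfl, rfl⟩

theorem t_tm (hc : E.c ∈ Fx ρ ρ' (tm F F')) : E.t ∈ Fx ρ ρ' (tm F F') := by
  rw [D.te]
  exact mul_mem hc (ze_tm D H H' F F')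

/-- `t2` as the part of `tm` on `z2 = 1` -/
theorem tm_t2 (x : W) : tm F F' (x + ρ' E.z2 x) = (2 : K) • t2 F F' x := by
  have D' := H.rel
  have q2 : ∀ y, (E.map ρ).z2 (t2 F F' y) = t2 F F' y := fun y => H.z2V2 _ (t2_mem D H H' F F' y)
  have q3 : ∀ y, (E.map ρ).z2 (ρ E.b2 (t2 F F' y)) = -(ρ E.b2 (t2 F F' y)) := by
    intro y
    have e1 : (E.map ρ).z2 ((E.map ρ).b2 (t2 F F' y)) = (E.map ρ).b2 ((E.map ρ).z3 (t2 F F' y)) := ap D'.z2b2 _
    rw [H.z3e, (mem_V2.1 (t2_mem D H H' F F' y)).1.2, map_neg, q2, map_neg] at e1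
    exact e1
  have q4 : ∀ y, (E.map ρ).z4 (t2 F F' y) = -(t2 F F' y) := by
    intro y
    rw [H.z4e, (mem_V2.1 (t2_mem D H H' F F' y)).2, map_neg, q2]
  have q5 : ∀ y, (E.map ρ).z4 (ρ E.b2 (t2 F F' y)) = -(ρ E.b2 (t2 F F' y)) := by
    intro y
    have e1 : (E.map ρ).a2 ((E.map ρ).b2 (t2 F F' y)) = (E.map ρ).b2 ((E.map ρ).a2 ((E.map ρ).z1 (t2 F F' y))) :=
      D'.va2b2 _
    rw [(mem_V2.1 (t2_mem D H H' F F' y)).1.1, map_neg, (mem_V2.1 (t2_mem D H H' F F' y)).2, neg_neg] at e1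
    change (E.map ρ).z4 ((E.map ρ).b2 (t2 F F' y)) = _
    rw [H.z4e, e1]
    exact q3 y
  have q6 : ∀ y, (E.map ρ).z4 (t3 F F' y) = -(t3 F F' y) := by
    intro y
    rw [t3, LinearMap.add_apply, tw_apply, map_add, q4, q5]; abel
  have q7 : ∀ y, (E.map ρ).z2 (ρ E.b1 (t3 F F' y)) = -(ρ E.b1 (t3 F F' y)) := by
    intro y
    have e1 : (E.map ρ).z2 ((E.map ρ).b1 (t3 F F' y)) = (E.map ρ).b1 ((E.map ρ).z4 (t3 F F' y)) := ap D'.z2b1 _
    rw [q6, map_neg] at e1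
    exact e1
  have h1 : ρ E.z2 (tm F F' x) = t2 F F' x - tw ρ ρ' E.b2 (t2 F F') x - tw ρ ρ' E.b1 (t3 F F') x := by
    have e1 : tm F F' x = t2 F F' x + tw ρ ρ' E.b2 (t2 F F') x + tw ρ ρ' E.b1 (t3 F F') x := rfl
    rw [e1, map_add, map_add]
    change (E.map ρ).z2 (t2 F F' x) + (E.map ρ).z2 (ρ E.b2 (t2 F F' _)) + (E.map ρ).z2 (ρ E.b1 (t3 F F' _)) = _
    rw [q2, q3, q7, tw_apply, tw_apply]
    abel
  rw [map_add, ← z2_tm D H H' F F' x, h1]
  have e1 : tm F F' x = t2 F F' x + tw ρ ρ' E.b2 (t2 F F') x + tw ρ ρ' E.b1 (t3 F F') x := rfl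
  rw [e1]
  module

theorem t2_of_tm {g : G} (hg : g ∈ Fx ρ ρ' (tm F F')) (hz : E.z2 * g = g * E.z2) : g ∈ Fx ρ ρ' (t2 F F') := by
  intro x
  have h1 : (2 : K) • ρ g (t2 F F' x) = (2 : K) • t2 F F' (ρ' g x) := by
    rw [← map_smul (ρ g), ← tm_t2 D H H' F F', ← tm_t2 D H H' F F', hg, map_add (ρ' g)]
    congr 2
    rw [← ract, ← ract, hz]
  exact smul_right_injective V H.two h1

omit D H in
/-- in the second module: the projection onto `V2` commutes with `d1` -/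
theorem d1_P2 (D : Rel E) : E.d1 ∈ Fx ρ' ρ' (t2 F' F') := by
  have D' := H'.rel
  -- `4 t2 = (1 - z1)(1 + z2)`
  have h1 : ∀ x, (4 : K) • t2 F' F' x = (x + (E.map ρ').z2 x) - (E.map ρ').z1 (x + (E.map ρ').z2 x) := by
    intro x
    have e1 := tm_t2 D H' H' F' F' x
    have e2 := tm_self D H' F' (x + (E.map ρ').z2 x)
    have e3 : (4 : K) • t2 F' F' x = (2 : K) • ((2 : K) • t2 F' F' x) := by rw [smul_smul]; norm_num
    rw [e3, ← e1]
    exact e2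
  -- `z5 = z1` on `z2 = 1`
  have h2 : ∀ y, (E.map ρ').z2 y = y → (E.map ρ').z5 y = (E.map ρ').z1 y := by
    intro y hy
    have e1 : (E.map ρ').z5 y = (E.map ρ').z1 ((E.map ρ').a1 ((E.map ρ').a2 ((E.map ρ').z2 y))) := ap D'.z5e y
    rw [e1, hy]
    have e2 : (E.map ρ').a1 ((E.map ρ').a2 (y + (E.map ρ').z1 y)) = y + (E.map ρ').z1 y := by
      have e3 : (E.map ρ').z1 (y + (E.map ρ').z1 y) = y + (E.map ρ').z1 y := by rw [map_add, D'.vz1z1]; abel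
      rw [H'.a2_triv _ e3, H'.a1_triv _ e3]
    have e4 : (E.map ρ').a1 ((E.map ρ').a2 (y - (E.map ρ').z1 y)) = y - (E.map ρ').z1 y := by
      have e5 := mem_V2.1 (H'.toV2 (y - (E.map ρ').z1 y) (by rw [map_sub, D'.vz1z1]; abel)
        (by rw [map_sub, ← H'.z1z2, hy]))
      rw [e5.2, map_neg, e5.1.2, neg_neg]
    have e6 : (E.map ρ').a1 ((E.map ρ').a2 y) = y := by
      have e7 : (2 : K) • (E.map ρ').a1 ((E.map ρ').a2 y) = (2 : K) • y := by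
        have e8 : (2 : K) • (E.map ρ').a1 ((E.map ρ').a2 y) = (E.map ρ').a1 ((E.map ρ').a2 (y + (E.map ρ').z1 y)) + (E.map ρ').a1 ((E.map ρ').a2 (y - (E.map ρ').z1 y)) := by
          rw [← map_add, ← map_add, two_smul, ← map_add, ← map_add]; congr 2; abel
        rw [e8, e2, e4, two_smul]; abel
      exact smul_right_injective W H'.two e7
    rw [e6]
  intro x
  have h3 : (4 : K) • ρ' E.d1 (t2 F' F' x) = (4 : K) • t2 F' F' (ρ' E.d1 x) := by
    rw [← map_smul (ρ' E.d1), h1, h1]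
    have e1 : (E.map ρ').z2 (ρ' E.d1 x) = ρ' E.d1 ((E.map ρ').z2 x) := ap D'.z2d1 x
    rw [e1, ← map_add (ρ' E.d1)]
    have e2 : (E.map ρ').z1 (ρ' E.d1 (x + (E.map ρ').z2 x)) = ρ' E.d1 ((E.map ρ').z5 (x + (E.map ρ').z2 x)) := ap D'.z1d1 _
    rw [e2, h2 _ (by rw [map_add, H'.z2z2]; abel), map_sub]
  have h4 : (4 : K) ≠ 0 := by
    have : (4 : K) = 2 * 2 := by norm_num
    rw [this]
    exact mul_ne_zero H'.two H'.two
  exact smul_right_injective W h4 h3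

theorem t2_comp : t2 F F' ∘ₗ t2 F' F' = t2 F F' := by
  rw [comp_t2 D H H' F F' (a1_t2 D H H' F F') (a2_t2 D H H' F F') (a3_t2 D H H' F F') (b3_t2 D H H' F F'),
    t2_v D H H' F F', F.fv, one_smul]

theorem d_t2 (hc : E.c ∈ Fx ρ ρ' (tm F F')) : E.t ∈ Fx ρ ρ' (t2 F F') ∧ E.d1 ∈ Fx ρ ρ' (t2 F F') ∧
    E.d2 ∈ Fx ρ ρ' (t2 F F') := by
  have a1 := a1_t2 D H H' F F'
  have a2 := a2_t2 D H H' F F'
  have a3 := a3_t2 D H H' F F'
  have b3 := b3_t2 D H H' F F'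
  have z2 := z2_t2 D H H' F F'
  obtain ⟨r1', r2'⟩ := r1_tm D H H' F F' hc
  have r1 := t2_of_tm D H H' F F' r1' D.z2r1
  have r2 := t2_of_tm D H H' F F' r2' D.z2r2
  have ht := t2_of_tm D H H' F F' (t_tm D H H' F F' hc) (by
    rw [D.te, ← mul_assoc, D.z2c, mul_assoc, D.z2ze, mul_assoc])
  have hP := d1_P2 H' F' D
  have h := eq_smul_t2 D H H' F F' (θ := tw ρ ρ' E.d1 (t2 F F')) (mem_Fx_tw' D.a1d1 a2) (mem_Fx_tw' D.a2d1 a1)
    (mem_Fx_tw' D.a3d1 (mul_mem (mul_mem (mul_mem b3 a3) r2) b3))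
    (mem_Fx_tw' D.b3d1 (mul_mem (mul_mem (mul_mem r2 b3) r1) z2)) (by
      ext x
      rw [LinearMap.comp_apply, tw_apply, tw_apply]
      have e1 := (inv_mem hP : E.d1⁻¹ ∈ Fx ρ' ρ' (t2 F' F')) x
      rw [e1]
      exact congrArg _ (LinearMap.congr_fun (t2_comp D H H' F F') _))
  set χ := F.f ((tw ρ ρ' E.d1 (t2 F F')) F'.v)
  have hχ : χ ≠ 0 := by
    intro h0
    rw [h0, zero_smul] at h
    have h7 : tw ρ ρ' E.d1 (t2 F F') = tw ρ ρ' E.d1 0 := by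
      rw [h]; ext x; simp [tw_apply]
    exact t2_ne D H H' F F' (tw_inj h7)
  have ht' := mem_Fx_iff_tw.1 ht
  have h1 := congrArg (fun g => tw ρ ρ' g (t2 F F')) D.td1
  simp only [tw_mul, h, ht', tw_smul] at h1
  have h2 := congrArg (fun g => tw ρ ρ' g (t2 F F')) D.td2
  simp only [tw_mul, ht', ← h1, tw_smul, h] at h2
  rw [smul_smul] at h2
  have h2 := smul_t2_inj D H H' F F' h2
  have h3 : χ = 1 := by
    have : χ * (χ - 1) = 0 := by linear_combination -h2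
    exact sub_eq_zero.1 ((mul_eq_zero.1 this).resolve_left hχ)
  refine ⟨ht, ?_, ?_⟩
  · rw [mem_Fx_iff_tw, h, h3, one_smul]
  · rw [mem_Fx_iff_tw, ← h1, h3, one_smul]

/-- the map on `V1` -/
def t1 (F : Frame (E.map ρ) i) (F' : Frame (E.map ρ') i) : W →ₗ[K] V := tw ρ ρ' E.h (t2 F F')

/-- **the glued map is equivariant under the line stabiliser** -/
theorem glue (hc : E.c ∈ Fx ρ ρ' (tm F F')) :
    (E.a3 ∈ Fx ρ ρ' (t1 F F') ∧ E.b1 ∈ Fx ρ ρ' (t1 F F') ∧ E.b2 ∈ Fx ρ ρ' (t1 F F') ∧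
      E.c ∈ Fx ρ ρ' (t1 F F') ∧ E.r1 ∈ Fx ρ ρ' (t1 F F') ∧ E.r2 ∈ Fx ρ ρ' (t1 F F')) ∧
      E.h ∈ Fx ρ ρ' (tm F F' + t1 F F') := by
  obtain ⟨ht, d1, d2⟩ := d_t2 D H H' F F' hc
  obtain ⟨r1', r2'⟩ := r1_tm D H H' F F' hc
  have r1 := t2_of_tm D H H' F F' r1' D.z2r1
  have hh : E.h * E.h = 1 := D.hh
  have conj : ∀ {x y : G}, y * E.h = E.h * x → x * E.h = E.h * y := by
    intro x y h
    calc x * E.h = E.h * E.h * x * E.h := by rw [hh, one_mul]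
      _ = E.h * (E.h * x) * E.h := by simp only [mul_assoc]
      _ = E.h * y * (E.h * E.h) := by rw [← h]; simp only [mul_assoc]
      _ = E.h * y := by rw [hh, mul_one]
  refine ⟨⟨mem_Fx_tw' (conj D.r1h) r1, mem_Fx_tw' (conj D.d1h) d1, mem_Fx_tw' (conj D.d2h) d2,
    mem_Fx_tw' D.ch (t2_of_tm D H H' F F' hc D.z2c), mem_Fx_tw' D.r1h (a3_t2 D H H' F F'),
    mem_Fx_tw' D.r2h (b3_t2 D H H' F F')⟩, ?_⟩
  -- `h`
  have e0 : tm F F' = t2 F F' + tw ρ ρ' E.b2 (t2 F F') + (tw ρ ρ' E.b1 (t2 F F') +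
      tw ρ ρ' (E.b1 * E.b2) (t2 F F')) := by
    rw [tw_mul, ← tw_add]
    rfl
  have f1 : tw ρ ρ' E.h (tw ρ ρ' E.b2 (t2 F F')) = tw ρ ρ' E.b2 (t2 F F') := by
    rw [← tw_mul, D.w2, tw_of_mem d2]
  have f2 : tw ρ ρ' E.h (tw ρ ρ' E.b1 (t2 F F')) = tw ρ ρ' (E.b1 * E.b2) (t2 F F') := by
    rw [← tw_mul, D.w1, tw_of_mem (mul_mem d1 ht)]
  have f3 : tw ρ ρ' E.h (tw ρ ρ' (E.b1 * E.b2) (t2 F F')) = tw ρ ρ' E.b1 (t2 F F') := by
    rw [← f2, ← tw_mul, hh, tw_one]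
  have f4 : tw ρ ρ' E.h (t1 F F') = t2 F F' := by
    rw [t1, ← tw_mul, hh, tw_one]
  rw [mem_Fx_iff_tw, tw_add, f4, e0, tw_add, tw_add, tw_add, f1, f2, f3, ← t1]
  abel

theorem t1_z1 (x : W) : t1 F F' (ρ' E.z1 x) = t1 F F' x := by
  rw [t1, tw_apply, tw_apply]
  have e1 : ρ' E.h⁻¹ (ρ' E.z1 x) = ρ' E.z2 (ρ' E.h⁻¹ x) := by
    rw [← ract, ← ract]
    congr 2
    rw [inv_mul_eq_iff_eq_mul, ← mul_assoc, ← D.z1h, mul_inv_cancel_right]
  rw [e1, ← z2_t2 D H H' F F', show ρ E.z2 (t2 F F' (ρ' E.h⁻¹ x)) = _ from H.z2V2 _ (t2_mem D H H' F F' _)]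

theorem t1_mem (x : W) : t1 F F' x ∈ V1 (E.map ρ) := H.h_V2 (t2_mem D H H' F F' _)

end two

end Cfsg.Agent.H36.U52
end

-- part: H36/U52/Plus
section
/-!
# The part `z1 = 1` of a module of dimension 11 or 12
-/

set_option autoImplicit false
set_option linter.unusedSectionVars false

namespace Cfsg.Agent.H36.U52

open Module

universe u v

variable {K : Type u} {V : Type v} [Field K] [AddCommGroup V] [Module K V]

/-- the seven generators act irreducibly -/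
def Irr7 (e : El (Module.End K V)) : Prop :=
  ∀ W : Submodule K V, (∀ x ∈ W, e.b1 x ∈ W) → (∀ x ∈ W, e.b2 x ∈ W) → (∀ x ∈ W, e.h x ∈ W) →
    (∀ x ∈ W, e.a3 x ∈ W) → (∀ x ∈ W, e.c x ∈ W) → (∀ x ∈ W, e.y1 x ∈ W) → (∀ x ∈ W, e.y2 x ∈ W) →
    W = ⊥ ∨ W = ⊤

variable {e : El (Module.End K V)} {i : K}

section

variable (D : Rel e) (x : V)
include D

theorem Rel.vcy1 : e.y1 (e.c x) = e.c (e.y1 x) := (ap D.cy1 x).symm
theorem Rel.vy1y1 : e.y1 (e.y1 (e.y1 x)) = x := ap D.y13 x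
theorem Rel.vy2y2 : e.y2 (e.y2 (e.y2 x)) = x := ap D.y23 x
theorem Rel.vccc : e.c (e.c (e.c x)) = x := ap D.c3 x
theorem Rel.vz1y1 : e.z1 (e.y1 x) = e.y1 (e.z1 x) := ap D.z1y1 x
theorem Rel.vz1y2 : e.z1 (e.y2 x) = e.y2 (e.z1 x) := ap D.z1y2 x
theorem Rel.vz1c' : e.z1 (e.c x) = e.c (e.z1 x) := ap D.z1c x
theorem Rel.vz1r1 : e.z1 (e.r1 x) = e.r1 (e.z1 x) := ap D.z1r1 x
theorem Rel.vz1ze : e.z1 (e.ze x) = e.ze (e.z1 x) := ap D.z1ze x
theorem Rel.vz2c : e.z2 (e.c x) = e.c (e.z2 x) := ap D.z2c x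
theorem Rel.vz2ze : e.z2 (e.ze x) = e.ze (e.z2 x) := ap D.z2ze x
theorem Rel.vr1y1 : e.y2 (e.r1 x) = e.r1 (e.y1 x) := (ap D.r1y1 x).symm
theorem Rel.vr1y2 : e.y1 (e.y1 (e.r1 x)) = e.r1 (e.y2 x) := (ap D.r1y2 x).symm
theorem Rel.vcy2 : e.y1 (e.y1 (e.y2 (e.y1 (e.y1 (e.c x))))) = e.c (e.y2 x) := (ap D.cy2 x).symm
theorem Rel.vy1y2 : e.y1 (e.y2 x) = e.ze (e.y2 (e.y1 x)) := ap D.y1y2 x
theorem Rel.vzey1 : e.ze (e.y1 x) = e.y1 (e.ze x) := ap D.zey1 x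
theorem Rel.vzey2 : e.ze (e.y2 x) = e.y2 (e.ze x) := ap D.zey2 x
theorem Rel.vzer1 : e.ze (e.r1 x) = e.r1 (e.ze x) := ap D.zer1 x
theorem Rel.vzer2 : e.ze (e.r2 x) = e.r2 (e.ze x) := ap D.zer2 x
theorem Rel.vzec : e.ze (e.c x) = e.c (e.ze x) := ap D.zec x
theorem Rel.vzeze : e.ze (e.ze (e.ze x)) = x := ap D.ze3 x
theorem Rel.vz2y1 : e.z2 (e.y1 x) = e.y1 (e.y1 (e.z2 x)) := ap D.z2y1 x
theorem Rel.vz2y2 : e.z2 (e.y2 x) = e.y2 (e.y2 (e.z2 x)) := ap D.z2y2 x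
theorem Rel.vz2z2 : e.z2 (e.z2 x) = x := ap D.z2z2 x
theorem Rel.vz1z2 : e.z1 (e.z2 x) = e.z2 (e.z1 x) := ap D.z1z2 x
theorem Rel.vr1h : e.r1 (e.h x) = e.h (e.a3 x) := ap D.r1h x
theorem Rel.vr2h : e.r2 (e.h x) = e.h (e.b3 x) := ap D.r2h x
theorem Rel.vhh : e.h (e.h x) = x := ap D.hh x
theorem Rel.vr2 : e.r2 (e.c x) = e.c (e.r1 x) := (ap D.cr1 x).symm

end

section

variable [FiniteDimensional K V] (H : Good e i)
include H

theorem Good.exists_v2 : ∃ x ∈ V2 e, x ≠ 0 := by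
  obtain ⟨v, hv0, -⟩ := finrank_eq_one_iff'.1 H.dimX
  exact ⟨v, v.2.1, fun h => hv0 (Subtype.ext h)⟩

theorem Good.exists_v1 : ∃ x ∈ V1 e, x ≠ 0 := by
  obtain ⟨x, hx, h0⟩ := H.exists_v2
  exact ⟨e.h x, H.h_V2 hx, fun h => h0 (inj_h H.rel x h)⟩

theorem Good.P1 (hI : Irr7 e) (W : Submodule K V) (hW : W ≤ V0 e) (hc : ∀ x ∈ W, e.c x ∈ W)
    (h1 : ∀ x ∈ W, e.y1 x ∈ W) (h2 : ∀ x ∈ W, e.y2 x ∈ W) : W = ⊥ := by
  rcases hI W (fun x hx => by rw [H.b1_triv x (mem_V0.1 (hW hx)).1]; exact hx)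
    (fun x hx => by rw [H.b2_triv x (mem_V0.1 (hW hx)).1]; exact hx)
    (fun x hx => by rw [H.hV0 (hW hx)]; exact hx)
    (fun x hx => by rw [H.a3_triv x (mem_V0.1 (hW hx)).1]; exact hx) hc h1 h2 with h | h
  · exact h
  · exfalso
    obtain ⟨x, hx, h0⟩ := H.exists_v2
    have h3 : x ∈ V0 e := hW (by rw [h]; trivial)
    have h4 := (mem_V0.1 h3).1
    rw [(mem_V2.1 hx).1.1] at h4
    exact h0 (half H.two h4.symm)

theorem Good.P2 (hI : Irr7 e) (h1 : ∀ x ∈ V1 e, e.y1 x = x) (h2 : ∀ x ∈ V1 e, e.y2 x = x) : V0 e = ⊥ := by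
  have D := H.rel
  have hVm : ∀ T : Module.End K V, (∀ x, e.z1 (T x) = T (e.z1 x)) → ∀ x ∈ Vm e, T x ∈ Vm e := by
    intro T hT x hx
    rw [mem_Vm] at hx ⊢
    rw [hT, hx, map_neg]
  have key : ∀ T : Module.End K V, (∀ x, e.z1 (T x) = T (e.z1 x)) → (∀ x ∈ V1 e, T x ∈ V1 e) →
      ∀ x ∈ Vm e ⊔ V1 e, T x ∈ Vm e ⊔ V1 e := by
    intro T hT hT' x hx
    rw [Submodule.mem_sup] at hx ⊢
    obtain ⟨y, hy, z, hz, rfl⟩ := hx
    exact ⟨T y, hVm T hT y hy, T z, hT' z hz, (map_add _ _ _).symm⟩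
  have h3 := hI (Vm e ⊔ V1 e)
    (key _ D.vz1b1 (fun x hx => by rw [H.b1_triv x (mem_V1.1 hx).1]; exact hx))
    (key _ D.vz1b2 (fun x hx => by rw [H.b2_triv x (mem_V1.1 hx).1]; exact hx))
    (by
      intro x hx
      rw [Submodule.mem_sup] at hx
      obtain ⟨y, hy, z, hz, rfl⟩ := hx
      rw [map_add]
      refine Submodule.add_mem _ ?_ (Submodule.mem_sup_left (H.h_V1 hz).1.1)
      have hy1 := mem_Vm.1 hy
      have e2 : e.z2 (e.h y) = -(e.h y) := by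
        rw [show e.z2 (e.h y) = e.h (e.z1 y) from ap D.z2h y, hy1, map_neg]
      have e3 : e.h y = (2 : K)⁻¹ • (e.h y - e.z1 (e.h y)) + (2 : K)⁻¹ • (e.h y + e.z1 (e.h y)) := by
        rw [← smul_add]
        have : e.h y - e.z1 (e.h y) + (e.h y + e.z1 (e.h y)) = (2 : K) • e.h y := by module
        rw [this, smul_smul, inv_mul_cancel₀ H.two, one_smul]
      rw [e3]
      refine Submodule.add_mem _ (Submodule.mem_sup_left ?_) (Submodule.mem_sup_right ?_)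
      · apply Submodule.smul_mem
        rw [mem_Vm, map_sub, D.vz1z1]; abel
      · apply Submodule.smul_mem
        rw [mem_V1]
        constructor
        · rw [map_add, D.vz1z1]; abel
        · rw [map_add, ← D.vz1z2, e2, map_neg]; abel)
    (key _ D.vz1a3 (fun x hx => by rw [H.a3_triv x (mem_V1.1 hx).1]; exact hx))
    (key _ D.vz1c' (fun x hx => by
      rw [mem_V1] at hx ⊢
      exact ⟨by rw [D.vz1c', hx.1], by rw [D.vz2c, hx.2, map_neg]⟩))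
    (key _ D.vz1y1 (fun x hx => by rw [h1 x hx]; exact hx))
    (key _ D.vz1y2 (fun x hx => by rw [h2 x hx]; exact hx))
  have h4 : Vm e ⊔ V1 e = ⊤ := by
    rcases h3 with h | h
    · exfalso
      obtain ⟨x, hx, h0⟩ := H.exists_v2
      have : x ∈ Vm e ⊔ V1 e := Submodule.mem_sup_left hx.1.1
      rw [h, Submodule.mem_bot] at this
      exact h0 this
    · exact h
  rw [Submodule.eq_bot_iff]
  intro x hx
  have hx' := mem_V0.1 hx
  have h5 : x ∈ Vm e ⊔ V1 e := by rw [h4]; trivial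
  rw [Submodule.mem_sup] at h5
  obtain ⟨y, hy, z, hz, rfl⟩ := h5
  have hy1 := mem_Vm.1 hy
  have hz1 := mem_V1.1 hz
  have e1 := hx'.1
  rw [map_add, hy1, hz1.1] at e1
  have hy0 : y = 0 := by
    apply half H.two
    have := congrArg (fun w => w - z) e1
    simp only [add_sub_cancel_right] at this
    exact this.symm
  subst hy0
  rw [zero_add] at hx' ⊢
  have e2 := hx'.2
  rw [hz1.2] at e2
  exact half H.two e2.symm

/-- `V2` is irreducible under `a3`, `b3` -/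
theorem Good.V2_irr (M : Submodule K V) (h1 : ∀ x ∈ M, e.a3 x ∈ M) (h2 : ∀ x ∈ M, e.b3 x ∈ M)
    {x : V} (hx : x ∈ V2 e) (hxM : x ∈ M) (hx0 : x ≠ 0) : V2 e ≤ M := by
  have D := H.rel
  obtain ⟨F⟩ := exists_frame H
  have inX : ∀ y ∈ V2 e, y - i • e.a3 y ∈ X e i := by
    intro y hy
    refine ⟨(V2 e).sub_mem hy ((V2 e).smul_mem _ (a3_V2 D y hy)), mem_ES.2 ?_⟩
    rw [map_sub, map_smul, a3_a3 D y hy, smul_sub, smul_smul, H.hi, neg_smul, one_smul, smul_neg]; abel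
  have inX' : ∀ y ∈ V2 e, e.b3 (y + i • e.a3 y) ∈ X e i := by
    intro y hy
    have hy' := (V2 e).add_mem hy ((V2 e).smul_mem i (a3_V2 D y hy))
    refine ⟨b3_V2 D _ hy', mem_ES.2 ?_⟩
    rw [a3_b3 D _ hy', map_add, map_smul, a3_a3 D y hy]
    simp only [map_add, map_smul, map_neg, smul_add, smul_neg, smul_smul, H.hi]
    module
  have hv : F.v ∈ M := by
    by_cases h : x - i • e.a3 x = 0
    · have h3 : e.b3 (x + i • e.a3 x) ∈ M := h2 _ (M.add_mem hxM (M.smul_mem _ (h1 _ hxM)))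
      have h4 := Frame.eq_of_mem H F (inX' x hx)
      have h5 : F.f (e.b3 (x + i • e.a3 x)) ≠ 0 := by
        intro h0
        rw [h0, zero_smul] at h4
        have h6 := inj_b3 D _ h4
        have h7 : (2 : K) • x = 0 := by
          have : (2 : K) • x = (x - i • e.a3 x) + (x + i • e.a3 x) := by module
          rw [this, h, h6, add_zero]
        exact hx0 ((smul_eq_zero.1 h7).resolve_left H.two)
      rw [h4] at h3
      have h8 := M.smul_mem (F.f (e.b3 (x + i • e.a3 x)))⁻¹ h3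
      rwa [smul_smul, inv_mul_cancel₀ h5, one_smul] at h8
    · have h3 : x - i • e.a3 x ∈ M := M.sub_mem hxM (M.smul_mem _ (h1 _ hxM))
      have h4 := Frame.eq_of_mem H F (inX x hx)
      have h5 : F.f (x - i • e.a3 x) ≠ 0 := by
        intro h0
        rw [h0, zero_smul] at h4
        exact h h4
      rw [h4] at h3
      have h8 := M.smul_mem (F.f (x - i • e.a3 x))⁻¹ h3
      rwa [smul_smul, inv_mul_cancel₀ h5, one_smul] at h8
  have hX : ∀ y ∈ X e i, y ∈ M := by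
    intro y hy
    rw [Frame.eq_of_mem H F hy]
    exact M.smul_mem _ hv
  intro y hy
  have h3 := hX _ (inX y hy)
  have h4 := h2 _ (hX _ (inX' y hy))
  have hy' := (V2 e).add_mem hy ((V2 e).smul_mem i (a3_V2 D y hy))
  rw [b3_b3 D _ hy'] at h4
  have h5 : (2 : K) • y ∈ M := by
    have : (2 : K) • y = (y - i • e.a3 y) - (-(y + i • e.a3 y)) := by module
    rw [this]
    exact M.sub_mem h3 h4
  have h6 := M.smul_mem (2 : K)⁻¹ h5
  rwa [smul_smul, inv_mul_cancel₀ H.two, one_smul] at h6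

/-- `V1` is irreducible under `r1`, `r2` -/
theorem Good.V1_irr (M : Submodule K V) (h1 : ∀ x ∈ M, e.r1 x ∈ M) (h2 : ∀ x ∈ M, e.r2 x ∈ M)
    {x : V} (hx : x ∈ V1 e) (hxM : x ∈ M) (hx0 : x ≠ 0) : V1 e ≤ M := by
  have D := H.rel
  have h3 := H.V2_irr (M.comap e.h) (fun y hy => by
      rw [Submodule.mem_comap] at hy ⊢
      rw [← D.vr1h]; exact h1 _ hy) (fun y hy => by
      rw [Submodule.mem_comap] at hy ⊢
      rw [← D.vr2h]; exact h2 _ hy) (H.h_V1 hx) (by rw [Submodule.mem_comap, D.vhh]; exact hxM)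
      (fun h => hx0 (inj_h D x h))
  intro y hy
  have h4 := h3 (H.h_V1 hy)
  rw [Submodule.mem_comap, D.vhh] at h4
  exact h4

/-- subspaces of `z1 = 1` stable under `z2`, `r1`, `r2` and missing `V1` are in `V0` -/
theorem Good.le_V0 (M : Submodule K V) (hM : M ≤ Vp e) (hz : ∀ x ∈ M, e.z2 x ∈ M)
    (h0 : ∀ x ∈ M, x ∈ V1 e → x = 0) : M ≤ V0 e := by
  have D := H.rel
  intro x hx
  have h1 := mem_Vp.1 (hM hx)
  have h2 := h0 (x - e.z2 x) (M.sub_mem hx (hz x hx)) (mem_V1.2 ⟨by rw [map_sub, D.vz1z2, h1],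
    by rw [map_sub, D.vz2z2]; abel⟩)
  exact mem_V0.2 ⟨h1, (sub_eq_zero.1 h2).symm⟩

theorem Good.claimA (hI : Irr7 e) (hV0 : V0 e ≠ ⊥) {x : V} (h1 : e.z1 x = x) (h2 : e.y1 x = x) (h3 : e.y2 x = x) :
    x = 0 := by
  have D := H.rel
  set Y : Submodule K V := Vp e ⊓ ES e.y1 1 ⊓ ES e.y2 1 with hY
  have memY : ∀ x, x ∈ Y ↔ (e.z1 x = x ∧ e.y1 x = x) ∧ e.y2 x = x := by
    intro x
    rw [hY, Submodule.mem_inf, Submodule.mem_inf, mem_Vp, mem_ES, mem_ES, one_smul]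
  have Yc : ∀ x ∈ Y, e.c x ∈ Y := by
    intro x hx
    rw [memY] at hx ⊢
    obtain ⟨⟨h1, h2⟩, h3⟩ := hx
    have g1 : e.y1 (e.c x) = e.c x := by rw [D.vcy1, h2]
    refine ⟨⟨by rw [D.vz1c', h1], g1⟩, ?_⟩
    have g2 := D.vcy2 x
    rw [g1, g1, h3] at g2
    have g3 := congrArg e.y1 g2
    rw [D.vy1y1, g1] at g3
    exact g3
  have Yr : ∀ x ∈ Y, e.r1 x ∈ Y := by
    intro x hx
    rw [memY] at hx ⊢
    obtain ⟨⟨h1, h2⟩, h3⟩ := hx
    refine ⟨⟨by rw [D.vz1r1, h1], ?_⟩, by rw [D.vr1y1, h2]⟩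
    have g2 := D.vr1y2 x
    rw [h3] at g2
    have g3 := congrArg e.y1 g2
    rw [D.vy1y1] at g3
    exact g3.symm
  have Yr2 : ∀ x ∈ Y, e.r2 x ∈ Y := by
    intro x hx
    have g1 := D.vr2 (e.c (e.c x))
    rw [D.vccc] at g1
    rw [g1]
    exact Yc _ (Yr _ (Yc _ (Yc _ hx)))
  have Yz : ∀ x ∈ Y, e.z2 x ∈ Y := by
    intro x hx
    rw [memY] at hx ⊢
    obtain ⟨⟨h1, h2⟩, h3⟩ := hx
    refine ⟨⟨by rw [D.vz1z2, h1], ?_⟩, ?_⟩
    · have g2 := D.vz2y1 x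
      rw [h2] at g2
      have g3 := congrArg e.y1 g2
      rw [D.vy1y1] at g3
      exact g3
    · have g2 := D.vz2y2 x
      rw [h3] at g2
      have g3 := congrArg e.y2 g2
      rw [D.vy2y2] at g3
      exact g3
  have Y1 : ∀ x ∈ Y, x ∈ V1 e → x = 0 := by
    intro x hx hx1
    by_contra hx0
    have h5 := H.V1_irr Y Yr Yr2 hx1 hx hx0
    exact hV0 (H.P2 hI (fun y hy => ((memY y).1 (h5 hy)).1.2) (fun y hy => ((memY y).1 (h5 hy)).2))
  have Y0 := H.le_V0 Y (fun x hx => hx.1.1) Yz Y1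
  have Yb := H.P1 hI Y Y0 Yc (fun x hx => by rw [((memY x).1 hx).1.2]; exact hx)
    (fun x hx => by rw [((memY x).1 hx).2]; exact hx)
  have hx : x ∈ Y := (memY x).2 ⟨⟨h1, h2⟩, h3⟩
  rw [Yb, Submodule.mem_bot] at hx
  exact hx

omit H in
/-- a unipotent operator of order three in characteristic three -/
theorem unip_fixed (h3 : (3 : K) = 0) (M : Submodule K V) (T : Module.End K V) (hM : ∀ x ∈ M, T x ∈ M)
    (hT : ∀ x ∈ M, T (T (T x)) = x) {x : V} (hx : x ∈ M) (hx0 : x ≠ 0) : ∃ y ∈ M, y ≠ 0 ∧ T y = y := by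
  have hT3 : ∀ x ∈ M, T (T (T x - x) - (T x - x)) - (T (T x - x) - (T x - x)) = 0 := by
    intro x hx
    have : T (T (T x - x) - (T x - x)) - (T (T x - x) - (T x - x)) = (3 : K) • (T x - T (T x)) := by
      simp only [map_sub, hT x hx]
      module
    rw [this, h3, zero_smul]
  by_cases h1 : T x - x = 0
  · exact ⟨x, hx, hx0, sub_eq_zero.1 h1⟩
  · by_cases h2 : T (T x - x) - (T x - x) = 0
    · exact ⟨T x - x, M.sub_mem (hM x hx) hx, h1, sub_eq_zero.1 h2⟩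
    · exact ⟨_, M.sub_mem (hM _ (M.sub_mem (hM x hx) hx)) (M.sub_mem (hM x hx) hx), h2,
        sub_eq_zero.1 (hT3 x hx)⟩

theorem Good.claimB (hI : Irr7 e) (hV0 : V0 e ≠ ⊥) (hn : finrank K (Vp e) ≤ 4)
    (hω : (3 : K) ≠ 0 → ∃ ω : K, ω ^ 2 + ω + 1 = 0) {x : V} (h1 : e.z1 x = x) (h2 : e.ze x = x) : x = 0 := by
  have D := H.rel
  set Z : Submodule K V := Vp e ⊓ ES e.ze 1 with hZ
  have memZ : ∀ x, x ∈ Z ↔ e.z1 x = x ∧ e.ze x = x := by
    intro x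
    rw [hZ, Submodule.mem_inf, mem_Vp, mem_ES, one_smul]
  have Zy1 : ∀ x ∈ Z, e.y1 x ∈ Z := by
    intro x hx
    rw [memZ] at hx ⊢
    exact ⟨by rw [D.vz1y1, hx.1], by rw [D.vzey1, hx.2]⟩
  have Zy2 : ∀ x ∈ Z, e.y2 x ∈ Z := by
    intro x hx
    rw [memZ] at hx ⊢
    exact ⟨by rw [D.vz1y2, hx.1], by rw [D.vzey2, hx.2]⟩
  have Zc : ∀ x ∈ Z, e.c x ∈ Z := by
    intro x hx
    rw [memZ] at hx ⊢
    exact ⟨by rw [D.vz1c', hx.1], by rw [D.vzec, hx.2]⟩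
  have Zr : ∀ x ∈ Z, e.r1 x ∈ Z := by
    intro x hx
    rw [memZ] at hx ⊢
    exact ⟨by rw [D.vz1r1, hx.1], by rw [D.vzer1, hx.2]⟩
  have comm : ∀ x ∈ Z, e.y1 (e.y2 x) = e.y2 (e.y1 x) := by
    intro x hx
    rw [D.vy1y2]
    exact ((memZ _).1 (Zy2 _ (Zy1 _ hx))).2
  have hx : x ∈ Z := (memZ x).2 ⟨h1, h2⟩
  by_contra hx0
  by_cases h3 : (3 : K) = 0
  · obtain ⟨y, hy, hy0, hyy⟩ := unip_fixed h3 Z e.y1 Zy1 (fun x _ => D.vy1y1 x) hx hx0
    obtain ⟨w, hw, hw0, hww⟩ := unip_fixed h3 (Z ⊓ ES e.y1 1) e.y2 (fun x hx => ⟨Zy2 x hx.1, mem_ES.2 (by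
      have := mem_ES.1 hx.2
      rw [one_smul] at this ⊢
      rw [comm x hx.1, this])⟩) (fun x _ => D.vy2y2 x) (x := y) ⟨hy, mem_ES.2 (by rw [hyy, one_smul])⟩ hy0
    have hw1 := mem_ES.1 hw.2
    rw [one_smul] at hw1
    exact hw0 (H.claimA hI hV0 ((memZ w).1 hw.1).1 hw1 hww)
  · obtain ⟨ω, hω⟩ := hω h3
    have hω3 : ω ^ 3 = 1 := by linear_combination (ω - 1) * hω
    have hω3' : (ω ^ 2) * ω = 1 := by rw [← hω3]; ring
    -- joint eigenspaces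
    let N : K → K → ℕ := fun α β => finrank K ↥((Z ⊓ ES e.y1 α) ⊓ ES e.y2 β)
    have s0 := finrank_three Z e.y1 ω hω h3 Zy1 (fun x _ => D.vy1y1 x)
    have s : ∀ α : K, finrank K ↥(Z ⊓ ES e.y1 α) = N α 1 + N α ω + N α (ω ^ 2) := fun α =>
      finrank_three (Z ⊓ ES e.y1 α) e.y2 ω hω h3 (fun x hx => ⟨Zy2 x hx.1, mem_ES.2 (by
        rw [comm x hx.1, mem_ES.1 hx.2, map_smul])⟩) (fun x _ => D.vy2y2 x)
    rw [s, s, s] at s0
    have r : ∀ α β γ : K, β * γ = 1 → N α β ≤ N γ α := by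
      intro α β γ hβγ
      apply finrank_le_of_maps e.r1 (fun x => inj_r1 D x)
      rintro x ⟨⟨hx1, hx2⟩, hx3⟩
      replace hx3 := mem_ES.1 hx3
      have hx2' := mem_ES.1 hx2
      refine ⟨⟨Zr x hx1, mem_ES.2 ?_⟩, mem_ES.2 ?_⟩
      · have g2 := D.vr1y2 x
        rw [hx3, map_smul] at g2
        have g3 := congrArg e.y1 g2
        rw [D.vy1y1, map_smul] at g3
        calc e.y1 (e.r1 x) = (γ * β) • e.y1 (e.r1 x) := by rw [mul_comm γ β, hβγ, one_smul]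
          _ = γ • (β • e.y1 (e.r1 x)) := mul_smul _ _ _
          _ = γ • e.r1 x := by rw [← g3]
      · rw [D.vr1y1, hx2', map_smul]
    have cc : ∀ α β γ : K, β = γ * α → α ^ 3 = 1 → N α β ≤ N α γ := by
      intro α β γ hβγ hα
      apply finrank_le_of_maps e.c (fun x => inj_c D x)
      rintro x ⟨⟨hx1, hx2⟩, hx3⟩
      replace hx3 := mem_ES.1 hx3
      have hx2' := mem_ES.1 hx2
      have g1 : e.y1 (e.c x) = α • e.c x := by rw [D.vcy1, hx2', map_smul]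
      refine ⟨⟨Zc x hx1, mem_ES.2 g1⟩, mem_ES.2 ?_⟩
      have g2 := D.vcy2 x
      rw [g1, map_smul, g1, map_smul, map_smul, map_smul, map_smul, map_smul, map_smul, hx3, map_smul] at g2
      -- `α² y1² y2 c x = β c x`
      have g3 := congrArg e.y1 g2
      rw [map_smul, map_smul, D.vy1y1, map_smul, g1] at g3
      -- `α² y2 c x = β α c x`
      have g4 : e.y2 (e.c x) = (α ^ 3) • e.y2 (e.c x) := by rw [hα, one_smul]
      rw [g4, pow_succ', pow_two, mul_smul, mul_smul, g3, smul_smul, smul_smul, hβγ]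
      have : α * (γ * α) * α = γ * α ^ 3 := by ring
      rw [this, hα, mul_one]
    have n00 : N 1 1 = 0 := by
      rw [Submodule.finrank_eq_zero, Submodule.eq_bot_iff]
      rintro x ⟨⟨hx1, hx2⟩, hx3⟩
      replace hx3 := mem_ES.1 hx3
      rw [one_smul] at hx3
      have hx2' := mem_ES.1 hx2
      rw [one_smul] at hx2'
      exact H.claimA hI hV0 ((memZ x).1 hx1).1 hx2' hx3
    have a1 := r ω 1 1 (by ring)
    have a2 := r 1 ω (ω ^ 2) (by rw [mul_comm]; exact hω3')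
    have a3 := r (ω ^ 2) 1 1 (by ring)
    have a4 := r 1 (ω ^ 2) ω hω3'
    have b1 := r ω ω (ω ^ 2) (by rw [mul_comm]; exact hω3')
    have b2 := r (ω ^ 2) ω (ω ^ 2) (by rw [mul_comm]; exact hω3')
    have b3 := r (ω ^ 2) (ω ^ 2) ω hω3'
    have b4 := r ω (ω ^ 2) ω hω3'
    have c1 := cc ω 1 (ω ^ 2) hω3'.symm hω3
    have c2 := cc ω (ω ^ 2) ω (by ring) hω3
    have c3 := cc ω ω 1 (by ring) hω3
    have hle : finrank K Z ≤ 4 := le_trans (Submodule.finrank_mono inf_le_left) hn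
    have hz : finrank K Z = 0 := by omega
    rw [Submodule.finrank_eq_zero] at hz
    rw [hz, Submodule.mem_bot] at hx
    exact hx0 hx

/-- what we know about the part `z1 = 1` in dimension 11 -/
structure Plus (e : El (Module.End K V)) (σ : K) : Prop where
  hσ : σ ^ 2 + σ + 1 = 0
  three : (3 : K) ≠ 0
  ze : ∀ x, e.z1 x = x → e.ze x = σ • x
  dimU : finrank K ↥(Vp e ⊓ ES e.y1 1) = 1

theorem Good.exists_plus (hI : Irr7 e) (hV0 : V0 e ≠ ⊥) (hn : finrank K (Vp e) ≤ 4)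
    (hn' : 3 ≤ finrank K (Vp e)) (hω : (3 : K) ≠ 0 → ∃ ω : K, ω ^ 2 + ω + 1 = 0) :
    finrank K (Vp e) = 3 ∧ ∃ σ : K, Plus e σ := by
  have D := H.rel
  obtain ⟨F⟩ := exists_frame H
  -- the scalar on `V1`
  have hm : ∀ w ∈ V2 e, e.h (e.ze (e.h w)) ∈ V2 e := by
    intro w hw
    apply H.h_V1
    have h1 := mem_V1.1 (H.h_V2 hw)
    rw [mem_V1]
    exact ⟨by rw [D.vz1ze, h1.1], by rw [D.vz2ze, h1.2, map_neg]⟩
  have ha3 : ∀ w, e.a3 (e.h (e.ze (e.h w))) = e.h (e.ze (e.h (e.a3 w))) := by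
    intro w
    have h1 : ∀ y, e.a3 (e.h y) = e.h (e.r1 y) := by
      intro y
      have := D.vr1h (e.h y)
      rw [D.vhh] at this
      have h2 := congrArg e.h this
      rw [D.vhh] at h2
      exact h2.symm
    rw [h1, ← D.vzer1, D.vr1h]
  have hb3 : ∀ w, e.b3 (e.h (e.ze (e.h w))) = e.h (e.ze (e.h (e.b3 w))) := by
    intro w
    have h1 : ∀ y, e.b3 (e.h y) = e.h (e.r2 y) := by
      intro y
      have := D.vr2h (e.h y)
      rw [D.vhh] at this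
      have h2 := congrArg e.h this
      rw [D.vhh] at h2
      exact h2.symm
    rw [h1, ← D.vzer2, D.vr2h]
  have hmX : e.h (e.ze (e.h F.v)) ∈ X e i := by
    refine ⟨hm _ F.hv.1, mem_ES.2 ?_⟩
    rw [ha3, (mem_X.1 F.hv).2, map_smul, map_smul, map_smul]
  obtain ⟨σ, hσ⟩ : ∃ σ : K, e.h (e.ze (e.h F.v)) = σ • F.v := ⟨_, Frame.eq_of_mem H F hmX⟩
  have hσ2 : V2 e ≤ LinearMap.ker (e.h ∘ₗ e.ze ∘ₗ e.h - σ • (1 : Module.End K V)) := by
    have memk : ∀ y, y ∈ LinearMap.ker (e.h ∘ₗ e.ze ∘ₗ e.h - σ • (1 : Module.End K V)) ↔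
        e.h (e.ze (e.h y)) = σ • y := by
      intro y
      rw [LinearMap.mem_ker, LinearMap.sub_apply, sub_eq_zero]
      rfl
    apply H.V2_irr _ _ _ F.hv.1 ((memk _).2 hσ) (Frame.ne H F)
    · intro x hx
      rw [memk] at hx ⊢
      rw [← ha3, hx, map_smul]
    · intro x hx
      rw [memk] at hx ⊢
      rw [← hb3, hx, map_smul]
  have hσ1 : ∀ x ∈ V1 e, e.ze x = σ • x := by
    intro x hx
    have h1 : e.h (e.ze (e.h (e.h x))) = σ • e.h x := by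
      have := hσ2 (H.h_V1 hx)
      rw [LinearMap.mem_ker, LinearMap.sub_apply, sub_eq_zero] at this
      exact this
    rw [D.vhh] at h1
    have h2 := congrArg e.h h1
    rw [D.vhh, map_smul, D.vhh] at h2
    exact h2
  obtain ⟨w1, hw1, hw10⟩ := H.exists_v1
  have hσ3 : σ ^ 3 = 1 := by
    have h1 := D.vzeze w1
    have h2 := hσ1 w1 hw1
    rw [h2, map_smul, h2, map_smul, map_smul, h2, smul_smul, smul_smul] at h1
    have h3 : (σ * (σ * σ) - 1) • w1 = 0 := by rw [sub_smul, one_smul, sub_eq_zero]; nth_rewrite 2 [← h1]; congr 1; ring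
    have h4 := (smul_eq_zero.1 h3).resolve_right hw10
    linear_combination h4
  have hw1p := (mem_V1.1 hw1).1
  -- characteristic
  have h3 : (3 : K) ≠ 0 := by
    intro h3
    obtain ⟨y, hy, hy0, hyy⟩ := unip_fixed h3 (Vp e) e.ze (fun x hx => by
      rw [mem_Vp] at hx ⊢
      rw [D.vz1ze, hx]) (fun x _ => D.vzeze x) (mem_Vp.2 hw1p) hw10
    exact hy0 (H.claimB hI hV0 hn hω (mem_Vp.1 hy) hyy)
  have hσne : σ ≠ 1 := by
    intro h
    have h2 := hσ1 w1 hw1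
    rw [h, one_smul] at h2
    exact hw10 (H.claimB hI hV0 hn hω hw1p h2)
  have hσq : σ ^ 2 + σ + 1 = 0 := by
    have : (σ - 1) * (σ ^ 2 + σ + 1) = 0 := by linear_combination hσ3
    exact (mul_eq_zero.1 this).resolve_left (sub_ne_zero.2 hσne)
  have hσ0 : σ ≠ 0 := by rintro rfl; simp at hσq
  -- `ze = σ`
  set W : Submodule K V := Vp e ⊓ LinearMap.ker (e.ze * e.ze + σ • e.ze + σ ^ 2 • (1 : Module.End K V)) with hW
  have memW : ∀ x, x ∈ W ↔ e.z1 x = x ∧ e.ze (e.ze x) + σ • e.ze x + σ ^ 2 • x = 0 := by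
    intro x
    rw [hW, Submodule.mem_inf, mem_Vp, LinearMap.mem_ker]
    rfl
  have stab : ∀ T : Module.End K V, (∀ x, e.z1 (T x) = T (e.z1 x)) → (∀ x, e.ze (T x) = T (e.ze x)) →
      ∀ x ∈ W, T x ∈ W := by
    intro T h1 h2 x hx
    rw [memW] at hx ⊢
    refine ⟨by rw [h1, hx.1], ?_⟩
    have h5 := congrArg T hx.2
    rw [map_zero, map_add, map_add, map_smul, map_smul] at h5
    rw [h2, h2]
    exact h5
  have W0 : W ≤ V0 e := by
    apply H.le_V0 W (fun x hx => hx.1) (stab _ (fun x => D.vz1z2 x) (fun x => (D.vz2ze x).symm))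
    intro x hx hx1
    have h1 := ((memW x).1 hx).2
    rw [hσ1 x hx1, map_smul, hσ1 x hx1] at h1
    have h2 : (3 * σ ^ 2) • x = 0 := by rw [← h1]; module
    exact (smul_eq_zero.1 h2).resolve_left (mul_ne_zero h3 (pow_ne_zero 2 hσ0))
  have Wb := H.P1 hI W W0 (stab _ D.vz1c' D.vzec) (stab _ D.vz1y1 D.vzey1) (stab _ D.vz1y2 D.vzey2)
  have hze : ∀ x, e.z1 x = x → e.ze x = σ • x := by
    intro x hx
    have h1 : e.ze x - σ • x ∈ W := by
      rw [memW]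
      refine ⟨by rw [map_sub, map_smul, D.vz1ze, hx], ?_⟩
      simp only [map_sub, map_smul, D.vzeze]
      have : x - σ • e.ze (e.ze x) + σ • (e.ze (e.ze x) - σ • e.ze x) + σ ^ 2 • (e.ze x - σ • x) =
        (1 - σ ^ 3) • x := by module
      rw [this, hσ3, sub_self, zero_smul]
    rw [Wb, Submodule.mem_bot] at h1
    exact sub_eq_zero.1 h1
  -- dimension
  have s0 := finrank_three (Vp e) e.y1 σ hσq h3 (fun x hx => by
    rw [mem_Vp] at hx ⊢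
    rw [D.vz1y1, hx]) (fun x _ => D.vy1y1 x)
  have st : ∀ α β : K, β = σ * α → finrank K ↥(Vp e ⊓ ES e.y1 α) ≤ finrank K ↥(Vp e ⊓ ES e.y1 β) := by
    intro α β hβ
    apply finrank_le_of_maps e.y2 (fun x => inj_y2 D x)
    rintro x ⟨hx1, hx2⟩
    replace hx2 := mem_ES.1 hx2
    have hx1' := mem_Vp.1 hx1
    have h5 : e.z1 (e.y2 x) = e.y2 x := by rw [D.vz1y2, hx1']
    refine ⟨mem_Vp.2 h5, mem_ES.2 ?_⟩
    rw [D.vy1y2, hx2, map_smul, map_smul, hze _ h5, smul_smul, hβ, mul_comm]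
  have t1 := st 1 σ (by ring)
  have t2 := st σ (σ ^ 2) (by ring)
  have t3 := st (σ ^ 2) 1 (by rw [← hσ3]; ring)
  have hV : finrank K (Vp e) = 3 := by omega
  refine ⟨hV, σ, hσq, h3, hze, by omega⟩

end

end Cfsg.Agent.H36.U52
end

-- part: H36/U52/PlusTwo
section
/-!
# Two modules with the same invariants are isomorphic
-/

set_option autoImplicit false
set_option linter.unusedSectionVars false

namespace Cfsg.Agent.H36.U52

open Module

universe u v v' w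

variable {K : Type u} {V : Type v} {W : Type v'} [Field K] [AddCommGroup V] [Module K V]

/-- six times the projection onto the part `y1 = 1` of `z1 = 1` -/
def qU (e : El (Module.End K V)) (x : V) : V :=
  let x1 := x + e.z1 x
  x1 + e.y1 x1 + e.y1 (e.y1 x1)

/-- a vector and a functional -/
structure FrameP (e : El (Module.End K V)) where
  w : V
  g : V →ₗ[K] K
  hw : e.z1 w = w ∧ e.y1 w = w
  gw : g w = 1
  hg : ∀ x, (6 * g x) • w = qU e x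

/-- linear version -/
def qUl (e : El (Module.End K V)) : V →ₗ[K] V where
  toFun := qU e
  map_add' x y := by simp only [qU, map_add]; abel
  map_smul' k x := by simp only [qU, map_smul, map_add, smul_add, RingHom.id_apply]

theorem six_ne (h2 : (2 : K) ≠ 0) (h3 : (3 : K) ≠ 0) : (6 : K) ≠ 0 := by
  have : (6 : K) = 2 * 3 := by norm_num
  rw [this]
  exact mul_ne_zero h2 h3

section one

variable [FiniteDimensional K V] {e : El (Module.End K V)} {i σ : K} (H : Good e i) (P : Plus e σ)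
include H P

theorem exists_frameP : Nonempty (FrameP e) := by
  have D := H.rel
  have h6 := six_ne H.two P.three
  set U : Submodule K V := Vp e ⊓ ES e.y1 1 with hU
  have memU : ∀ x, x ∈ U ↔ e.z1 x = x ∧ e.y1 x = x := by
    intro x; rw [hU, Submodule.mem_inf, mem_Vp, mem_ES, one_smul]
  have hm : ∀ x, qU e x ∈ U := by
    intro x
    rw [memU]
    constructor
    · simp only [qU, map_add, D.vz1y1, D.vz1z1]; abel
    · simp only [qU, map_add, D.vy1y1]; abel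
  let t : U ≃ₗ[K] K := LinearEquiv.ofFinrankEq _ _ (by rw [P.dimU, finrank_self])
  let q : V →ₗ[K] U := LinearMap.codRestrict U ((6 : K)⁻¹ • qUl e) (fun x => by
    rw [LinearMap.smul_apply]
    exact U.smul_mem _ (hm x))
  have hq : ∀ x, (q x : V) = (6 : K)⁻¹ • qU e x := fun x => rfl
  refine ⟨⟨(t.symm 1 : U), t.toLinearMap ∘ₗ q, (memU _).1 (t.symm 1).2, ?_, ?_⟩⟩
  · have h1 : q ((t.symm 1 : U) : V) = t.symm 1 := by
      apply Subtype.ext
      have h2 := (memU _).1 (t.symm 1).2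
      rw [hq]
      have h3 : qU e ((t.symm 1 : U) : V) = (6 : K) • ((t.symm 1 : U) : V) := by
        simp only [qU, h2.1, map_add, h2.2]
        module
      rw [h3, smul_smul, inv_mul_cancel₀ h6, one_smul]
    rw [LinearMap.comp_apply, h1]
    exact t.apply_symm_apply 1
  · intro x
    rw [LinearMap.comp_apply]
    have h1 : (t (q x)) • (t.symm 1 : U) = q x := by
      apply t.injective
      rw [map_smul, t.apply_symm_apply, smul_eq_mul, mul_one]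
    have h2 := congrArg Subtype.val h1
    rw [Submodule.coe_smul, hq] at h2
    rw [mul_smul]
    have h3 : t.toLinearMap (q x) = t (q x) := rfl
    rw [h3, h2, smul_smul, mul_inv_cancel₀ h6, one_smul]

variable (F : FrameP e)

theorem FrameP.ne : F.w ≠ 0 := by
  intro h
  have := F.gw
  rw [h, map_zero] at this
  exact zero_ne_one this

theorem FrameP.g_of {T : Module.End K V} {k : K} (h : ∀ x, qU e (T x) = k • qU e x) (x : V) :
    F.g (T x) = k * F.g x := by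
  have h1 := F.hg (T x)
  rw [h, ← F.hg x, smul_smul, ← sub_eq_zero, ← sub_smul] at h1
  have h2 := (smul_eq_zero.1 h1).resolve_right (FrameP.ne H P F)
  have h3 : (6 : K) * (F.g (T x) - k * F.g x) = 0 := by linear_combination h2
  exact sub_eq_zero.1 ((mul_eq_zero.1 h3).resolve_left (six_ne H.two P.three))

theorem FrameP.g_z1 (x : V) : F.g (e.z1 x) = F.g x := by
  have D := H.rel
  rw [FrameP.g_of H P F (T := e.z1) (k := 1) (fun x => by
    simp only [qU, map_add, D.vz1z1, one_smul, D.vz1y1]; abel), one_mul]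

theorem FrameP.g_y1 (x : V) : F.g (e.y1 x) = F.g x := by
  have D := H.rel
  rw [FrameP.g_of H P F (T := e.y1) (k := 1) (fun x => by
    simp only [qU, map_add, D.vz1z1, one_smul, D.vz1y1, D.vy1y1]; abel), one_mul]

theorem FrameP.g_ze (x : V) : F.g (e.ze x) = σ * F.g x := by
  have D := H.rel
  apply FrameP.g_of H P F
  intro x
  have h1 : e.ze (x + e.z1 x) = σ • (x + e.z1 x) := P.ze _ (by rw [map_add, D.vz1z1]; abel)
  have h2 : e.ze x + e.z1 (e.ze x) = σ • (x + e.z1 x) := by rw [D.vz1ze, ← map_add, h1]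
  simp only [qU]
  rw [h2, map_smul, map_smul]
  module

theorem FrameP.eq_of_mem {x : V} (h1 : e.z1 x = x) (h2 : e.y1 x = x) : x = F.g x • F.w := by
  have h3 := F.hg x
  have h4 : qU e x = (6 : K) • x := by
    simp only [qU, h1, map_add, h2]; module
  rw [h4, mul_smul] at h3
  exact (smul_right_injective V (six_ne H.two P.three) h3).symm

end one

variable [AddCommGroup W] [Module K W]
variable {G : Type w} [Group G]
variable {ρ : G →* Module.End K V} {ρ' : G →* Module.End K W}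
variable {E : El G} (D : Rel E) {i σ : K}

/-- the rank one map -/
def fp (F : FrameP (E.map ρ)) (F' : FrameP (E.map ρ')) : W →ₗ[K] V := F'.g.smulRight F.w

/-- the map on `z1 = 1` -/
def ff (F : FrameP (E.map ρ)) (F' : FrameP (E.map ρ')) : W →ₗ[K] V :=
  fp F F' + tw ρ ρ' E.y2 (fp F F') + tw ρ ρ' E.y2 (tw ρ ρ' E.y2 (fp F F'))

theorem fp_apply (F : FrameP (E.map ρ)) (F' : FrameP (E.map ρ')) (x : W) : fp F F' x = F'.g x • F.w := rfl

section two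

variable [FiniteDimensional K V] [FiniteDimensional K W]
variable (H : Good (E.map ρ) i) (H' : Good (E.map ρ') i) (P : Plus (E.map ρ) σ) (P' : Plus (E.map ρ') σ)
  (F : FrameP (E.map ρ)) (F' : FrameP (E.map ρ'))
include D H H' P P'

omit D in
theorem z1_fp : E.z1 ∈ Fx ρ ρ' (fp F F') := by
  intro x
  rw [fp_apply, fp_apply, map_smul, show ρ E.z1 F.w = F.w from F.hw.1,
    show F'.g (ρ' E.z1 x) = F'.g x from FrameP.g_z1 H' P' F' x]

omit D in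
theorem y1_fp : E.y1 ∈ Fx ρ ρ' (fp F F') := by
  intro x
  rw [fp_apply, fp_apply, map_smul, show ρ E.y1 F.w = F.w from F.hw.2,
    show F'.g (ρ' E.y1 x) = F'.g x from FrameP.g_y1 H' P' F' x]

omit D in
theorem ze_fp : E.ze ∈ Fx ρ ρ' (fp F F') := by
  intro x
  rw [fp_apply, fp_apply, map_smul, show ρ E.ze F.w = σ • F.w from P.ze _ F.hw.1,
    show F'.g (ρ' E.ze x) = σ * F'.g x from FrameP.g_ze H' P' F' x, smul_smul, mul_comm]

theorem z1_ff : E.z1 ∈ Fx ρ ρ' (ff F F') := by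
  have h1 := z1_fp H H' P P' F F'
  have h2 := mem_Fx_tw' D.z1y2 h1
  exact Fx_add (Fx_add h1 h2) (mem_Fx_tw' D.z1y2 h2)

theorem y1_ff : E.y1 ∈ Fx ρ ρ' (ff F F') := by
  have h1 := y1_fp H H' P P' F F'
  have z1 := ze_fp H H' P P' F F'
  have z2 := mem_Fx_tw' D.zey2 z1
  have hr : E.y1 * E.y2 = E.y2 * (E.ze * E.y1) := by
    rw [D.y1y2, ← mul_assoc, D.zey2, mul_assoc]
  have h2 : E.y1 ∈ Fx ρ ρ' (tw ρ ρ' E.y2 (fp F F')) := mem_Fx_tw' hr (mul_mem z1 h1)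
  exact Fx_add (Fx_add h1 h2) (mem_Fx_tw' hr (mul_mem z2 h2))

theorem y2_ff : E.y2 ∈ Fx ρ ρ' (ff F F') := by
  rw [mem_Fx_iff_tw, ff, tw_add, tw_add]
  have h1 : tw ρ ρ' E.y2 (tw ρ ρ' E.y2 (tw ρ ρ' E.y2 (fp F F'))) = fp F F' := by
    rw [← tw_mul, ← tw_mul, mul_assoc, D.y23, tw_one]
  rw [h1]
  abel

theorem ff_z1 (x : W) : ff F F' (ρ' E.z1 x) = ff F F' x := by
  have h1 : ∀ x, fp F F' (ρ' E.z1 x) = fp F F' x := by
    intro x
    rw [fp_apply, fp_apply, show F'.g (ρ' E.z1 x) = F'.g x from FrameP.g_z1 H' P' F' x]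
  have h2 : ∀ (θ : W →ₗ[K] V), (∀ x, θ (ρ' E.z1 x) = θ x) → ∀ x, tw ρ ρ' E.y2 θ (ρ' E.z1 x) = tw ρ ρ' E.y2 θ x := by
    intro θ h x
    rw [tw_apply, tw_apply]
    have e1 : ρ' E.y2⁻¹ (ρ' E.z1 x) = ρ' E.z1 (ρ' E.y2⁻¹ x) := by
      rw [← ract, ← ract]
      congr 2
      rw [inv_mul_eq_iff_eq_mul, ← mul_assoc, ← D.z1y2, mul_inv_cancel_right]
    rw [e1, h]
  rw [ff, LinearMap.add_apply, LinearMap.add_apply, LinearMap.add_apply, LinearMap.add_apply, h1, h2 _ h1,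
    h2 _ (h2 _ h1)]

omit H' P' in
theorem ff_self (x : V) : (2 : K) • ff F F x = x + ρ E.z1 x := by
  have D' := H.rel
  have h6 := six_ne H.two P.three
  have y2i : ∀ y, ρ E.y2⁻¹ y = ρ E.y2 (ρ E.y2 y) := by
    intro y
    rw [← ract]
    congr 2
    rw [inv_eq_iff_mul_eq_one, D.y23]
  have hf : ∀ y, (6 : K) • fp F F y = qU (E.map ρ) y := by
    intro y
    rw [fp_apply, smul_smul, F.hg]
  have hσ3 : σ ^ 3 = 1 := by linear_combination (σ - 1) * P.hσ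
  -- commutation on `Vp`
  have key : ∀ y, (E.map ρ).z1 y = y → (E.map ρ).y2 ((E.map ρ).y1 y) = σ ^ 2 • (E.map ρ).y1 ((E.map ρ).y2 y) := by
    intro y hy
    have h1 : (E.map ρ).z1 ((E.map ρ).y2 ((E.map ρ).y1 y)) = (E.map ρ).y2 ((E.map ρ).y1 y) := by
      rw [D'.vz1y2, D'.vz1y1, hy]
    rw [D'.vy1y2, P.ze _ h1, smul_smul, ← pow_succ, hσ3, one_smul]
  set x' := x + ρ E.z1 x with hx'
  have hx1 : (E.map ρ).z1 x' = x' := by
    rw [hx', map_add]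
    have : (E.map ρ).z1 (ρ E.z1 x) = x := D'.vz1z1 x
    rw [this]
    exact add_comm _ _
  have m1 : ∀ y, (E.map ρ).z1 y = y → (E.map ρ).z1 ((E.map ρ).y1 y) = (E.map ρ).y1 y := fun y hy => by
    rw [D'.vz1y1, hy]
  have m2 : ∀ y, (E.map ρ).z1 y = y → (E.map ρ).z1 ((E.map ρ).y2 y) = (E.map ρ).y2 y := fun y hy => by
    rw [D'.vz1y2, hy]
  have q0 : qU (E.map ρ) x = x' + (E.map ρ).y1 x' + (E.map ρ).y1 ((E.map ρ).y1 x') := rfl
  have shift : ∀ y, y + (E.map ρ).z1 y = y + (E.map ρ).z1 y := fun _ => rfl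
  have q1 : qU (E.map ρ) ((E.map ρ).y2 ((E.map ρ).y2 x)) =
      (E.map ρ).y2 ((E.map ρ).y2 x') + (E.map ρ).y1 ((E.map ρ).y2 ((E.map ρ).y2 x')) +
        (E.map ρ).y1 ((E.map ρ).y1 ((E.map ρ).y2 ((E.map ρ).y2 x'))) := by
    have e1 : (E.map ρ).y2 ((E.map ρ).y2 x) + (E.map ρ).z1 ((E.map ρ).y2 ((E.map ρ).y2 x)) =
        (E.map ρ).y2 ((E.map ρ).y2 x') := by
      rw [D'.vz1y2, D'.vz1y2, hx', map_add, map_add]; rfl
    simp only [qU]
    rw [e1]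
  have q2 : qU (E.map ρ) ((E.map ρ).y2 ((E.map ρ).y2 ((E.map ρ).y2 ((E.map ρ).y2 x)))) =
      (E.map ρ).y2 x' + (E.map ρ).y1 ((E.map ρ).y2 x') + (E.map ρ).y1 ((E.map ρ).y1 ((E.map ρ).y2 x')) := by
    have e1 : (E.map ρ).y2 x + (E.map ρ).z1 ((E.map ρ).y2 x) = (E.map ρ).y2 x' := by
      rw [D'.vz1y2, hx', map_add]; rfl
    rw [D'.vy2y2]
    simp only [qU]
    rw [e1]
  have n2 := m2 _ hx1
  have n22 := m2 _ n2
  have k1 : (E.map ρ).y2 ((E.map ρ).y1 ((E.map ρ).y2 ((E.map ρ).y2 x'))) = σ ^ 2 • (E.map ρ).y1 x' := by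
    rw [key _ n22, D'.vy2y2]
  have k2 : (E.map ρ).y2 ((E.map ρ).y1 ((E.map ρ).y1 ((E.map ρ).y2 ((E.map ρ).y2 x')))) =
      σ • (E.map ρ).y1 ((E.map ρ).y1 x') := by
    rw [key _ (m1 _ n22), k1, map_smul, smul_smul]
    congr 1
    linear_combination σ * hσ3
  have k3 : (E.map ρ).y2 ((E.map ρ).y2 ((E.map ρ).y1 ((E.map ρ).y2 x'))) = σ • (E.map ρ).y1 x' := by
    rw [key _ n2, map_smul, k1, smul_smul]
    congr 1
    linear_combination σ * hσ3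
  have k4 : (E.map ρ).y2 ((E.map ρ).y2 ((E.map ρ).y1 ((E.map ρ).y1 ((E.map ρ).y2 x')))) =
      σ ^ 2 • (E.map ρ).y1 ((E.map ρ).y1 x') := by
    rw [key _ (m1 _ n2), map_smul, key _ (m1 _ (m2 _ (m1 _ hx1)) |> fun _ => by
      rw [D'.vz1y2, D'.vz1y1, D'.vz1y2, hx1]), smul_smul]
    rw [show (E.map ρ).y2 ((E.map ρ).y2 ((E.map ρ).y1 ((E.map ρ).y2 x'))) = σ • (E.map ρ).y1 x' from k3, map_smul,
      smul_smul]
    congr 1
    linear_combination (σ ^ 2) * hσ3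
  have tot : (6 : K) • ff F F x = (3 : K) • x' := by
    rw [ff, LinearMap.add_apply, LinearMap.add_apply, tw_apply, tw_apply, tw_apply, y2i, y2i, smul_add, smul_add,
      ← map_smul (ρ E.y2), ← map_smul (ρ E.y2), ← map_smul (ρ E.y2), hf, hf, hf, q0]
    change _ + (E.map ρ).y2 (qU (E.map ρ) ((E.map ρ).y2 ((E.map ρ).y2 x))) + (E.map ρ).y2 ((E.map ρ).y2
      (qU (E.map ρ) ((E.map ρ).y2 ((E.map ρ).y2 ((E.map ρ).y2 ((E.map ρ).y2 x)))))) = _
    rw [q1, q2]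
    simp only [map_add, D'.vy2y2, k1, k2, k3, k4]
    have e1 : x' + (E.map ρ).y1 x' + (E.map ρ).y1 ((E.map ρ).y1 x') +
        (x' + σ ^ 2 • (E.map ρ).y1 x' + σ • (E.map ρ).y1 ((E.map ρ).y1 x')) +
        (x' + σ • (E.map ρ).y1 x' + σ ^ 2 • (E.map ρ).y1 ((E.map ρ).y1 x')) =
        (3 : K) • x' + (σ ^ 2 + σ + 1) • (E.map ρ).y1 x' + (σ ^ 2 + σ + 1) • (E.map ρ).y1 ((E.map ρ).y1 x') := by
      module
    rw [e1, P.hσ, zero_smul, zero_smul, add_zero, add_zero]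
  have h4 : (3 : K) • ((2 : K) • ff F F x) = (3 : K) • x' := by
    rw [← tot, smul_smul]; norm_num
  exact smul_right_injective V P.three h4

theorem comp_ff {θ : W →ₗ[K] V} (h1 : E.y1 ∈ Fx ρ ρ' θ) (h2 : E.y2 ∈ Fx ρ ρ' θ) (h3 : E.z1 ∈ Fx ρ ρ' θ) :
    θ ∘ₗ ff F' F' = F.g (θ F'.w) • ff F F' := by
  have hw : θ F'.w = F.g (θ F'.w) • F.w := by
    apply FrameP.eq_of_mem H P F
    · have := h3 F'.w
      rw [show ρ' E.z1 F'.w = F'.w from F'.hw.1] at this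
      exact this
    · have := h1 F'.w
      rw [show ρ' E.y1 F'.w = F'.w from F'.hw.2] at this
      exact this
  have hc : θ ∘ₗ fp F' F' = F.g (θ F'.w) • fp F F' := by
    ext x
    rw [LinearMap.comp_apply, fp_apply, map_smul, LinearMap.smul_apply, fp_apply, smul_comm]
    congr 1
  rw [ff, LinearMap.comp_add, LinearMap.comp_add, comp_tw h2, comp_tw h2, comp_tw h2, hc, tw_smul, tw_smul,
    ← smul_add, ← smul_add, ← ff]

theorem eq_smul_ff {θ : W →ₗ[K] V} (h1 : E.y1 ∈ Fx ρ ρ' θ) (h2 : E.y2 ∈ Fx ρ ρ' θ) (h3 : E.z1 ∈ Fx ρ ρ' θ)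
    (h4 : ∀ x, θ (ρ' E.z1 x) = θ x) : θ = F.g (θ F'.w) • ff F F' := by
  rw [← comp_ff D H H' P P' F F' h1 h2 h3]
  ext x
  rw [LinearMap.comp_apply]
  have e1 := ff_self D H' P' F' x
  have e2 : (2 : K) • θ (ff F' F' x) = (2 : K) • θ x := by
    rw [← map_smul, e1, map_add, h4, two_smul]
  exact (smul_right_injective V H.two e2).symm

/-- non-vanishing: the composite in the other direction is the projection -/
theorem ff_ne : ff F F' ≠ 0 := by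
  intro h0
  have h1 : ff F F' ∘ₗ ff F' F' = F.g (ff F F' F'.w) • ff F F' :=
    comp_ff D H H' P P' F F' (y1_ff D H H' P P' F F') (y2_ff D H H' P P' F F') (z1_ff D H H' P P' F F')
  -- use the reverse composite `ff F' F ∘ ff F F'`
  have h2 : ff F F ∘ₗ fp F F' = fp F F' := by
    ext x
    rw [LinearMap.comp_apply, fp_apply, map_smul]
    congr 1
    have h3 := ff_self D H P F F.w
    rw [show ρ E.z1 F.w = F.w from F.hw.1, ← two_smul K F.w] at h3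
    exact smul_right_injective V H.two h3
  -- evaluate on `w'`: the three summands have different `y1`-eigenvalues
  have y1w : ∀ (θ : W →ₗ[K] V), E.y1 ∈ Fx ρ ρ' θ → ρ E.y1 (θ F'.w) = θ F'.w := by
    intro θ h
    rw [h, show ρ' E.y1 F'.w = F'.w from F'.hw.2]
  have D' := H.rel
  -- `tw y2 fp w' = g'(y2⁻¹ w') y2 w`, and `g' (y2⁻¹ w') = 0`
  have g0 : ∀ y : W, ρ' E.z1 y = y → ∀ α : K, α ≠ 1 → ρ' E.y1 y = α • y → F'.g y = 0 := by
    intro y hy α hα h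
    have h3 := FrameP.g_y1 H' P' F' y
    change F'.g (ρ' E.y1 y) = _ at h3
    rw [h, map_smul, smul_eq_mul] at h3
    have h4 : (α - 1) * F'.g y = 0 := by linear_combination h3
    exact (mul_eq_zero.1 h4).resolve_left (sub_ne_zero.2 hα)
  have hσ1 : σ ≠ 1 := by
    intro h
    have := P.hσ
    rw [h] at this
    apply P.three
    linear_combination this
  have hσ3 : σ ^ 3 = 1 := by linear_combination (σ - 1) * P.hσ
  have hσ2 : σ ^ 2 ≠ 1 := by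
    intro h
    apply hσ1
    linear_combination hσ3 - σ * h
  have D'' := H'.rel
  have ze' : ∀ y, ρ' E.z1 y = y → ρ' E.ze y = σ • y := P'.ze
  have hz : ∀ y, ρ' E.z1 y = y → ρ' E.z1 (ρ' E.y2 y) = ρ' E.y2 y := fun y hy => by
    have : ρ' E.z1 (ρ' E.y2 y) = ρ' E.y2 (ρ' E.z1 y) := D''.vz1y2 y
    rw [this, hy]
  have hy : ∀ y α, ρ' E.z1 y = y → ρ' E.y1 y = α • y → ρ' E.y1 (ρ' E.y2 y) = (σ * α) • ρ' E.y2 y := by
    intro y α hy1 hy2
    have h3 : ρ' E.y1 (ρ' E.y2 y) = ρ' E.ze (ρ' E.y2 (ρ' E.y1 y)) := D''.vy1y2 y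
    rw [h3, hy2, map_smul, map_smul, ze' _ (hz y hy1), smul_smul, mul_comm]
  have w1 : ρ' E.z1 F'.w = F'.w := F'.hw.1
  have w2 : ρ' E.y1 F'.w = (1 : K) • F'.w := by rw [one_smul]; exact F'.hw.2
  have y2i : ∀ y, ρ' E.y2⁻¹ y = ρ' E.y2 (ρ' E.y2 y) := by
    intro y
    rw [← ract]
    congr 2
    rw [inv_eq_iff_mul_eq_one, D.y23]
  have y222 : ∀ y, ρ' E.y2 (ρ' E.y2 (ρ' E.y2 y)) = y := D''.vy2y2
  have a1 := hy _ _ w1 w2
  have a2 := hy _ _ (hz _ w1) a1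
  have e1 : F'.g (ρ' E.y2⁻¹ F'.w) = 0 := by
    rw [y2i]
    exact g0 _ (hz _ (hz _ w1)) _ (by rw [mul_one, ← pow_two]; exact hσ2) a2
  have e2 : F'.g (ρ' E.y2⁻¹ (ρ' E.y2⁻¹ F'.w)) = 0 := by
    rw [y2i, y2i, y222]
    exact g0 _ (hz _ w1) _ (by rw [mul_one]; exact hσ1) a1
  have e3 : ff F F' F'.w = F.w := by
    rw [ff, LinearMap.add_apply, LinearMap.add_apply, tw_apply, tw_apply, tw_apply, fp_apply, fp_apply, fp_apply, e1,
      e2, F'.gw, zero_smul, one_smul, map_zero, map_zero, add_zero, add_zero]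
  rw [h0, LinearMap.zero_apply] at e3
  exact FrameP.ne H P F e3.symm

theorem semiP {g k1 k2 : G} (hz : E.z1 * g = g * E.z1) (h1 : E.y1 * g = g * k1) (h2 : E.y2 * g = g * k2)
    (m1 : k1 ∈ Fx ρ ρ' (ff F F')) (m2 : k2 ∈ Fx ρ ρ' (ff F F')) :
    ∃ μ : K, μ ≠ 0 ∧ tw ρ ρ' g (ff F F') = μ • ff F F' := by
  have h := eq_smul_ff D H H' P P' F F' (θ := tw ρ ρ' g (ff F F')) (mem_Fx_tw' h1 m1) (mem_Fx_tw' h2 m2)
    (mem_Fx_tw' hz (z1_ff D H H' P P' F F')) (by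
      intro x
      rw [tw_apply, tw_apply]
      have e1 : ρ' g⁻¹ (ρ' E.z1 x) = ρ' E.z1 (ρ' g⁻¹ x) := by
        rw [← ract, ← ract]
        congr 2
        rw [inv_mul_eq_iff_eq_mul, ← mul_assoc, ← hz, mul_inv_cancel_right]
      rw [e1, ff_z1 D H H' P P' F F'])
  refine ⟨_, ?_, h⟩
  intro h0
  rw [h0, zero_smul] at h
  have h7 : tw ρ ρ' g (ff F F') = tw ρ ρ' g 0 := by
    rw [h]; ext x; simp [tw_apply]
  exact ff_ne D H H' P P' F F' (tw_inj h7)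

theorem smul_ff_inj {k l : K} (h : k • ff F F' = l • ff F F') : k = l := by
  have : (k - l) • ff F F' = 0 := by rw [sub_smul, h, sub_self]
  exact sub_eq_zero.1 ((smul_eq_zero.1 this).resolve_right (ff_ne D H H' P P' F F'))

theorem r_ff : E.r1 ∈ Fx ρ ρ' (ff F F') ∧ E.r2 ∈ Fx ρ ρ' (ff F F') ∧
    ∃ ν : K, ν ≠ 0 ∧ tw ρ ρ' E.c (ff F F') = ν • ff F F' := by
  have y1 := y1_ff D H H' P P' F F'
  have y2 := y2_ff D H H' P P' F F'
  have y1r1 : E.y1 * E.r1 = E.r1 * (E.y2 * E.y2) := by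
    have h1 := D.r1y2
    have h3 := D.y13
    calc E.y1 * E.r1 = E.y1 * (E.y1 * E.y1) * (E.y1 * E.r1) := by rw [h3, one_mul]
      _ = E.y1 * E.y1 * (E.y1 * E.y1 * E.r1) := by simp only [mul_assoc]
      _ = E.y1 * E.y1 * (E.r1 * E.y2) := by rw [h1]
      _ = (E.y1 * E.y1 * E.r1) * E.y2 := by simp only [mul_assoc]
      _ = (E.r1 * E.y2) * E.y2 := by rw [h1]
      _ = E.r1 * (E.y2 * E.y2) := by simp only [mul_assoc]
  have y2c : E.y2 * E.c = E.c * (E.y1 * E.y2 * E.y1) := by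
    have h1 := D.cy2
    have h3 := D.y13
    have h4 := D.cy1
    calc E.y2 * E.c = (E.y1 * (E.y1 * E.y1)) * E.y2 * (E.y1 * (E.y1 * E.y1)) * E.c := by rw [h3, one_mul, mul_one]
      _ = E.y1 * (E.y1 * E.y1 * E.y2 * E.y1 * E.y1) * (E.y1 * E.c) := by simp only [mul_assoc]
      _ = E.y1 * (E.y1 * E.y1 * E.y2 * E.y1 * E.y1 * E.c) * E.y1 := by rw [← h4]; simp only [mul_assoc]
      _ = (E.y1 * E.c) * (E.y2 * E.y1) := by rw [← h1]; simp only [mul_assoc]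
      _ = E.c * (E.y1 * E.y2 * E.y1) := by rw [← h4]; simp only [mul_assoc]
  obtain ⟨μ, hμ, h⟩ := semiP D H H' P P' F F' D.z1r1 y1r1 D.r1y1.symm (mul_mem y2 y2) y1
  obtain ⟨ν, hν, h'⟩ := semiP D H H' P P' F F' D.z1c D.cy1.symm y2c y1 (mul_mem (mul_mem y1 y2) y1)
  have h1 := congrArg (fun g => tw ρ ρ' g (ff F F')) D.cr1
  simp only [tw_mul, h, h', tw_smul] at h1
  -- `μ ν ff = ν tw r2 ff`
  have h1' : tw ρ ρ' E.r2 (ff F F') = μ • ff F F' := by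
    have h3 : ν • tw ρ ρ' E.r2 (ff F F') = ν • (μ • ff F F') := by rw [← h1, smul_comm]
    have h4 := congrArg (fun z => ν⁻¹ • z) h3
    simp only [smul_smul, inv_mul_cancel₀ hν, one_smul] at h4
    rw [h4, ← mul_assoc, inv_mul_cancel₀ hν, one_mul]
  have h2 := congrArg (fun g => tw ρ ρ' g (ff F F')) D.cr2
  simp only [tw_mul, h, h', h1', tw_smul, smul_smul] at h2
  have h2' := smul_ff_inj D H H' P P' F F' h2
  have h3 : μ = 1 := by
    have : (ν * μ) * (μ - 1) = 0 := by linear_combination -h2'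
    exact sub_eq_zero.1 ((mul_eq_zero.1 this).resolve_left (mul_ne_zero hν hμ))
  refine ⟨?_, ?_, ν, hν, h'⟩
  · rw [mem_Fx_iff_tw, h, h3, one_smul]
  · rw [mem_Fx_iff_tw, h1', h3, one_smul]

end two

end Cfsg.Agent.H36.U52
end

-- part: H36/U52/Compare
section
/-!
# Modules of dimension 10 or 11 with the same invariants are isomorphic
-/

set_option autoImplicit false
set_option linter.unusedSectionVars false

namespace Cfsg.Agent.H36.U52

open Module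

universe u v v' w

variable {K : Type u} {V : Type v} {W : Type v'} [Field K] [AddCommGroup V] [Module K V]
  [AddCommGroup W] [Module K W] [FiniteDimensional K V] [FiniteDimensional K W]
variable {G : Type w} [Group G]
variable {ρ : G →* Module.End K V} {ρ' : G →* Module.End K W}
variable {E : El G} (D : Rel E) {i σ s : K}

/-- the seven generators -/
def gens (E : El G) : Set G := {E.b1, E.b2, E.h, E.a3, E.c, E.y1, E.y2}

/-- a non-zero map commuting with the generators gives the same traces -/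
theorem trace_eq (hgen : Subgroup.closure (gens E) = ⊤) (hI : Irr7 (E.map ρ)) (hI' : Irr7 (E.map ρ'))
    {θ : W →ₗ[K] V} (h0 : θ ≠ 0) (hθ : gens E ⊆ Fx ρ ρ' θ) (g : G) :
    LinearMap.trace K V (ρ g) = LinearMap.trace K W (ρ' g) := by
  have hall : ∀ g, g ∈ Fx ρ ρ' θ := by
    intro g
    have h1 := (Subgroup.closure_le (Fx ρ ρ' θ)).2 hθ
    rw [hgen] at h1
    exact h1 trivial
  have hk : LinearMap.ker θ = ⊥ := by
    have hs : ∀ g, ∀ x ∈ LinearMap.ker θ, ρ' g x ∈ LinearMap.ker θ := by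
      intro g x hx
      rw [LinearMap.mem_ker] at hx ⊢
      rw [← hall g x, hx, map_zero]
    rcases hI' (LinearMap.ker θ) (hs _) (hs _) (hs _) (hs _) (hs _) (hs _) (hs _) with h | h
    · exact h
    · exact absurd (LinearMap.ker_eq_top.1 h) h0
  have hr : LinearMap.range θ = ⊤ := by
    have hs : ∀ g, ∀ x ∈ LinearMap.range θ, ρ g x ∈ LinearMap.range θ := by
      rintro g _ ⟨x, rfl⟩
      exact ⟨ρ' g x, (hall g x).symm⟩
    rcases hI (LinearMap.range θ) (hs _) (hs _) (hs _) (hs _) (hs _) (hs _) (hs _) with h | h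
    · exact absurd (LinearMap.range_eq_bot.1 h) h0
    · exact h
  let t : W ≃ₗ[K] V := LinearEquiv.ofBijective θ ⟨LinearMap.ker_eq_bot.1 hk, LinearMap.range_eq_top.1 hr⟩
  have h1 : ρ g = t.conj (ρ' g) := by
    ext x
    rw [LinearEquiv.conj_apply_apply]
    change ρ g x = θ (ρ' g (t.symm x))
    rw [← hall g]
    congr 1
    exact (t.apply_symm_apply x).symm
  rw [h1, LinearMap.trace_conj']

section ten

variable (H : Good (E.map ρ) i) (H' : Good (E.map ρ') i)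

theorem y_triv {e : El (Module.End K V)} (H : Good e i) (hV0 : V0 e = ⊥) {x : V} (hx : e.z1 x = x) :
    e.y1 x = x ∧ e.y2 x = x := by
  have D := H.rel
  have hz : ∀ x, e.z1 x = x → e.z2 x = -x := by
    intro x hx
    have h1 : x + e.z2 x ∈ V0 e := mem_V0.2 ⟨by rw [map_add, D.vz1z2, hx], by rw [map_add, D.vz2z2]; abel⟩
    rw [hV0, Submodule.mem_bot] at h1
    exact (neg_eq_of_add_eq_zero_right h1).symm
  constructor
  · have h1 := D.vz2y1 x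
    rw [hz _ (by rw [D.vz1y1, hx]), hz x hx, map_neg, map_neg, neg_inj] at h1
    have h2 := congrArg e.y1 (congrArg e.y1 h1)
    rw [D.vy1y1] at h2
    exact h2.symm
  · have h1 := D.vz2y2 x
    rw [hz _ (by rw [D.vz1y2, hx]), hz x hx, map_neg, map_neg, neg_inj] at h1
    have h2 := congrArg e.y2 (congrArg e.y2 h1)
    rw [D.vy2y2] at h2
    exact h2.symm

include D H H'

/-- elements acting trivially on `z1 = 1` -/
theorem triv_mem {θ : W →ₗ[K] V} (hz : ∀ x, θ (ρ' E.z1 x) = θ x) (hr : ∀ x, ρ E.z1 (θ x) = θ x) {g : G}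
    (hg : E.z1 * g = g * E.z1)
    (h1 : ∀ x, ρ E.z1 x = x → ρ g x = x) (h2 : ∀ x, ρ' E.z1 x = x → ρ' g x = x) : g ∈ Fx ρ ρ' θ := by
  intro x
  rw [h1 _ (hr x)]
  have e1 : (2 : K) • θ x = (2 : K) • θ (ρ' g x) := by
    have e2 : ∀ y, (2 : K) • θ y = θ (y + ρ' E.z1 y) := by
      intro y
      rw [map_add, hz, two_smul]
    rw [e2, e2]
    have e3 : ρ' g x + ρ' E.z1 (ρ' g x) = ρ' g (x + ρ' E.z1 x) := by
      rw [map_add, ← ract, ← ract, hg]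
    rw [e3, h2 _ (by
      rw [map_add, show ρ' E.z1 (ρ' E.z1 x) = x from H'.rel.vz1z1 x]; abel)]
  exact smul_right_injective V H.two e1

theorem compare_ten (hV0 : V0 (E.map ρ) = ⊥) (hV0' : V0 (E.map ρ') = ⊥) (hs : CS (E.map ρ) s)
    (hs' : CS (E.map ρ') s) : ∃ θ : W →ₗ[K] V, θ ≠ 0 ∧ gens E ⊆ Fx ρ ρ' θ := by
  obtain ⟨F⟩ := exists_frame H
  obtain ⟨F'⟩ := exists_frame H'
  have hc := c_tm D H H' F F' hs hs'
  obtain ⟨⟨a3, b1, b2, c, r1, r2⟩, hh⟩ := glue D H H' F F' hc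
  have z1 := t1_z1 D H H' F F'
  have z1' : ∀ x, ρ E.z1 (t1 F F' x) = t1 F F' x := fun x => (mem_V1.1 (t1_mem D H H' F F' x)).1
  refine ⟨tm F F' + t1 F F', ?_, ?_⟩
  · intro h0
    have h1 := LinearMap.congr_fun h0 F'.v
    rw [LinearMap.add_apply, tm_v D H H' F F', LinearMap.zero_apply] at h1
    have h2 := z1 F'.v
    rw [show ρ' E.z1 F'.v = -F'.v from (mem_X.1 F'.hv).1.1.1, map_neg] at h2
    rw [half H.two h2.symm, add_zero] at h1
    exact Frame.ne H F h1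
  · have y1 : E.y1 ∈ Fx ρ ρ' (t1 F F') := triv_mem D H H' z1 z1' D.z1y1
      (fun x hx => (y_triv H hV0 hx).1) (fun x hx => (y_triv H' hV0' hx).1)
    have y2 : E.y2 ∈ Fx ρ ρ' (t1 F F') := triv_mem D H H' z1 z1' D.z1y2
      (fun x hx => (y_triv H hV0 hx).2) (fun x hx => (y_triv H' hV0' hx).2)
    rintro g (rfl | rfl | rfl | rfl | rfl | rfl | rfl)
    · exact Fx_add (b1_tm D H H' F F') b1
    · exact Fx_add (b2_tm D H H' F F') b2
    · exact hh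
    · exact Fx_add (a3_tm D H H' F F') a3
    · exact Fx_add hc c
    · exact Fx_add (y1_tm D H H' F F') y1
    · exact Fx_add (y2_tm D H H' F F') y2

theorem t1_ne (F : Frame (E.map ρ) i) (F' : Frame (E.map ρ') i) : t1 F F' ≠ 0 := by
  intro h
  have h1 : tw ρ ρ' E.h (t2 F F') = tw ρ ρ' E.h 0 := by
    rw [← t1, h]; ext x; simp [tw_apply]
  exact t2_ne D H H' F F' (tw_inj h1)

/-- **Uniqueness on `V1`** -/
theorem eq_smul_t1 (F : Frame (E.map ρ) i) (F' : Frame (E.map ρ') i) {θ : W →ₗ[K] V}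
    (h1 : E.r1 ∈ Fx ρ ρ' θ) (h2 : E.r2 ∈ Fx ρ ρ' θ) (h3 : ∀ x, θ (ρ' E.z1 x) = θ x)
    (h4 : ∀ x, θ (ρ' E.z2 x) = -θ x) (h5 : E.z1 ∈ Fx ρ ρ' θ) (h6 : E.z2 ∈ Fx ρ ρ' θ) :
    ∃ κ : K, θ = κ • t1 F F' := by
  have hh : E.h * E.h = 1 := D.hh
  have conj : ∀ {x y : G}, y * E.h = E.h * x → x * E.h = E.h * y := by
    intro x y h
    calc x * E.h = E.h * E.h * x * E.h := by rw [hh, one_mul]
      _ = E.h * (E.h * x) * E.h := by simp only [mul_assoc]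
      _ = E.h * y * (E.h * E.h) := by rw [← h]; simp only [mul_assoc]
      _ = E.h * y := by rw [hh, mul_one]
  have hinv : E.h⁻¹ = E.h := by rw [inv_eq_iff_mul_eq_one, hh]
  set φ := tw ρ ρ' E.h θ with hφ
  have φz1 : ∀ x, φ (ρ' E.z1 x) = - φ x := by
    intro x
    rw [hφ, tw_apply, tw_apply, hinv]
    have e1 : ρ' E.h (ρ' E.z1 x) = ρ' E.z2 (ρ' E.h x) := by
      rw [← ract, ← ract, D.z2h]
    rw [e1, h4, map_neg]
  have φz2 : ∀ x, φ (ρ' E.z2 x) = φ x := by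
    intro x
    rw [hφ, tw_apply, tw_apply, hinv]
    have e1 : ρ' E.h (ρ' E.z2 x) = ρ' E.z1 (ρ' E.h x) := by
      rw [← ract, ← ract, D.z1h]
    rw [e1, h3]
  have φa3 : E.a3 ∈ Fx ρ ρ' φ := mem_Fx_tw' (conj D.r1h) h1
  have φb3 : E.b3 ∈ Fx ρ ρ' φ := mem_Fx_tw' (conj D.r2h) h2
  -- image in `V2`
  have φim : ∀ x, φ x ∈ V2 (E.map ρ) := by
    intro x
    apply H.toV2
    · have e1 : E.z1 ∈ Fx ρ ρ' φ := mem_Fx_tw' D.z1h h6
      rw [show (E.map ρ).z1 (φ x) = φ (ρ' E.z1 x) from e1 x, φz1]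
    · have e1 : E.z2 ∈ Fx ρ ρ' φ := mem_Fx_tw' D.z2h h5
      rw [show (E.map ρ).z2 (φ x) = φ (ρ' E.z2 x) from e1 x, φz2]
  have four : (4 : K) ≠ 0 := by
    have : (4 : K) = 2 * 2 := by norm_num
    rw [this]
    exact mul_ne_zero H.two H.two
  have P2f : ∀ x, (4 : K) • t2 F' F' x = (x + ρ' E.z2 x) - ρ' E.z1 (x + ρ' E.z2 x) := by
    intro x
    have e1 := tm_t2 D H' H' F' F' x
    have e2 := tm_self D H' F' (x + ρ' E.z2 x)
    have e3 : (4 : K) • t2 F' F' x = (2 : K) • ((2 : K) • t2 F' F' x) := by rw [smul_smul]; norm_num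
    rw [e3, ← e1]
    exact e2
  have φP : ∀ x, φ (t2 F' F' x) = φ x := by
    intro x
    have e1 : (4 : K) • φ (t2 F' F' x) = (4 : K) • φ x := by
      rw [← map_smul, P2f, map_sub, φz1, map_add, φz2]
      module
    exact smul_right_injective V four e1
  have φa1 : E.a1 ∈ Fx ρ ρ' φ := by
    intro x
    rw [show ρ E.a1 (φ x) = - φ x from (mem_V2.1 (φim x)).1.2, ← φP (ρ' E.a1 x),
      ← a1_t2 D H' H' F' F' x, show ρ' E.a1 (t2 F' F' x) = -(t2 F' F' x) from (mem_V2.1 (t2_mem D H' H' F' F' x)).1.2,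
      map_neg, φP]
  have φa2 : E.a2 ∈ Fx ρ ρ' φ := by
    intro x
    rw [show ρ E.a2 (φ x) = - φ x from (mem_V2.1 (φim x)).2, ← φP (ρ' E.a2 x),
      ← a2_t2 D H' H' F' F' x, show ρ' E.a2 (t2 F' F' x) = -(t2 F' F' x) from (mem_V2.1 (t2_mem D H' H' F' F' x)).2,
      map_neg, φP]
  have key := eq_smul_t2 D H H' F F' φa1 φa2 φa3 φb3 (by ext x; exact φP x)
  refine ⟨F.f (φ F'.v), ?_⟩
  have e1 : tw ρ ρ' E.h φ = θ := by rw [hφ, ← tw_mul, hh, tw_one]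
  rw [← e1]
  nth_rewrite 1 [key]
  rw [tw_smul, t1]

theorem compare_eleven (hI : Irr7 (E.map ρ)) (P : Plus (E.map ρ) σ) (P' : Plus (E.map ρ') σ)
    (hs : CS (E.map ρ) s) (hs' : CS (E.map ρ') s) : ∃ θ : W →ₗ[K] V, θ ≠ 0 ∧ gens E ⊆ Fx ρ ρ' θ := by
  obtain ⟨F⟩ := exists_frame H
  obtain ⟨F'⟩ := exists_frame H'
  obtain ⟨N⟩ := exists_frameP H P
  obtain ⟨N'⟩ := exists_frameP H' P'
  have hc := c_tm D H H' F F' hs hs'
  obtain ⟨⟨a3, b1, b2, c, r1, r2⟩, hh⟩ := glue D H H' F F' hc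
  obtain ⟨fr1, fr2, ν, hν, fc⟩ := r_ff D H H' P P' N N'
  set f := ff N N' with hf
  have fz1 : ∀ x, f (ρ' E.z1 x) = f x := ff_z1 D H H' P P' N N'
  have fz1' : E.z1 ∈ Fx ρ ρ' f := z1_ff D H H' P P' N N'
  have fz1'' : ∀ x, ρ E.z1 (f x) = f x := fun x => by rw [fz1' x, fz1]
  have fz2' : E.z2 ∈ Fx ρ ρ' f := by rw [← D.r1r1]; exact mul_mem fr1 fr1
  -- the part on `V1`
  let f1 : W →ₗ[K] V := f - f ∘ₗ ρ' E.z2
  let f0 : W →ₗ[K] V := f + f ∘ₗ ρ' E.z2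
  have f1a : ∀ x, f1 x = f x - f (ρ' E.z2 x) := fun x => rfl
  have f0a : ∀ x, f0 x = f x + f (ρ' E.z2 x) := fun x => rfl
  have z2z2 : ∀ x, ρ' E.z2 (ρ' E.z2 x) = x := H'.rel.vz2z2
  have z1z2 : ∀ x, ρ' E.z1 (ρ' E.z2 x) = ρ' E.z2 (ρ' E.z1 x) := H'.rel.vz1z2
  have lift : ∀ g, E.z2 * g = g * E.z2 → g ∈ Fx ρ ρ' f → g ∈ Fx ρ ρ' f1 := by
    intro g hz hg x
    rw [f1a, f1a, map_sub, hg, hg, ← ract, ← ract, hz]
  obtain ⟨κ, hκ⟩ := eq_smul_t1 D H H' F F' (θ := f1) (lift _ D.z2r1 fr1) (lift _ D.z2r2 fr2)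
    (fun x => by rw [f1a, f1a, fz1, ← z1z2, fz1]) (fun x => by rw [f1a, f1a, z2z2]; abel)
    (lift _ (D.z1z2.symm) fz1') (lift _ rfl fz2')
  -- `κ ≠ 0`
  have hκ0 : κ ≠ 0 := by
    intro h0
    rw [h0, zero_smul] at hκ
    have h1 : ∀ x, f (ρ' E.z2 x) = f x := by
      intro x
      have := LinearMap.congr_fun hκ x
      rw [f1a, LinearMap.zero_apply, sub_eq_zero] at this
      exact this.symm
    have h2 : LinearMap.range f = ⊥ := by
      apply H.P1 hI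
      · rintro _ ⟨x, rfl⟩
        refine mem_V0.2 ⟨fz1'' x, ?_⟩
        rw [show (E.map ρ).z2 (f x) = f (ρ' E.z2 x) from fz2' x, h1]
      · rintro _ ⟨x, rfl⟩
        have h3 := LinearMap.congr_fun fc (ρ' E.c x)
        rw [tw_apply, ract_inv'] at h3
        exact ⟨ν • ρ' E.c x, by rw [map_smul]; exact h3.symm⟩
      · rintro _ ⟨x, rfl⟩
        exact ⟨ρ' E.y1 x, (y1_ff D H H' P P' N N' x).symm⟩
      · rintro _ ⟨x, rfl⟩
        exact ⟨ρ' E.y2 x, (y2_ff D H H' P P' N N' x).symm⟩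
    exact ff_ne D H H' P P' N N' (LinearMap.range_eq_bot.1 h2)
  -- `ν = 1`
  have hν1 : ν = 1 := by
    have h1 : tw ρ ρ' E.c f1 = ν • f1 := by
      ext x
      have h2 := LinearMap.congr_fun fc x
      have h3 := LinearMap.congr_fun fc (ρ' E.z2 x)
      rw [tw_apply, LinearMap.smul_apply] at h2 h3
      rw [tw_apply, LinearMap.smul_apply, f1a, f1a, map_sub, smul_sub, h2, ← h3]
      congr 3
      rw [← ract, ← ract]
      congr 2
      rw [eq_comm, inv_mul_eq_iff_eq_mul, ← mul_assoc, ← D.z2c, mul_inv_cancel_right]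
    rw [hκ, tw_smul, mem_Fx_iff_tw.1 c, smul_smul, ← sub_eq_zero, ← sub_smul] at h1
    have h2 := (smul_eq_zero.1 h1).resolve_right (t1_ne D H H' F F')
    have h3 : κ * (ν - 1) = 0 := by linear_combination -h2
    exact sub_eq_zero.1 ((mul_eq_zero.1 h3).resolve_left hκ0)
  have fc' : E.c ∈ Fx ρ ρ' f := by rw [mem_Fx_iff_tw, fc, hν1, one_smul]
  -- the glued map
  have hb1 : E.b1 ∈ Fx ρ ρ' f := triv_mem D H H' fz1 fz1'' D.z1b1 H.b1_triv H'.b1_triv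
  have hb2 : E.b2 ∈ Fx ρ ρ' f := triv_mem D H H' fz1 fz1'' D.z1b2 H.b2_triv H'.b2_triv
  have ha3 : E.a3 ∈ Fx ρ ρ' f := triv_mem D H H' fz1 fz1'' D.z1a3 H.a3_triv H'.a3_triv
  have hf0 : E.h ∈ Fx ρ ρ' f0 := by
    intro x
    have e1 : f0 x ∈ V0 (E.map ρ) := by
      refine mem_V0.2 ⟨?_, ?_⟩
      · change ρ E.z1 (f0 x) = _
        rw [f0a, map_add, fz1'', fz1'']
      · change ρ E.z2 (f0 x) = _
        rw [f0a, map_add, fz2', fz2', z2z2, add_comm]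
    rw [show ρ E.h (f0 x) = f0 x from H.hV0 e1]
    have g1 : ∀ y, f0 (ρ' E.z1 y) = f0 y := fun y => by rw [f0a, f0a, fz1, ← z1z2, fz1]
    have g2 : ∀ y, f0 (ρ' E.z2 y) = f0 y := fun y => by rw [f0a, f0a, z2z2, add_comm]
    have g3 : ∀ y, (4 : K) • f0 y = f0 ((y + ρ' E.z2 y) + ρ' E.z1 (y + ρ' E.z2 y)) := by
      intro y
      rw [map_add, g1, map_add, g2]; module
    have g4 : (x + ρ' E.z2 x) + ρ' E.z1 (x + ρ' E.z2 x) ∈ V0 (E.map ρ') := by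
      have z1z1 : ∀ x, ρ' E.z1 (ρ' E.z1 x) = x := H'.rel.vz1z1
      refine mem_V0.2 ⟨?_, ?_⟩
      · change ρ' E.z1 _ = _
        rw [map_add, z1z1]; abel
      · change ρ' E.z2 _ = _
        rw [map_add, ← z1z2, map_add, z2z2, add_comm (ρ' E.z2 x) x]
    have g5 : (4 : K) • f0 (ρ' E.h x) = (4 : K) • f0 x := by
      rw [g3, g3]
      have g6 : (ρ' E.h x + ρ' E.z2 (ρ' E.h x)) + ρ' E.z1 (ρ' E.h x + ρ' E.z2 (ρ' E.h x)) =
          ρ' E.h ((x + ρ' E.z2 x) + ρ' E.z1 (x + ρ' E.z2 x)) := by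
        have k1 : ∀ y, ρ' E.z1 (ρ' E.h y) = ρ' E.h (ρ' E.z2 y) := fun y => by rw [← ract, ← ract, D.z1h]
        have k2 : ∀ y, ρ' E.z2 (ρ' E.h y) = ρ' E.h (ρ' E.z1 y) := fun y => by rw [← ract, ← ract, D.z2h]
        simp only [map_add, k1, k2, z1z2]
        abel
      rw [g6, show ρ' E.h _ = _ from H'.hV0 g4]
    have four : (4 : K) ≠ 0 := by
      have : (4 : K) = 2 * 2 := by norm_num
      rw [this]
      exact mul_ne_zero H.two H.two
    exact (smul_right_injective V four g5).symm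
  refine ⟨(2 * κ⁻¹) • f + tm F F', ?_, ?_⟩
  · intro h0
    have h1 := LinearMap.congr_fun h0 F'.v
    rw [LinearMap.add_apply, tm_v D H H' F F', LinearMap.zero_apply, LinearMap.smul_apply] at h1
    have h2 := fz1 F'.v
    rw [show ρ' E.z1 F'.v = -F'.v from (mem_X.1 F'.hv).1.1.1, map_neg] at h2
    rw [half H.two h2.symm, smul_zero, zero_add] at h1
    exact Frame.ne H F h1
  · rintro g (rfl | rfl | rfl | rfl | rfl | rfl | rfl)
    · exact Fx_add (Fx_smul _ hb1) (b1_tm D H H' F F')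
    · exact Fx_add (Fx_smul _ hb2) (b2_tm D H H' F F')
    · have e1 : (2 * κ⁻¹) • f + tm F F' = κ⁻¹ • f0 + (tm F F' + t1 F F') := by
        have e2 : (2 : K) • f = f0 + f1 := by
          ext x
          rw [LinearMap.add_apply, f0a, f1a, LinearMap.smul_apply]; module
        rw [mul_comm, mul_smul, e2, smul_add, hκ, smul_smul, inv_mul_cancel₀ hκ0, one_smul]
        abel
      rw [e1]
      exact Fx_add (Fx_smul _ hf0) hh
    · exact Fx_add (Fx_smul _ ha3) (a3_tm D H H' F F')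
    · exact Fx_add (Fx_smul _ fc') hc
    · exact Fx_add (Fx_smul _ (y1_ff D H H' P P' N N')) (y1_tm D H H' F F')
    · exact Fx_add (Fx_smul _ (y2_ff D H H' P P' N N')) (y2_tm D H H' F F')

end ten

end Cfsg.Agent.H36.U52
end

private theorem dce_af3553c9f964 : _root_.True := by
  try have : _root_.True := by simp only [_root_.Cfsg.Agent.H36.U52.V0.eq_1]
  try have : _root_.True := by simp only [_root_.Cfsg.Agent.H36.U52.Vp.eq_1]
  try have : _root_.True := by simp only [_root_.Cfsg.Agent.H36.U52.TT.eq_1]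
  try have : _root_.True := by simp only [_root_.Cfsg.Agent.H36.U52.V3.eq_1]
  try have : _root_.True := by simp only [_root_.Cfsg.Agent.H36.U52.p3.eq_1]
  try have : _root_.True := by simp only [_root_.Cfsg.Agent.H36.U52.tm.eq_1]
  try have : _root_.True := by simp only [_root_.Cfsg.Agent.H36.U52.pX.eq_1]
  try have : _root_.True := by simp only [_root_.Cfsg.Agent.H36.U52.qU.eq_1]
  try have : _root_.True := by simp only [_root_.Cfsg.Agent.H36.U52.Vm.eq_1]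
  try have : _root_.True := by simp only [_root_.Cfsg.Agent.H36.U52.t3.eq_1]
  try have : _root_.True := by simp only [_root_.Cfsg.Agent.H36.U52.t2.eq_1]
  try have : _root_.True := by simp only [_root_.Cfsg.Agent.H36.U52.V2.eq_1]
  try have : _root_.True := by simp only [_root_.Cfsg.Agent.H36.U52.t1.eq_1]
  try have : _root_.True := by simp only [_root_.Cfsg.Agent.H36.U52.X.eq_1]
  try have : _root_.True := by simp only [_root_.Cfsg.Agent.H36.U52.ff.eq_1]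
  try have : _root_.True := by simp only [_root_.Cfsg.Agent.H36.U52.V1.eq_1]
  try have : _root_.True := by simp only [_root_.Cfsg.Agent.H36.U52.p4.eq_1]
  try have : _root_.True := by simp only [_root_.Cfsg.Agent.H36.U52.El.map.eq_1]
  exact _root_.True.intro
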